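import Cfsg.Agent.Lib.GoldSC.Inner

/-!
The action on `A` of the elements of a component moved by `A`: odd modulo the centraliser of the component, and each
of them commutes with an element of `A` outside that centraliser whenever it is trivial modulo it.

Blueprint: `blueprint/Goldschmidt.md`, E.
-/

set_option autoImplicit false
set_option linter.unusedSectionVars false
set_option linter.style.haveILetI false

namespace CfsgLib.GoldSC

open Cfsg Subgroup CfsgLib CfsgLib.Comp
open CfsgLib.S3Simple (Closed component_isSimple component_not_comm)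

universe u

variable {M : Type u} [Group M] [Finite M] {T : Sylow 2 M} {A E : Subgroup M}

/-- An odd power of an element of the component normalising `A` is trivial on `A` modulo the centraliser of the
component. -/
theorem Ctx.exists_odd_pow (hM : Ctx M) (hA : Closed T A) (hE : IsComponent E)
    (hne : ¬ A ≤ centralizer (E : Set M)) {e : M} (heE : e ∈ E) (heA : e ∈ normalizer (A : Set M)) :
    ∃ m : ℕ, Odd m ∧ ∀ x ∈ A, e ^ m * x * (e ^ m)⁻¹ * x⁻¹ ∈ centralizer (E : Set M) := by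
  classical
  haveI : Fact (Nat.Prime 2) := ⟨Nat.prime_two⟩
  haveI := component_isSimple hE
  set K := ↥E ⧸ center ↥E with hK
  set π := QuotientGroup.mk' (center ↥E) with hπ
  obtain ⟨P, hP⟩ := CfsgLib.CharPLocal.exists_sylow_subnormal T hE.1
  let TQ : Sylow 2 K := P.mapSurjective (QuotientGroup.mk'_surjective _)
  have hloc := (hM.comp_listed hA hE hne).loc TQ
  set V : Subgroup K := (A.subgroupOf E).map π with hV
  have hTV : (TQ : Subgroup K) ≤ centralizer (V : Set K) := fun t ht => by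
    rintro _ ⟨v, hv, rfl⟩
    exact hloc.central _ ((hM.image_closed hA hE hP).1 ⟨v, hv, rfl⟩)
      (by rw [← map_mul, show v * v = 1 from Subtype.ext (hA.sq hv), map_one]) t ht
  set N := normalizer (V : Set K) with hN
  set C := (centralizer (V : Set K)).subgroupOf N with hC
  haveI : C.Normal := by
    rw [hC, hN, ← V.normalizerMonoidHom_ker]
    infer_instance
  have hodd : Odd C.index := by
    refine Nat.odd_iff.mpr (Nat.two_dvd_ne_zero.mp fun h2 => TQ.not_dvd_index ?_)
    exact (h2.trans (relIndex_dvd_index_of_le (centralizer_le_normalizer' V))).trans (index_dvd_of_le hTV)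
  have hmem : π ⟨e, heE⟩ ∈ N := mem_normalizer_of_maps fun y hy => by
    obtain ⟨v, hv, rfl⟩ := hy
    exact ⟨⟨e, heE⟩ * v * ⟨e, heE⟩⁻¹, (mem_normalizer_iff.mp heA _).mp hv, by rw [map_mul, map_mul, map_inv]⟩
  refine ⟨C.index, hodd, fun x hx => ?_⟩
  have hcent : π ⟨e, heE⟩ ^ C.index ∈ centralizer (V : Set K) :=
    C.pow_index_mem (⟨π ⟨e, heE⟩, hmem⟩ : N)
  obtain ⟨v, hv, hvx⟩ := hM.exists_inner_part hA hE hne hx
  set f := e ^ C.index with hf
  have hfE : f ∈ E := pow_mem heE _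
  have hx' : x = v * (v * x) := by rw [← mul_assoc, hA.sq hv.1, one_mul]
  have hfc : f * (v * x) = v * x * f := hvx f hfE
  have he : f * x * f⁻¹ * x⁻¹ = f * v * f⁻¹ * v⁻¹ := by
    rw [hx']
    calc f * (v * (v * x)) * f⁻¹ * (v * (v * x))⁻¹ = f * v * ((v * x) * f⁻¹) * (v * x)⁻¹ * v⁻¹ := by group
      _ = f * v * (f⁻¹ * (v * x)) * (v * x)⁻¹ * v⁻¹ := by rw [hvx _ (inv_mem hfE)]
      _ = _ := by group
  rw [he]
  have hcomm : π ⟨f, hfE⟩ * π ⟨v, hv.2⟩ = π ⟨v, hv.2⟩ * π ⟨f, hfE⟩ := by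
    have h : π ⟨f, hfE⟩ = π ⟨e, heE⟩ ^ C.index := by
      rw [← map_pow]
      rfl
    rw [h]
    exact (hcent _ ⟨⟨v, hv.2⟩, hv.1, rfl⟩).symm
  set z : ↥E := ⟨f, hfE⟩ * ⟨v, hv.2⟩ * ⟨f, hfE⟩⁻¹ * ⟨v, hv.2⟩⁻¹ with hz
  have hzc : z ∈ center ↥E := (QuotientGroup.eq_one_iff z).mp (by
    show π z = 1
    rw [hz, map_mul, map_mul, map_mul, map_inv, map_inv, hcomm, mul_inv_cancel_right, mul_inv_cancel])
  exact fun y hy => congrArg Subtype.val (mem_center_iff.mp hzc ⟨y, hy⟩)

/-- An element of the component normalising `A` and trivial on it modulo the centraliser of the component commutes with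
an element of `A` outside that centraliser. -/
theorem Ctx.exists_fixed (hM : Ctx M) (hA : Closed T A) (hE : IsComponent E)
    (hne : ¬ A ≤ centralizer (E : Set M)) {e : M} (heE : e ∈ E) (heA : e ∈ normalizer (A : Set M))
    (htriv : ∀ x ∈ A, e * x * e⁻¹ * x⁻¹ ∈ centralizer (E : Set M)) :
    ∃ x ∈ A, x ∉ centralizer (E : Set M) ∧ e * x = x * e := by
  classical
  haveI : Fact (Nat.Prime 2) := ⟨Nat.prime_two⟩
  haveI := component_isSimple hE
  -- the square of `e` centralises `A`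
  have hsq : ∀ x ∈ A, e * e * x = x * (e * e) := fun x hx => by
    set z := e * x * e⁻¹ * x⁻¹ with hz
    have hzA : z ∈ A := mul_mem ((mem_normalizer_iff.mp heA x).mp hx) (inv_mem hx)
    have hze : e * z * e⁻¹ = z := by rw [htriv x hx e heE, mul_inv_cancel_right]
    have h1 : e * x * e⁻¹ = z * x := by rw [hz, inv_mul_cancel_right]
    calc e * e * x = e * (e * x * e⁻¹) * e := by group
      _ = e * (z * x) * e := by rw [h1]
      _ = (e * z * e⁻¹) * (e * x * e⁻¹) * (e * e) := by group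
      _ = z * (z * x) * (e * e) := by rw [hze, h1]
      _ = _ := by rw [← mul_assoc z z, hA.sq hzA, one_mul]
  -- the 2-part of `e`
  obtain ⟨n, m, hm, hord⟩ := Nat.exists_eq_pow_mul_and_not_dvd (orderOf_pos e).ne' 2 (by norm_num)
  obtain ⟨j, rfl⟩ : Odd m := Nat.odd_iff.mpr (Nat.two_dvd_ne_zero.mp hm)
  set f := e ^ (2 * j + 1) with hf
  have hfA : f ∈ normalizer (A : Set M) := pow_mem heA _
  have hfE : f ∈ E := pow_mem heE _
  have hfn : f ^ 2 ^ n = 1 := by rw [hf, ← pow_mul, mul_comm, ← hord, pow_orderOf_eq_one]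
  have hback : ∀ x ∈ A, f * x = x * f → e * x = x * e := fun x hx h => by
    have h1 : Commute ((e * e) ^ j) x := (show Commute (e * e) x from hsq x hx).pow_left j
    have h2 : e = ((e * e) ^ j)⁻¹ * f := by
      rw [hf, pow_succ, pow_mul, pow_two, inv_mul_cancel_left]
    rw [h2]
    exact h1.inv_left.mul_left h
  suffices hex : ∃ x ∈ A, x ∉ centralizer (E : Set M) ∧ f * x = x * f from
    hex.imp fun x hx => ⟨hx.1, hx.2.1, hback x hx.1 hx.2.2⟩
  have hout : ∀ y : ↥E, (y : M) ∈ centralizer (E : Set M) → y ∈ center ↥E := fun y hy =>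
    mem_center_iff.mpr fun z => Subtype.ext (hy z z.2)
  -- a Sylow subgroup containing `A` and `f`
  have hp : IsPGroup 2 (zpowers f ⊔ A : Subgroup M) :=
    (zpowers_isPGroup (p := 2) hfn).to_sup_of_normal_right' hA.isPGroup (zpowers_le.mpr hfA)
  obtain ⟨T', hT'⟩ := hp.exists_le_sylow
  have hA' : Closed T' A := hA.of_le fun x hx => hT' (mem_sup_right hx)
  obtain ⟨P, hP⟩ := CfsgLib.CharPLocal.exists_sylow_subnormal T' hE.1
  set π := QuotientGroup.mk' (center ↥E) with hπ
  have hfP : (⟨f, hfE⟩ : ↥E) ∈ (P : Subgroup ↥E) := by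
    obtain ⟨y, hy, hye⟩ := hP.ge ⟨hT' (mem_sup_left (mem_zpowers f)), hfE⟩
    rwa [show (⟨f, hfE⟩ : ↥E) = y from Subtype.ext hye.symm]
  set fe : ↥E := ⟨f, hfE⟩ with hfe
  by_cases hf1 : π fe = 1
  · obtain ⟨e₀, he₀, he₀c⟩ := hM.exists_inside hA hE hne
    refine ⟨e₀, he₀, fun h => he₀c (hout e₀ h), ?_⟩
    have h := (QuotientGroup.eq_one_iff fe).mp hf1
    exact (congrArg Subtype.val (mem_center_iff.mp h e₀)).symm
  have hex : ∃ i, π fe ^ 2 ^ i = 1 := ⟨n, by
    rw [← map_pow, show fe ^ 2 ^ n = 1 from Subtype.ext hfn, map_one]⟩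
  obtain ⟨i, hi⟩ : ∃ i, Nat.find hex = i + 1 := by
    refine Nat.exists_eq_succ_of_ne_zero fun h0 => hf1 ?_
    have := Nat.find_spec hex
    rwa [h0, pow_zero, pow_one] at this
  have hw1 : π fe ^ 2 ^ i ≠ 1 := Nat.find_min hex (by omega)
  have hw2 : π fe ^ 2 ^ i * π fe ^ 2 ^ i = 1 := by
    rw [← pow_add, ← two_mul, ← pow_succ', ← hi]
    exact Nat.find_spec hex
  obtain ⟨y, hy, hye⟩ := hM.exists_lift_sq hA' hE hne hP
    (pow_mem (mem_map_of_mem π hfP) _) hw2
  refine ⟨y, hy, fun h => hw1 (by rw [← hye]; exact (QuotientGroup.eq_one_iff y).mpr (hout y h)), ?_⟩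
  have hz : y⁻¹ * fe ^ 2 ^ i ∈ center ↥E := QuotientGroup.eq.mp (hye.trans (map_pow π fe _).symm)
  have h1 : Commute fe (fe ^ 2 ^ i) := Commute.self_pow fe _
  have h2 : Commute fe (y⁻¹ * fe ^ 2 ^ i) := mem_center_iff.mp hz fe
  have h3 : Commute fe y := by
    have := h1.mul_right h2.inv_right
    rwa [mul_inv_rev, inv_inv, mul_inv_cancel_left] at this
  exact congrArg Subtype.val h3.eq

end CfsgLib.GoldSC
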