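import Cfsg.Agent.Lib.GoldSC.LinearDet
import Cfsg.Agent.Lib.Signalizer.Coprime

/-!
Two blocks of the same size meeting trivially, without any hypothesis on the sections `S₃`.

The stabiliser of the `D`-part preserves the `V`-part, or the inner part `Y` of its action contains transvections:
then four of them normalise the group of odd order that `Y` induces on `A / D`, against coprime generation.

Blueprint: `blueprint/Goldschmidt.md`, E.
-/

set_option autoImplicit false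
set_option linter.unusedSectionVars false
set_option linter.style.haveILetI false

namespace CfsgLib.GoldSC.Lin

open MulAction CfsgLib.S3Simple
open scoped Pointwise

universe u v

variable {G : Type v} [Group G] {A : Type u} [CommGroup A] [MulDistribMulAction G A]

/-- The inner part of the action of the fixer of `D`: normal in it, containing `κ`, of odd order on `A / D`, its
elements trivial on `A / D` fixing some non-identity element of `V`. -/
structure InnerPart (D V : Subgroup A) (κ : G) (Y : Subgroup G) : Prop where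
  mem : κ ∈ Y
  fix : ∀ y ∈ Y, ∀ d ∈ D, y • d = d
  conj : ∀ g : G, (∀ d ∈ D, g • d = d) → ∀ y ∈ Y, g * y * g⁻¹ ∈ Y
  odd : ∀ y ∈ Y, ∃ m : ℕ, Odd m ∧ ∀ a : A, y ^ m • a * a ∈ D
  kernel : ∀ y ∈ Y, (∀ a : A, y • a * a ∈ D) → ∃ v ∈ V, v ≠ 1 ∧ y • v = v

variable [Finite A] {D V : Subgroup A} {κ : G} (H : LinearBlock G D V κ)
include H

/-- `κ` moves every non-identity element of `V`. -/
theorem eq_one_of_fixed {v : A} (hv : v ∈ V) (hf : κ • v = v) : v = 1 := by
  classical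
  by_contra hv1
  have hpow : ∀ i : ℕ, κ ^ i • v = v := fun i => by
    induction i with
    | zero => rw [pow_zero, one_smul]
    | succ i ih => rw [pow_succ, mul_smul, hf, ih]
  have h4 := H.four
  have hle : Nat.card V ≤ Nat.card Bool := by
    refine Nat.card_le_card_of_injective (fun z : V => decide ((z : A) = 1)) fun p r hpr => Subtype.ext ?_
    have h' := decide_eq_decide.mp hpr
    by_cases hp : (p : A) = 1
    · rw [hp, h'.mp hp]
    · obtain ⟨i, hi⟩ := H.tr v hv hv1 p p.2 hp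
      obtain ⟨j, hj⟩ := H.tr v hv hv1 r r.2 fun hr => hp (h'.mpr hr)
      rw [← hi, ← hj, hpow, hpow]
  rw [Nat.card_eq_fintype_card (α := Bool), Fintype.card_bool] at hle
  omega

/-- Every element of `V` is a commutator with `κ`. -/
theorem exists_moved {v : A} (hv : v ∈ V) : ∃ w ∈ V, κ • w * w = v := by
  let f : V → V := fun w => ⟨κ • (w : A) * w, mul_mem (H.memV _ w.2) w.2⟩
  have hinj : Function.Injective f := fun p r hpr => by
    have h' : κ • (p : A) * p = κ • (r : A) * r := congrArg Subtype.val hpr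
    refine Subtype.ext (inv_mul_eq_one.mp (eq_one_of_fixed H (V.mul_mem (V.inv_mem p.2) r.2) ?_))
    have e : ∀ x : A, x⁻¹ = x := fun x => inv_eq_of_mul_eq_one_right (H.sq x)
    rw [smul_mul', e]
    calc κ • (p : A) * κ • (r : A) = κ • (p : A) * (p : A) * ((p : A) * κ • (r : A)) := by
          rw [mul_assoc, ← mul_assoc (p : A) p, H.sq, one_mul]
      _ = κ • (r : A) * r * (κ • (r : A) * p) := by rw [h', mul_comm (p : A)]
      _ = p * r := by rw [mul_mul_mul_comm, H.sq, one_mul, mul_comm]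
  obtain ⟨w, hw⟩ := (Finite.injective_iff_surjective.mp hinj) ⟨v, hv⟩
  exact ⟨w, w.2, congrArg Subtype.val hw⟩

omit H in
/-- An element fixing `D` pointwise fixes it. -/
theorem smul_eq_of_fix {g : G} (hg : ∀ d ∈ D, g • d = d) : g • D = D := by
  refine Subgroup.eq_of_le_of_card_ge (fun x hx => ?_) (Nat.card_congr (Subgroup.equivSMul g D).toEquiv).le
  obtain ⟨d, hd, rfl⟩ := (Subgroup.mem_smul_pointwise_iff_exists _ _ _).mp hx
  rwa [hg d hd]

/-- When no element of `Y` but the identity is trivial on `A / D`, the fixer of `D` preserves `V`. -/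
theorem det_of_trivial {Y : Subgroup G} [Finite G] (I : InnerPart D V κ Y)
    (hT : ∀ y ∈ Y, (∀ a : A, y • a * a ∈ D) → y = 1) {g : G} (hg : g • D = D) : g • V = V := by
  classical
  haveI : Fact (Nat.Prime 2) := ⟨Nat.prime_two⟩
  have hodd : Odd (Nat.card Y) := by
    refine Nat.not_even_iff_odd.mp fun he => ?_
    obtain ⟨y, hy⟩ := exists_prime_orderOf_dvd_card' (G := Y) 2 he.two_dvd
    obtain ⟨m, hm, hmD⟩ := I.odd y y.2
    have h1 : (y : G) ^ m = 1 := hT _ (pow_mem y.2 m) hmD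
    have h2 : orderOf y ∣ m := orderOf_dvd_of_pow_eq_one (Subtype.ext h1)
    rw [hy] at h2
    exact Nat.not_even_iff_odd.mpr hm (even_iff_two_dvd.mpr h2)
  choose b hb w hw hbw using fun x : A => H.decomp x
  have hmul : ∀ x y : A, b (x * y) = b x * b y := fun x y =>
    (H.unique (hb _) (mul_mem (hb x) (hb y)) (hw _) (mul_mem (hw x) (hw y))
      (by rw [hbw, mul_mul_mul_comm, hbw, hbw])).1
  have hbD : ∀ d ∈ D, b d = d := fun d hd => (H.unique (hb d) hd (hw d) (one_mem _) (by rw [hbw, mul_one])).1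
  haveI := Fintype.ofFinite Y
  -- the averaged projection on `D`
  let p : A → A := fun x => ∏ y : Y, b ((y : G) • x)
  have hpm : ∀ x y : A, p (x * y) = p x * p y := fun x y => by
    show ∏ z : Y, b ((z : G) • (x * y)) = _
    rw [← Finset.prod_mul_distrib]
    exact Finset.prod_congr rfl fun z _ => by rw [smul_mul', hmul]
  have hpinv : ∀ z ∈ Y, ∀ x, p (z • x) = p x := fun z hz x => by
    refine Fintype.prod_equiv (Equiv.mulRight (⟨z, hz⟩ : Y)) _ _ fun y => ?_
    show b ((y : G) • z • x) = b (((y * ⟨z, hz⟩ : Y) : G) • x)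
    rw [Subgroup.coe_mul, mul_smul]
  have hpD : ∀ d ∈ D, p d = d := fun d hd => by
    have e : ∀ y : Y, b ((y : G) • d) = d := fun y => by rw [I.fix y y.2 d hd, hbD d hd]
    show ∏ y : Y, b ((y : G) • d) = d
    rw [Finset.prod_congr rfl fun y _ => e y, Finset.prod_const, Finset.card_univ, ← Nat.card_eq_fintype_card]
    obtain ⟨j, hj⟩ := hodd
    rw [hj, pow_succ, pow_mul, pow_two, H.sq, one_pow, one_mul]
  have hpV : ∀ v ∈ V, p v = 1 := fun v hv => by
    obtain ⟨u, -, rfl⟩ := exists_moved H hv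
    rw [hpm, hpinv κ I.mem, ← hpm, H.sq]
    simpa [H.sq] using (hpm 1 1)
  have hstab : ∀ y ∈ Y, y • V = V := fun y hy => by
    refine Subgroup.eq_of_le_of_card_ge (fun x hx => ?_) (Nat.card_congr (Subgroup.equivSMul y V).toEquiv).le
    obtain ⟨v, hv, rfl⟩ := (Subgroup.mem_smul_pointwise_iff_exists _ _ _).mp hx
    have h1 : p (y • v) = 1 := (hpinv y hy v).trans (hpV v hv)
    rw [← hbw (y • v), hpm, hpD _ (hb _), hpV _ (hw _), mul_one] at h1
    rw [← hbw (y • v), h1, one_mul]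
    exact hw _
  -- a complement preserved by `κ` is `V`
  have huniq : ∀ W : Subgroup A, (∀ d ∈ D, d ∈ W → d = 1) → κ • W = W → (∀ x : A, ∃ d ∈ D, d * x ∈ W) →
      W = V := fun W hWD hκW hall => by
    have hVW : V ≤ W := fun v hv => by
      obtain ⟨u, -, rfl⟩ := exists_moved H hv
      obtain ⟨d, hd, hdu⟩ := hall u
      have h1 : κ • (d * u) ∈ W := hκW ▸ Subgroup.smul_mem_pointwise_smul _ _ _ hdu
      have h2 := W.mul_mem h1 hdu
      rwa [smul_mul', H.fixD d hd, mul_mul_mul_comm, H.sq, one_mul] at h2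
    refine le_antisymm (fun x hx => ?_) hVW
    obtain ⟨c, hc, v, hv, rfl⟩ := H.decomp x
    have : c ∈ W := by simpa [mul_assoc, H.sq] using W.mul_mem hx (hVW hv)
    rw [hWD c hc this, one_mul]
    exact hv
  have hcompl : ∀ h : G, h • D = D → κ • h • V = h • V → h • V = V := fun h hh hk => by
    refine huniq _ (fun d hd hdW => ?_) hk fun x => ?_
    · rw [← hh] at hd
      have h1 := H.inf _ (Subgroup.mem_pointwise_smul_iff_inv_smul_mem.mp hd)
        (Subgroup.mem_pointwise_smul_iff_inv_smul_mem.mp hdW)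
      exact (smulOne_iff _).mp h1
    · obtain ⟨c, hc, v, hv, e⟩ := H.decomp (h⁻¹ • x)
      refine ⟨h • c, hh ▸ Subgroup.smul_mem_pointwise_smul _ _ _ hc, ?_⟩
      rw [show x = h • (h⁻¹ • x) from (smul_inv_smul _ _).symm, ← e, ← smul_mul', ← mul_assoc, H.sq, one_mul]
      exact Subgroup.smul_mem_pointwise_smul _ _ _ hv
  -- the fixer of `D` preserves `V`
  have hfix : ∀ f : G, (∀ d ∈ D, f • d = d) → f • V = V := fun f hf => by
    refine hcompl f (smul_eq_of_fix hf) ?_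
    have hf' : ∀ d ∈ D, f⁻¹ • d = d := fun d hd => inv_smul_eq_iff.mpr (hf d hd).symm
    have hy := I.conj f⁻¹ hf' κ I.mem
    rw [inv_inv] at hy
    calc κ • f • V = f • (f⁻¹ * κ * f) • V := by rw [← mul_smul, ← mul_smul]; group
      _ = f • V := by rw [hstab _ hy]
  have hginv : g⁻¹ • D = D := inv_smul_eq_iff.mpr hg.symm
  have hc : (g * κ * g⁻¹) • V = V := hfix _ fun d hd => by
    have hd' : g⁻¹ • d ∈ D := by
      rw [← hginv]
      exact Subgroup.smul_mem_pointwise_smul _ _ _ hd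
    rw [mul_smul, mul_smul, H.fixD _ hd', smul_inv_smul]
  rw [mul_smul, mul_smul, ← eq_inv_smul_iff] at hc
  have := hcompl g⁻¹ hginv hc
  rwa [inv_smul_eq_iff, eq_comm] at this

/-- `|A| = 8`: the sizes of two members inside `V`. -/
theorem card_of_small {q : ℕ} (hq : q = Nat.card V) {h₀ h₁ : G} (hne : h₀ • D ≠ h₁ • D) (h0 : h₀ • D ≤ V)
    (h1 : h₁ • D ≤ V) (hlt : Nat.card D < q) (hsmall : q < 4 * Nat.card D) :
    Nat.card D = 2 ∧ Nat.card A = 8 := by
  haveI : Fact (Nat.Prime 2) := ⟨Nat.prime_two⟩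
  have hpw : ∀ W : Subgroup A, ∃ i, Nat.card W = 2 ^ i := fun W =>
    IsPGroup.iff_card.mp fun x => ⟨1, by rw [pow_one, pow_two]; exact Subtype.ext (H.sq x)⟩
  obtain ⟨i, hi⟩ := hpw D
  obtain ⟨j, hj⟩ := hpw V
  have hij : j = i + 1 := by
    rw [hq, hi, hj] at hlt
    rw [hq, hi, hj, show 4 * 2 ^ i = 2 ^ (i + 2) by ring] at hsmall
    have h3 := (Nat.pow_lt_pow_iff_right (le_refl 2)).mp hlt
    have h4 := (Nat.pow_lt_pow_iff_right (le_refl 2)).mp hsmall
    omega
  have hmul : Nat.card ↥(h₀ • D) * Nat.card ↥(h₁ • D) ≤ Nat.card V := by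
    rw [← Nat.card_prod]
    refine Nat.card_le_card_of_injective (fun p : ↥(h₀ • D) × ↥(h₁ • D) =>
      (⟨(p.1 : A) * p.2, V.mul_mem (h0 p.1.2) (h1 p.2.2)⟩ : V)) fun p r hpr => ?_
    have h' : (p.1 : A) * p.2 = r.1 * r.2 := congrArg Subtype.val hpr
    have e1 : (r.1 : A)⁻¹ * p.1 = r.2 * (p.2 : A)⁻¹ := by
      rw [eq_mul_inv_iff_mul_eq, mul_assoc, h', inv_mul_cancel_left]
    have e2 : (r.1 : A)⁻¹ * p.1 = 1 := by
      by_contra hx
      exact hne (H.member_eq ((h₀ • D).mul_mem (inv_mem r.1.2) p.1.2)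
        (e1 ▸ (h₁ • D).mul_mem r.2.2 (inv_mem p.2.2)) hx)
    have e3 : (r.1 : A) = p.1 := inv_mul_eq_one.mp e2
    rw [e3] at h'
    exact Prod.ext (Subtype.ext e3.symm) (Subtype.ext (mul_left_cancel h'))
  rw [← Nat.card_congr (Subgroup.equivSMul h₀ D).toEquiv, ← Nat.card_congr (Subgroup.equivSMul h₁ D).toEquiv,
    hi, hj, hij, pow_succ] at hmul
  have h2 : 2 ^ i ≤ 2 := Nat.le_of_mul_le_mul_left hmul (by positivity)
  have h1 : 1 < Nat.card D := by
    have h' : Nat.card D ≠ 1 := fun e => H.ne (D.eq_bot_of_card_eq e)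
    have := Nat.card_pos (α := D)
    omega
  have hi1 : i = 1 := by
    rcases i with _ | _ | i
    · rw [hi] at h1; norm_num at h1
    · rfl
    · have : 2 ^ 2 ≤ 2 ^ (i + 2) := Nat.pow_le_pow_right (by norm_num) (by omega)
      omega
  refine ⟨by rw [hi, hi1]; norm_num, ?_⟩
  rw [H.card_eq, hi, hj, hij, hi1]
  norm_num

/-- A member meeting the fixed points of a transvection is fixed pointwise. -/
theorem fixed_member {r h : G} (hrD : r • D = D) (hrT : ∀ a : A, r • a * a ∈ D) (hh : h • D ≠ D) {c : A}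
    (hc : c ∈ h • D) (hc1 : c ≠ 1) (hrc : r • c = c) {x : A} (hx : x ∈ h • D) : r • x = x := by
  have hm : r • c ∈ (r * h) • D := by
    rw [mul_smul]; exact Subgroup.smul_mem_pointwise_smul _ _ _ hc
  rw [hrc] at hm
  have he : (r * h) • D = h • D := H.member_eq hm hc hc1
  have hrx : r • x ∈ h • D := by
    rw [← he, mul_smul]; exact Subgroup.smul_mem_pointwise_smul _ _ _ hx
  have h1 := H.meet h hh _ ((h • D).mul_mem hrx hx) (hrT x)
  rw [mul_eq_one_iff_eq_inv] at h1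
  rw [h1]
  exact inv_eq_of_mul_eq_one_right (H.sq x)

set_option maxHeartbeats 800000 in
/-- Blocks of equal size meeting trivially, with an inner part: `|A| = 8`, `|D| = 2`, and the members cover. -/
theorem linear_eight [Finite G] (hfaith : ∀ g : G, (∀ a : A, g • a = a) → g = 1)
    (hirr : ∀ W : Subgroup A, (∀ g : G, g • W = W) → W = ⊥ ∨ W = ⊤) (htwo : ∀ K : Subgroup G, K.index ≠ 2)
    {Y : Subgroup G} (I : InnerPart D V κ Y) :
    Nat.card D = 2 ∧ Nat.card A = 8 ∧ ∀ x : A, x ≠ 1 → ∃ g : G, x ∈ g • D := by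
  classical
  obtain ⟨gc, hgcD, hgc⟩ := H.exists_inside hirr
  obtain ⟨gg, hggD, hgg⟩ := H.exists_outside hirr htwo
  suffices hmain : Nat.card D = 2 ∧ Nat.card A = 8 by
    refine ⟨hmain.1, hmain.2, fun x hx1 => ?_⟩
    obtain ⟨b, hb, w, hw, rfl⟩ := H.decomp x
    rcases eq_or_ne w 1 with e | e
    · exact ⟨1, by rw [one_smul, e, mul_one]; exact hb⟩
    rcases eq_or_ne b 1 with e' | e'
    · obtain ⟨k, hk⟩ := H.cover_inside hgc hw e
      exact ⟨_, by rw [e', one_mul]; exact hk⟩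
    · exact let ⟨_, hk⟩ := H.cover_graph hggD ((H.not_le_iff hggD).mp hgg) hb e' hw e; ⟨_, hk⟩
  by_cases hT : ∀ y ∈ Y, (∀ a : A, y • a * a ∈ D) → y = 1
  · exact eight_of_det H hirr htwo fun g hg => det_of_trivial H I hT hg
  push Not at hT
  obtain ⟨r, hrY, hrT, hr1⟩ := hT
  have hrD := smul_eq_of_fix (I.fix r hrY)
  obtain ⟨v₀, hv₀, hv₀1, hrv₀⟩ := I.kernel r hrY hrT
  obtain ⟨k₀, hk₀⟩ := H.cover_inside hgc hv₀ hv₀1
  set h₀ := κ ^ k₀ * gc with hh₀
  have hmove : ∀ k : ℕ, (κ ^ k * gc) • D ≠ D ∧ (κ ^ k * gc) • D ≤ V := fun k => by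
    refine ⟨fun e => hgcD (MulAction.injective (κ ^ k) (by
      show κ ^ k • gc • D = κ ^ k • D
      rw [← mul_smul, e, H.pow_fix])), fun x hx => ?_⟩
    rw [mul_smul] at hx
    obtain ⟨y, hy, rfl⟩ := (Subgroup.mem_smul_pointwise_iff_exists _ _ _).mp hx
    exact H.mem_pow k (hgc hy)
  obtain ⟨v₁, hv₁, hrv₁⟩ : ∃ v ∈ V, r • v ≠ v := by
    by_contra! hall
    refine hr1 (hfaith r fun x => ?_)
    obtain ⟨b, hb, w, hw, rfl⟩ := H.decomp x
    rw [smul_mul', I.fix r hrY b hb, hall w hw]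
  have hv₁1 : v₁ ≠ 1 := fun e => hrv₁ (by rw [e, smul_one])
  obtain ⟨k₁, hk₁⟩ := H.cover_inside hgc hv₁ hv₁1
  set h₁ := κ ^ k₁ * gc with hh₁
  have h0fix : ∀ x ∈ h₀ • D, r • x = x := fun x hx =>
    fixed_member H hrD hrT (hmove k₀).1 hk₀ hv₀1 hrv₀ hx
  have h01 : h₀ • D ≠ h₁ • D := fun e => hrv₁ (h0fix v₁ (e.symm ▸ hk₁))
  -- a member inside `V` is smaller than `V`
  have hlt : Nat.card D < Nat.card V := by
    refine lt_of_le_of_ne H.le fun e => ?_
    have e0 : h₀ • D = V := Subgroup.eq_of_le_of_card_ge (hmove k₀).2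
      (by rw [← Nat.card_congr (Subgroup.equivSMul h₀ D).toEquiv, e])
    exact hrv₁ (h0fix v₁ (e0.symm ▸ hv₁))
  by_cases hsmall : Nat.card V < 4 * Nat.card D
  · exact card_of_small H rfl h01 (hmove k₀).2 (hmove k₁).2 hlt hsmall
  exfalso
  push Not at hsmall
  -- the graphs project to the members inside `V`
  have hrD1 : (r * h₁) • D ≠ D := fun e => (hmove k₁).1 (MulAction.injective r (by
    show r • h₁ • D = r • D
    rw [← mul_smul, e, hrD]))
  have hrle : ¬ (r * h₁) • D ≤ V := fun hle => hrv₁ (by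
    have h2 : r • v₁ ∈ V := hle (by rw [mul_smul]; exact Subgroup.smul_mem_pointwise_smul _ _ _ hk₁)
    have h3 := H.inf _ (hrT v₁) (V.mul_mem h2 hv₁)
    rw [mul_eq_one_iff_eq_inv] at h3
    rw [h3]
    exact inv_eq_of_mul_eq_one_right (H.sq v₁))
  have hproj : ∀ h : G, h • D ≠ D → ∃ f : G, f • D ≤ V ∧ ∀ x ∈ h • D, ∃ w ∈ f • D, x * w ∈ D := by
    intro h hh
    by_cases hle : h • D ≤ V
    · exact ⟨h, hle, fun x hx => ⟨x, hx, by rw [H.sq]; exact one_mem _⟩⟩
    obtain ⟨k, hk⟩ := H.graph_orbit hrD1 hrle hh hle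
    refine ⟨κ ^ k * h₁, fun x hx => ?_, fun x hx => ?_⟩
    · rw [mul_smul] at hx
      obtain ⟨y, hy, rfl⟩ := (Subgroup.mem_smul_pointwise_iff_exists _ _ _).mp hx
      exact H.mem_pow k ((hmove k₁).2 hy)
    · rw [← hk, mul_smul r h₁] at hx
      obtain ⟨y, hy, rfl⟩ := (Subgroup.mem_smul_pointwise_iff_exists _ _ _).mp hx
      obtain ⟨c, hc, rfl⟩ := (Subgroup.mem_smul_pointwise_iff_exists _ _ _).mp hy
      refine ⟨κ ^ k • c, by rw [mul_smul]; exact Subgroup.smul_mem_pointwise_smul _ _ _ hc, ?_⟩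
      rw [← smul_mul', H.fix_pow k (hrT c)]
      exact hrT c
  -- the elements of `Y` trivial on `A / D`
  let R : Subgroup G :=
    { carrier := {y | y ∈ Y ∧ ∀ a : A, y • a * a ∈ D}
      one_mem' := ⟨one_mem _, fun a => by rw [one_smul, H.sq]; exact one_mem _⟩
      mul_mem' := fun {y z} hy hz => ⟨mul_mem hy.1 hz.1, fun a => by
        have h1 := D.mul_mem (hy.2 (z • a)) (hz.2 a)
        rwa [← mul_smul, mul_assoc, ← mul_assoc (z • a), H.sq, one_mul] at h1⟩
      inv_mem' := fun {y} hy => ⟨inv_mem hy.1, fun a => by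
        have h1 := hy.2 (y⁻¹ • a)
        rwa [smul_inv_smul, mul_comm] at h1⟩ }
  have hRdef : ∀ {y : G}, y ∈ R ↔ y ∈ Y ∧ ∀ a : A, y • a * a ∈ D := Iff.rfl
  have hRsmul : ∀ y ∈ R, ∀ a : A, y • a = a * (y • a * a) := fun y _ a => by
    rw [mul_comm (y • a), ← mul_assoc, H.sq, one_mul]
  have hRexp : ∀ y ∈ R, y * y = 1 := fun y hy => hfaith _ fun a => by
    rw [mul_smul]
    nth_rewrite 1 [hRsmul y hy a]
    rw [smul_mul', I.fix y hy.1 _ (hy.2 a)]
    nth_rewrite 1 [hRsmul y hy a]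
    rw [mul_assoc, H.sq, mul_one]
  have hrR : r ∈ R := ⟨hrY, hrT⟩
  -- the conjugates of `r` under the powers of `κ`
  have hstabr : ∀ i : ℕ, κ ^ i * r * (κ ^ i)⁻¹ = r → κ ^ i = 1 := by
    intro i hi
    by_contra hne
    have hcomm : κ ^ i * r = r * κ ^ i := mul_inv_eq_iff_eq_mul.mp hi
    have hfree : ∀ v ∈ V, κ ^ i • v = v → v = 1 := fun v hv hv' => by
      by_contra hv1
      refine hne (hfaith _ fun x => ?_)
      obtain ⟨b, hb, w, hw, rfl⟩ := H.decomp x
      rw [smul_mul', H.fix_pow i hb]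
      rcases eq_or_ne w 1 with rfl | hw1
      · rw [smul_one]
      · obtain ⟨j, rfl⟩ := H.tr v hv hv1 w hw hw1
        rw [← mul_smul, ← pow_add, add_comm, pow_add, mul_smul, hv']
    have hsurj : ∀ v ∈ V, ∃ u ∈ V, κ ^ i • u * u = v := by
      intro v hv
      let f : V → V := fun w => ⟨κ ^ i • (w : A) * w, mul_mem (H.mem_pow i w.2) w.2⟩
      have hinj : Function.Injective f := fun p q hpq => by
        have h' : κ ^ i • (p : A) * p = κ ^ i • (q : A) * q := congrArg Subtype.val hpq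
        refine Subtype.ext (inv_mul_eq_one.mp (hfree _ (V.mul_mem (V.inv_mem p.2) q.2) ?_))
        rw [show (p : A)⁻¹ = p from inv_eq_of_mul_eq_one_right (H.sq _), smul_mul']
        calc κ ^ i • (p : A) * κ ^ i • (q : A) = κ ^ i • (p : A) * (p : A) * ((p : A) * κ ^ i • (q : A)) := by
              rw [mul_assoc, ← mul_assoc (p : A) p, H.sq, one_mul]
          _ = κ ^ i • (q : A) * q * (κ ^ i • (q : A) * p) := by rw [h', mul_comm (p : A)]
          _ = p * q := by rw [mul_mul_mul_comm, H.sq, one_mul, mul_comm]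
      obtain ⟨w, hw⟩ := (Finite.injective_iff_surjective.mp hinj) ⟨v, hv⟩
      exact ⟨w, w.2, congrArg Subtype.val hw⟩
    obtain ⟨u, hu, hu'⟩ := hsurj v₁ hv₁
    refine hrv₁ ?_
    rw [← hu', smul_mul', ← mul_smul, ← hcomm, mul_smul]
    nth_rewrite 1 [hRsmul r hrR u]
    nth_rewrite 2 [hRsmul r hrR u]
    rw [smul_mul', H.fix_pow i (hrT u), mul_mul_mul_comm, H.sq, mul_one]
  have hkR : ∀ z ∈ Subgroup.zpowers κ, z * r * z⁻¹ ∈ R := fun z hz => by
    have hzY : z ∈ Y := Subgroup.zpowers_le.mpr I.mem hz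
    refine ⟨mul_mem (mul_mem hzY hrY) (inv_mem hzY), fun a => ?_⟩
    rw [mul_smul, mul_smul, ← smul_inv_smul z a, ← smul_mul', inv_smul_smul, I.fix z hzY _ (hrT _)]
    exact hrT _
  have hcardR : Nat.card V ≤ Nat.card R := by
    have h1 : Nat.card {v : A // v ∈ V ∧ v ≠ 1} ≤ Nat.card (Subgroup.zpowers κ) :=
      Nat.card_le_card_of_surjective (fun z : Subgroup.zpowers κ =>
          if hz : ((z : G) • v₁) ∈ V ∧ (z : G) • v₁ ≠ 1 then (⟨_, hz⟩ : {v : A // v ∈ V ∧ v ≠ 1})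
          else ⟨v₁, hv₁, hv₁1⟩) fun v => by
        obtain ⟨i, hi⟩ := H.tr v₁ hv₁ hv₁1 v v.2.1 v.2.2
        refine ⟨⟨κ ^ i, pow_mem (Subgroup.mem_zpowers κ) i⟩, ?_⟩
        simp only [hi]
        rw [dif_pos v.2]
    have h2 : Nat.card (Subgroup.zpowers κ) ≤ Nat.card {y : R // y ≠ 1} := by
      refine Nat.card_le_card_of_injective (fun z => ⟨⟨_, hkR z z.2⟩, fun e => hr1 ?_⟩) fun p s hps => ?_
      · simpa using (congrArg Subtype.val e :)
      · have h' : (p : G) * r * (p : G)⁻¹ = (s : G) * r * (s : G)⁻¹ := congrArg (fun y => ((y : R) : G)) (congrArg Subtype.val hps)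
        have hp : (s : G)⁻¹ * p * r * ((s : G)⁻¹ * p)⁻¹ = r := by
          calc (s : G)⁻¹ * p * r * ((s : G)⁻¹ * p)⁻¹ = (s : G)⁻¹ * ((p : G) * r * (p : G)⁻¹) * s := by group
            _ = r := by rw [h']; group
        obtain ⟨i, hi⟩ : ∃ i : ℕ, κ ^ i = (s : G)⁻¹ * p :=
          (Submonoid.mem_powers_iff _ _).mp (mem_powers_iff_mem_zpowers.mpr (mul_mem (inv_mem s.2) p.2))
        rw [← hi] at hp
        exact Subtype.ext (inv_mul_eq_one.mp (hi.symm.trans (hstabr i hp))).symm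
    have h3 : Nat.card {v : A // v ∈ V ∧ v ≠ 1} = Nat.card V - 1 := by
      rw [show Nat.card {v : A // v ∈ V ∧ v ≠ 1} = ((V : Set A) \ {1}).ncard from Nat.card_coe_set_eq _,
        Set.ncard_sdiff_singleton_of_mem (one_mem V), ← Nat.card_coe_set_eq]
      rfl
    have h4 : Nat.card {y : R // y ≠ 1} = Nat.card R - 1 := by
      rw [show Nat.card {y : R // y ≠ 1} = ((Set.univ : Set R) \ {1}).ncard from
        (Nat.card_congr (Equiv.subtypeEquivRight fun y => by simp)).trans (Nat.card_coe_set_eq _),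
        Set.ncard_sdiff_singleton_of_mem (Set.mem_univ _), Set.ncard_univ]
    have := Nat.card_pos (α := R)
    omega
  -- the elements for the member `C` fixing a point of `D`
  obtain ⟨a, haD, ha1⟩ := H.exists_ne_D
  set a' := h₁⁻¹ • a with ha'
  have hRa : 4 ≤ Nat.card {y : R // (y : G) • a' = a'} := by
    let ev : R →* D :=
      { toFun := fun y => ⟨(y : G) • a' * a', y.2.2 a'⟩
        map_one' := Subtype.ext (show (1 : G) • a' * a' = 1 by rw [one_smul, H.sq])
        map_mul' := fun y z => Subtype.ext (by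
          show ((y : G) * z) • a' * a' = (y : G) • a' * a' * ((z : G) • a' * a')
          rw [mul_smul]
          nth_rewrite 1 [hRsmul z z.2 a']
          rw [smul_mul', I.fix y y.2.1 _ (z.2.2 a'), mul_right_comm]) }
    have hk : Nat.card {y : R // (y : G) • a' = a'} = Nat.card ev.ker := by
      refine Nat.card_congr (Equiv.subtypeEquivRight fun y => ?_)
      rw [MonoidHom.mem_ker, Subtype.ext_iff]
      show _ ↔ (y : G) • a' * a' = 1
      rw [mul_eq_one_iff_eq_inv, inv_eq_of_mul_eq_one_right (H.sq a')]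
    have h5 := ev.ker.card_mul_index
    rw [Subgroup.index_ker] at h5
    have h6 : Nat.card ev.range ≤ Nat.card D := Subgroup.card_le_card_group _
    have h7 := hsmall.trans (hcardR.trans (h5.ge.trans (Nat.mul_le_mul_left _ h6)))
    rw [hk]
    exact Nat.le_of_mul_le_mul_right h7 Nat.card_pos
  let U : Subgroup G :=
    { carrier := {u | h₁⁻¹ * u * h₁ ∈ R ∧ u • a = a}
      one_mem' := ⟨by simp, one_smul G a⟩
      mul_mem' := fun {x y} hx hy => ⟨by
        rw [show h₁⁻¹ * (x * y) * h₁ = (h₁⁻¹ * x * h₁) * (h₁⁻¹ * y * h₁) by group]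
        exact mul_mem hx.1 hy.1, by rw [mul_smul, hy.2, hx.2]⟩
      inv_mem' := fun {x} hx => ⟨by
        rw [show h₁⁻¹ * x⁻¹ * h₁ = (h₁⁻¹ * x * h₁)⁻¹ by group]
        exact inv_mem hx.1, inv_smul_eq_iff.mpr hx.2.symm⟩ }
  have hUC : ∀ u ∈ U, (∀ c ∈ h₁ • D, u • c = c) ∧ ∀ x : A, u • x * x ∈ h₁ • D := by
    rintro u ⟨hu, -⟩
    refine ⟨fun c hc => ?_, fun x => ?_⟩
    · obtain ⟨d, hd, rfl⟩ := (Subgroup.mem_smul_pointwise_iff_exists _ _ _).mp hc
      have h := I.fix _ hu.1 d hd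
      rw [mul_smul, mul_smul, inv_smul_eq_iff] at h
      exact h
    · have h := Subgroup.smul_mem_pointwise_smul _ h₁ _ (hu.2 (h₁⁻¹ • x))
      rwa [smul_mul', ← mul_smul, ← mul_smul, smul_inv_smul, show h₁ * (h₁⁻¹ * u * h₁) * h₁⁻¹ = u by group] at h
  -- they fix `D` pointwise
  have hUD : ∀ u ∈ U, ∀ d ∈ D, u • d = d := by
    intro u hu
    have huD : u • D = D := by
      have h := H.member_eq (g := u) (h := 1) (x := a)
        (by nth_rewrite 1 [← hu.2]; exact Subgroup.smul_mem_pointwise_smul _ _ _ haD) (by rwa [one_smul]) ha1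
      rwa [one_smul] at h
    intro d hd
    have h1 : u • d * d ∈ D := D.mul_mem (by rw [← huD]; exact Subgroup.smul_mem_pointwise_smul _ _ _ hd) hd
    have h2 := H.meet h₁ (hmove k₁).1 _ ((hUC u hu).2 d) h1
    rw [mul_eq_one_iff_eq_inv] at h2
    rw [h2]
    exact inv_eq_of_mul_eq_one_right (H.sq d)
  let Fx : Subgroup G :=
    { carrier := {g | ∀ d ∈ D, g • d = d}
      one_mem' := fun d _ => one_smul G d
      mul_mem' := fun {x y} hx hy d hd => by rw [mul_smul, hy d hd, hx d hd]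
      inv_mem' := fun {x} hx d hd => inv_smul_eq_iff.mpr (hx d hd).symm }
  have hYF : Y ≤ Fx := fun y hy => I.fix y hy
  have hUF : U ≤ Fx := fun u hu => hUD u hu
  -- the action on `A / D`
  let θ : ∀ f : Fx, (A ⧸ D) ≃* (A ⧸ D) := fun f =>
    QuotientGroup.congr D D (MulDistribMulAction.toMulAut G A f) (by
      ext x
      constructor
      · rintro ⟨d, hd, rfl⟩
        show (f : G) • d ∈ D
        rw [f.2 d hd]
        exact hd
      · exact fun hx => ⟨x, hx, f.2 x hx⟩)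
  have hθ : ∀ (f : Fx) (x : A), θ f (QuotientGroup.mk' D x) = QuotientGroup.mk' D ((f : G) • x) := fun f x => rfl
  let ψ : Fx →* MulAut (A ⧸ D) :=
    { toFun := θ
      map_one' := MulEquiv.ext fun z => by
        obtain ⟨x, rfl⟩ := QuotientGroup.mk'_surjective D z
        rw [hθ, Subgroup.coe_one, one_smul]; rfl
      map_mul' := fun f g => MulEquiv.ext fun z => by
        obtain ⟨x, rfl⟩ := QuotientGroup.mk'_surjective D z
        rw [MulAut.mul_apply, hθ, hθ, hθ, Subgroup.coe_mul, mul_smul] }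
  have hψ : ∀ (f : Fx) (x : A), ψ f (QuotientGroup.mk' D x) = QuotientGroup.mk' D ((f : G) • x) := hθ
  have hmk : ∀ x y : A, QuotientGroup.mk' D x = QuotientGroup.mk' D y ↔ x * y ∈ D := fun x y => by
    rw [QuotientGroup.mk'_eq_mk']
    constructor
    · rintro ⟨z, hz, rfl⟩
      rwa [← mul_assoc, H.sq, one_mul]
    · exact fun h => ⟨x * y, h, by rw [← mul_assoc, H.sq, one_mul]⟩
  set L0 := (Y.subgroupOf Fx).map ψ with hL0
  set Ub := (U.subgroupOf Fx).map ψ with hUb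
  haveI : Fact (Nat.Prime 2) := ⟨Nat.prime_two⟩
  have hodd : ¬ 2 ∣ Nat.card L0 := fun h2 => by
    obtain ⟨z, hz⟩ := exists_prime_orderOf_dvd_card' (G := L0) 2 h2
    obtain ⟨y, hy, hyz⟩ := z.2
    obtain ⟨m, hm, hmD⟩ := I.odd y hy
    have h1 : (z : MulAut (A ⧸ D)) ^ m = 1 := by
      rw [← hyz, ← map_pow]
      refine MulEquiv.ext fun t => ?_
      obtain ⟨x, rfl⟩ := QuotientGroup.mk'_surjective D t
      rw [hψ, MulAut.one_apply, hmk]
      exact hmD x
    have h3 : orderOf z ∣ m := orderOf_dvd_of_pow_eq_one (Subtype.ext h1)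
    rw [hz] at h3
    exact Nat.not_even_iff_odd.mpr hm (even_iff_two_dvd.mpr h3)
  have hUea : Cfsg.IsElementaryAbelian 2 Ub := by
    have hsq : ∀ z ∈ Ub, z * z = 1 := by
      rintro _ ⟨u, hu, rfl⟩
      have h : h₁⁻¹ * (u : G) * h₁ * (h₁⁻¹ * (u : G) * h₁) = 1 := hRexp _ (hu : (u : G) ∈ U).1
      rw [← map_mul, show u * u = 1 from Subtype.ext (by
        have e : h₁ * (h₁⁻¹ * (u : G) * h₁ * (h₁⁻¹ * (u : G) * h₁)) * h₁⁻¹ = (u : G) * u := by group
        rw [h, mul_one, mul_inv_cancel] at e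
        exact e.symm), map_one]
    refine ⟨⟨⟨fun x y => Subtype.ext ?_⟩⟩, fun z hz => by rw [pow_two]; exact hsq z hz⟩
    show (x : MulAut (A ⧸ D)) * y = y * x
    calc (x : MulAut (A ⧸ D)) * y = x * ((x * y) * (x * y)) * y := by rw [hsq _ (mul_mem x.2 y.2), mul_one]
      _ = (x * x) * (y * x) * (y * y) := by group
      _ = y * x := by rw [hsq _ x.2, hsq _ y.2, one_mul, mul_one]
  have hUnorm : Ub ≤ Subgroup.normalizer (L0 : Set (MulAut (A ⧸ D))) := by
    have hone : ∀ u ∈ Ub, ∀ z ∈ L0, u * z * u⁻¹ ∈ L0 := by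
      rintro _ ⟨u, hu, rfl⟩ _ ⟨y, hy, rfl⟩
      refine ⟨u * y * u⁻¹, ?_, by rw [map_mul, map_mul, map_inv]⟩
      exact I.conj _ u.2 _ hy
    intro u hu
    refine Subgroup.mem_normalizer_iff.mpr fun z => ⟨hone u hu z, fun hz => ?_⟩
    have := hone u⁻¹ (inv_mem hu) _ hz
    rwa [show u⁻¹ * (u * z * u⁻¹) * u⁻¹⁻¹ = z by group] at this
  -- faithful on `A / D`
  have hUinj : ∀ u : Fx, (u : G) ∈ U → ψ u = 1 → u = 1 := by
    intro u hu h
    refine Subtype.ext (hfaith _ fun x => ?_)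
    have hD : (u : G) • x * x ∈ D := by rw [← hmk, ← hψ, h]; rfl
    have h2 := H.meet h₁ (hmove k₁).1 _ ((hUC _ hu).2 x) hD
    rw [mul_eq_one_iff_eq_inv] at h2
    rw [h2]
    exact inv_eq_of_mul_eq_one_right (H.sq x)
  have hUcard : 4 ≤ Nat.card Ub := by
    have hconj : ∀ y : R, (y : G) • a' = a' → h₁ * y * h₁⁻¹ ∈ U := fun y hy => by
      refine ⟨?_, ?_⟩
      · rw [show h₁⁻¹ * (h₁ * (y : G) * h₁⁻¹) * h₁ = y by group]
        exact y.2
      · rw [mul_smul, mul_smul, ← ha', hy, ha', smul_inv_smul]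
    refine hRa.trans (Nat.card_le_card_of_injective (fun y : {y : R // (y : G) • a' = a'} =>
      (⟨ψ ⟨_, hUF (hconj y.1 y.2)⟩, ⟨_, hUF (hconj y.1 y.2)⟩, hconj y.1 y.2, rfl⟩ : Ub)) fun p s hps => ?_)
    have h' : ψ ⟨_, hUF (hconj p.1 p.2)⟩ = ψ ⟨_, hUF (hconj s.1 s.2)⟩ := congrArg Subtype.val hps
    have h2 := hUinj (⟨_, hUF (hconj s.1 s.2)⟩⁻¹ * ⟨_, hUF (hconj p.1 p.2)⟩)
      (mul_mem (inv_mem (hconj s.1 s.2)) (hconj p.1 p.2)) (by rw [map_mul, map_inv, h', inv_mul_cancel])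
    have h3 : h₁ * (s.1 : G) * h₁⁻¹ = h₁ * (p.1 : G) * h₁⁻¹ := congrArg Subtype.val (inv_mul_eq_one.mp h2)
    exact Subtype.ext (Subtype.ext (mul_left_cancel (mul_right_cancel h3)).symm)
  -- the image of the member inside `V`
  set Cb : Subgroup (A ⧸ D) := (h₁ • D).map (QuotientGroup.mk' D) with hCb
  have hst : L0 ≤ stabilizer (MulAut (A ⧸ D)) Cb := by
    rw [CfsgLib.Signalizer.gen_index hUea hodd hUnorm]
    refine iSup_le fun ⟨B, hB, hBi⟩ => ?_
    have hB1 : B ≠ ⊥ := fun e => by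
      rw [e, Subgroup.relIndex_bot_left] at hBi
      omega
    obtain ⟨z₀, hz₀, hz₀1⟩ := B.bot_or_exists_ne_one.resolve_left hB1
    obtain ⟨u, hu, rfl⟩ := hB hz₀
    intro z hz
    obtain ⟨y, hy, rfl⟩ : z ∈ L0 := hz.1
    have hzu : ψ u * ψ y = ψ y * ψ u := hz.2 _ hz₀
    -- a non-identity commutator
    obtain ⟨x, hx⟩ : ∃ x : A, (u : G) • x * x ≠ 1 := by
      by_contra! hall
      refine hz₀1 (MulEquiv.ext fun t => ?_)
      obtain ⟨x, rfl⟩ := QuotientGroup.mk'_surjective D t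
      rw [hψ, MulAut.one_apply, hmk, hall x]
      exact one_mem _
    have hy : (y : G) ∈ Y := hy
    set c := (u : G) • x * x with hc
    have hcC : c ∈ h₁ • D := (hUC _ hu).2 x
    have hyh : ((y : G) * h₁) • D ≠ D := fun e => (hmove k₁).1 (MulAction.injective (y : G) (by
      show (y : G) • h₁ • D = (y : G) • D
      rw [← mul_smul, e, smul_eq_of_fix (I.fix _ hy)]))
    obtain ⟨f, hfV, hf⟩ := hproj _ hyh
    -- the image of `c` stays inside
    obtain ⟨w, hw, hwD⟩ := hf _ (show (y : G) • c ∈ ((y : G) * h₁) • D by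
      rw [mul_smul]; exact Subgroup.smul_mem_pointwise_smul _ _ _ hcC)
    set c' := (u : G) • ((y : G) • x) * ((y : G) • x) with hc'
    have hc'C : c' ∈ h₁ • D := (hUC _ hu).2 _
    have hcc : QuotientGroup.mk' D ((y : G) • c) = QuotientGroup.mk' D c' := by
      rw [← hψ, hc, hc', map_mul, map_mul, map_mul, ← hψ u x, ← hψ u, ← hψ y x, ← MulAut.mul_apply, ← MulAut.mul_apply,
        hzu]
    have hwc : w * c' ∈ D := by
      rw [← hmk, ← hcc, hmk, mul_comm]
      exact hwD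
    have hwc' : w = c' := by
      have h := H.inf _ hwc (V.mul_mem (hfV hw) ((hmove k₁).2 hc'C))
      rw [mul_eq_one_iff_eq_inv] at h
      rw [h]
      exact inv_eq_of_mul_eq_one_right (H.sq c')
    have hc'1 : c' ≠ 1 := fun e => by
      rw [e, hmk, mul_one] at hcc
      have hcD : c ∈ D := by
        have h' : (y : G)⁻¹ • ((y : G) • c) = (y : G) • c := I.fix _ (inv_mem hy) _ hcc
        rw [inv_smul_smul] at h'
        exact h'.symm ▸ hcc
      exact hx (H.meet h₁ (hmove k₁).1 c hcC hcD)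
    have hfh : f • D = h₁ • D := H.member_eq (hwc' ▸ hw) hc'C hc'1
    refine Subgroup.eq_of_le_of_card_ge (fun t ht => ?_) (Nat.card_congr (Subgroup.equivSMul (ψ y) Cb).toEquiv).le
    obtain ⟨t', ⟨d, hd, rfl⟩, rfl⟩ := (Subgroup.mem_smul_pointwise_iff_exists _ _ _).mp ht
    obtain ⟨w', hw', hwD'⟩ := hf _ (show (y : G) • d ∈ ((y : G) * h₁) • D by
      rw [mul_smul]; exact Subgroup.smul_mem_pointwise_smul _ _ _ hd)
    exact ⟨w', hfh ▸ hw', ((hmk _ _).mpr (by rwa [mul_comm])).trans (hψ y d).symm⟩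
  -- `κ` preserves the member: it is all of `V`
  have hκC : ∀ x ∈ h₁ • D, κ • x ∈ h₁ • D := fun x hx => by
    have hm : ψ ⟨κ, hYF I.mem⟩ ∈ stabilizer (MulAut (A ⧸ D)) Cb :=
      hst (Subgroup.mem_map_of_mem ψ (Subgroup.mem_subgroupOf.mpr I.mem))
    have h := Subgroup.smul_mem_pointwise_smul _ (ψ ⟨κ, hYF I.mem⟩) _
      (Subgroup.mem_map_of_mem (QuotientGroup.mk' D) hx : _ ∈ Cb)
    rw [mem_stabilizer_iff.mp hm] at h
    obtain ⟨w, hw, hwe⟩ := h
    have hwe' : w * (κ • x) ∈ D := (hmk _ _).mp (hwe.trans (hψ ⟨κ, hYF I.mem⟩ x))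
    have h1 := H.inf _ hwe' (V.mul_mem ((hmove k₁).2 hw) (H.memV _ ((hmove k₁).2 hx)))
    rw [mul_eq_one_iff_eq_inv, inv_eq_of_mul_eq_one_right (H.sq _)] at h1
    exact h1 ▸ hw
  have hVC : V ≤ h₁ • D := fun w hw => by
    rcases eq_or_ne w 1 with rfl | hw1
    · exact one_mem _
    obtain ⟨i, rfl⟩ := H.tr v₁ hv₁ hv₁1 w hw hw1
    clear hw hw1
    induction i with
    | zero => rwa [pow_zero, one_smul]
    | succ i ih => rw [pow_succ', mul_smul κ (κ ^ i) v₁]; exact hκC _ ih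
  have h := Subgroup.card_le_of_le hVC
  rw [← Nat.card_congr (Subgroup.equivSMul h₁ D).toEquiv] at h
  omega

end CfsgLib.GoldSC.Lin
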