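import Cfsg.Agent.Lib.GoldSC.Many
import Cfsg.Agent.Lib.GoldSC.Linear
import Cfsg.Agent.Lib.GoldSC.InnerPart
import Cfsg.Agent.Lib.S3Simple.NoBlock
import Cfsg.Agent.Lib.S3Simple.Dispatch

/-!
An irreducible strongly closed subgroup of order at least eight has order eight and seven blocks.

Blueprint: `blueprint/Goldschmidt.md`, E (port of `Lib/Walter/Ab/Dispatch`).
-/

set_option autoImplicit false
set_option linter.unusedSectionVars false
set_option linter.style.haveILetI false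

namespace CfsgLib.GoldSC

open Cfsg Subgroup CfsgLib.Comp CfsgLib.AfterFT.CoreSep
open CfsgLib.S3Simple (Closed Blocked IsBlock Irred blockD mem_blockD blockD_le self_mem_blockD imA mem_imA oddSolv
  card_mul_le_of_disjoint)

universe u

variable {G : Type u} [Group G] [Finite G] {S : Sylow 2 G} {A : Subgroup G}

/-- A group all of whose homomorphisms to a group of order two are trivial has no image with a subgroup of index
two. -/
theorem index_ne_two {N X : Type*} [Group N] [Group X] (π : N →* X) (hs : ∀ g : X, ∃ n : N, π n = g)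
    (hfoc : ∀ ψ : N →* Multiplicative (ZMod 2), ψ = 1) (K : Subgroup X) : K.index ≠ 2 := by
  classical
  intro hK
  let f : X → Multiplicative (ZMod 2) := fun g => if g ∈ K then 1 else Multiplicative.ofAdd 1
  have hadd : (Multiplicative.ofAdd (1 : ZMod 2)) * Multiplicative.ofAdd 1 = 1 := rfl
  have hmul : ∀ x y : X, f (x * y) = f x * f y := fun x y => by
    simp only [f, Subgroup.mul_mem_iff_of_index_two hK]
    split_ifs <;> first | simp_all | tauto
  let ψ : X →* Multiplicative (ZMod 2) := MonoidHom.mk' f hmul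
  obtain ⟨g, hg⟩ : ∃ g : X, g ∉ K := by
    by_contra h
    push Not at h
    rw [(Subgroup.eq_top_iff' K).mpr h, Subgroup.index_top] at hK
    omega
  obtain ⟨n, hn⟩ := hs g
  have h1 : ψ (π n) = 1 := DFunLike.congr_fun (hfoc (ψ.comp π)) n
  rw [hn] at h1
  simp only [ψ, MonoidHom.mk'_apply, f, if_neg hg] at h1
  exact absurd h1 (by decide)

open scoped Pointwise in
/-- A minimal block not larger than its `V`-part: `|A| = 8`, every line a minimal block. -/
theorem Hyp.linear_cases (h : Hyp G) (hA : Closed S A) (hI : Irred A) {D V : Subgroup G} {k a : G}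
    (hD : MinBlk A D) (ha : a ∈ A) (ha1 : a ≠ 1) {E : Subgroup (qq a)} (hE : IsComponent E) (hb : blockD A a E = D)
    (hk : IsBlock A D V k) (hkc : k ∈ cc a) (hkE : ff a ⟨k, hkc⟩ ∈ E) (hle : Nat.card D ≤ Nat.card V) :
    Nat.card A = 8 ∧ ∀ x ∈ A, x ≠ 1 → MinBlk A (zpowers x) := by
  classical
  haveI : Fact (Nat.Prime 2) := ⟨Nat.prime_two⟩
  let N := normalizer (A : Set G)
  letI : CommGroup A := { (inferInstance : Group A) with mul_comm := hA.elem.1.is_comm.comm }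
  let ρ : N →* MulAut A := A.normalizerMonoidHom
  let X : Subgroup (MulAut A) := ρ.range
  have hρ : ∀ (n : N) (x : A), ((ρ.rangeRestrict n • x : A) : G) = (n : G) * x * (n : G)⁻¹ := fun _ _ => rfl
  have himage : ∀ (n : N) (W : Subgroup A),
      (ρ.rangeRestrict n • W).map A.subtype = (W.map A.subtype).map (MulAut.conj (n : G)).toMonoidHom := by
    intro n W
    ext x
    simp only [Subgroup.mem_map, Subgroup.mem_smul_pointwise_iff_exists]
    constructor
    · rintro ⟨_, ⟨w, hw, rfl⟩, rfl⟩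
      exact ⟨w, ⟨w, hw, rfl⟩, rfl⟩
    · rintro ⟨_, ⟨w, hw, rfl⟩, rfl⟩
      exact ⟨_, ⟨w, hw, rfl⟩, rfl⟩
  have hsurj : ∀ g : X, ∃ n : N, ρ.rangeRestrict n = g := MonoidHom.rangeRestrict_surjective ρ
  have hirr' : ∀ W : Subgroup A, (∀ g : X, g • W = W) → W = ⊥ ∨ W = ⊤ := by
    intro W hW
    rcases hI (W.map A.subtype) (Subgroup.map_subtype_le W) (fun g hg b hb => by
      have h := himage ⟨g, hg⟩ W
      rw [hW] at h
      rw [h]
      exact ⟨b, hb, rfl⟩) with h | h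
    · exact Or.inl ((Subgroup.map_eq_bot_iff_of_injective W A.subtype_injective).mp h)
    · refine Or.inr ((Subgroup.eq_top_iff' W).mpr fun x => ?_)
      obtain ⟨w, hw, he⟩ : (x : G) ∈ W.map A.subtype := h.symm ▸ x.2
      rwa [← Subtype.ext he]
  have htwo : ∀ K : Subgroup X, K.index ≠ 2 := index_ne_two ρ.rangeRestrict hsurj (h.focal hA)
  let κ : X := ρ.rangeRestrict ⟨k, hk.norm⟩
  have hpow : ∀ (i : ℕ) (x : A), ((κ ^ i • x : A) : G) = k ^ i * x * (k ^ i)⁻¹ := fun i x => by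
    show ((ρ.rangeRestrict ⟨k, hk.norm⟩ ^ i • x : A) : G) = _
    rw [← map_pow, hρ]
    rfl
  have hcard : ∀ W : Subgroup G, W ≤ A → Nat.card (W.subgroupOf A) = Nat.card W := fun W hW =>
    Nat.card_congr (Subgroup.subgroupOfEquivOfLe hW).toEquiv
  have hdD : ∀ n : N, (ρ.rangeRestrict n • D.subgroupOf A).map A.subtype =
      D.map (MulAut.conj (n : G)).toMonoidHom := fun n => by
    rw [himage, Subgroup.map_subgroupOf_eq_of_le hk.D_le]
  have H : CfsgLib.S3Simple.LinearBlock X (D.subgroupOf A) (V.subgroupOf A) κ :=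
    { sq := fun x => Subtype.ext (hA.sq x.2)
      inf := fun x hx hxV => Subtype.ext (mem_bot.mp (hk.disjoint.le ⟨hx, hxV⟩))
      sup := by rw [← Subgroup.subgroupOf_sup hk.D_le hk.V_le, hk.sup, Subgroup.subgroupOf_self]
      ne := fun e => hk.D_ne (by
        rw [← Subgroup.map_subgroupOf_eq_of_le hk.D_le, e, Subgroup.map_bot])
      four := by rw [hcard _ hk.V_le]; exact hk.four_le
      le := by rw [hcard _ hk.D_le, hcard _ hk.V_le]; exact hle
      fixD := fun d hd => Subtype.ext (by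
        rw [hρ]
        show k * (d : G) * k⁻¹ = d
        exact (hk.cent (d : G) hd).symm ▸ mul_inv_cancel_right _ _)
      memV := fun v hv => by
        show ((κ • v : A) : G) ∈ V
        rw [hρ]
        exact hk.inv _ hv
      tr := fun v hv hv1 w hw hw1 => by
        obtain ⟨i, hi⟩ := hk.trans v hv (fun e => hv1 (Subtype.ext e)) w hw fun e => hw1 (Subtype.ext e)
        exact ⟨i, Subtype.ext ((hpow i v).trans hi)⟩
      meet := fun g hg x hx hxD => by
        obtain ⟨n, rfl⟩ := hsurj g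
        by_contra hx1
        set D' := D.map (MulAut.conj (n : G)).toMonoidHom with hD'def
        have hD' : MinBlk A D' := hD.conj hA n.2
        have hne : D' ≠ D := fun e => hg (Subgroup.map_injective A.subtype_injective
          ((hdD n).trans (e.trans (Subgroup.map_subgroupOf_eq_of_le hk.D_le).symm)))
        have hxD' : (x : G) ∈ D' := (hdD n).le ⟨x, hx, rfl⟩
        have hmeet : D ⊓ D' ≠ ⊥ := fun e => hx1 (Subtype.ext (mem_bot.mp (e.le ⟨hxD, hxD'⟩)))
        obtain ⟨V', k', hk', -⟩ := h.exists_block hA hD'.1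
        have hcD : Nat.card D' = Nat.card D := card_map_of_injective (MulAut.conj (n : G)).injective
        have hcV : Nat.card V' = Nat.card V := by
          have e := hk'.card_eq hA
          rw [hk.card_eq hA, hcD] at e
          exact (Nat.eq_of_mul_eq_mul_left Nat.card_pos e).symm
        have e1 : V' = D := eq_of_le_of_card_ge (h.le_of_meet hA hD hD' hne.symm hmeet hk') (by rw [hcV]; exact hle)
        have e2 : V = D' := eq_of_le_of_card_ge (h.le_of_meet hA hD' hD hne (by rwa [inf_comm]) hk)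
          (by rw [hcD]; exact hle)
        exact hx1 (Subtype.ext (mem_bot.mp (hk.disjoint.le ⟨hxD, e2.symm ▸ hxD'⟩))) }
  -- the inner part
  have hdA : a ∈ D := hb ▸ self_mem_blockD ha E
  obtain ⟨T, hT⟩ := hA.imA_closed ha
  have hnc := CfsgLib.S3Simple.not_le_centralizer hA ha (hb ▸ hD.1.1)
  have hM := h.ctx (x := a) ha1
  set YN : Subgroup N := (((E.comap (ff a)).map (cc a).subtype).subgroupOf N) with hYN
  set Y : Subgroup X := YN.map ρ.rangeRestrict with hY
  have hYmem : ∀ n : N, n ∈ YN ↔ ∃ hn : (n : G) ∈ cc a, ff a ⟨n, hn⟩ ∈ E := fun n => by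
    constructor
    · rintro ⟨y, hy, hye⟩
      have : y.1 = (n : G) := hye
      exact ⟨this ▸ y.2, (show y = ⟨(n : G), this ▸ y.2⟩ from Subtype.ext this) ▸ hy⟩
    · rintro ⟨hn, hnE⟩
      exact ⟨⟨n, hn⟩, hnE, rfl⟩
  have hnorm : ∀ (n : N) (hn : (n : G) ∈ cc a), ff a ⟨n, hn⟩ ∈ normalizer (imA A a : Set (qq a)) := fun n hn => by
    refine mem_normalizer_of_maps ?_
    rintro _ ⟨y, hy, rfl⟩
    exact ⟨⟨n, hn⟩ * y * ⟨n, hn⟩⁻¹, (mem_normalizer_iff.mp n.2 (y : G)).mp hy,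
      by rw [map_mul, map_mul, map_inv]⟩
  have hbar : ∀ (n : N) (hn : (n : G) ∈ cc a) (x : A),
      ff a ⟨(ρ.rangeRestrict n • x : A), hA.mem_cc ha (ρ.rangeRestrict n • x : A).2⟩ =
        ff a ⟨n, hn⟩ * ff a ⟨x, hA.mem_cc ha x.2⟩ * (ff a ⟨n, hn⟩)⁻¹ := fun n hn x => by
    rw [← map_inv, ← map_mul, ← map_mul]
    rfl
  have hinj : ∀ x y : A, ff a ⟨x, hA.mem_cc ha x.2⟩ = ff a ⟨y, hA.mem_cc ha y.2⟩ → x = y := fun x y hxy => by
    refine inv_mul_eq_one.mp (Subtype.ext (hA.ff_inj (x⁻¹ * y : A).2 (hA.mem_cc ha (x⁻¹ * y : A).2) ?_))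
    rw [show (⟨((x⁻¹ * y : A) : G), hA.mem_cc ha (x⁻¹ * y : A).2⟩ : ↥(cc a)) =
      (⟨x, hA.mem_cc ha x.2⟩ : ↥(cc a))⁻¹ * ⟨y, hA.mem_cc ha y.2⟩ from rfl, map_mul, map_inv, hxy, inv_mul_cancel]
  have hDmem : ∀ x : A, x ∈ D.subgroupOf A ↔ ff a ⟨x, hA.mem_cc ha x.2⟩ ∈ centralizer (E : Set (qq a)) := fun x => by
    rw [mem_subgroupOf, ← hb, mem_blockD (hA.mem_cc ha x.2)]
    exact and_iff_right x.2
  -- an element trivial on `A` modulo `D`, in the quotient
  have hcomm : ∀ (n : N) (hn : (n : G) ∈ cc a) (x : A),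
      ρ.rangeRestrict n • x * x ∈ D.subgroupOf A ↔ ff a ⟨n, hn⟩ * ff a ⟨x, hA.mem_cc ha x.2⟩ * (ff a ⟨n, hn⟩)⁻¹ *
        (ff a ⟨x, hA.mem_cc ha x.2⟩)⁻¹ ∈ centralizer (E : Set (qq a)) := fun n hn x => by
    rw [hDmem, ← hbar n hn x, ← map_inv, ← map_mul]
    refine Iff.of_eq (congrArg (fun z => z ∈ centralizer (E : Set (qq a))) (congrArg (ff a) (Subtype.ext ?_)))
    show ((ρ.rangeRestrict n • x : A) : G) * x = ((ρ.rangeRestrict n • x : A) : G) * (x : G)⁻¹
    rw [inv_eq_of_mul_eq_one_right (hA.sq x.2)]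
  have hfixY : ∀ (n : N) (hn : (n : G) ∈ cc a), ff a ⟨n, hn⟩ ∈ E → ∀ d ∈ D.subgroupOf A,
      ρ.rangeRestrict n • d = d := fun n hn hnE d hd => by
    refine hinj _ _ ((hbar n hn d).trans ?_)
    rw [(hDmem d).mp hd _ hnE, mul_inv_cancel_right]
  have I : Lin.InnerPart (D.subgroupOf A) (V.subgroupOf A) κ Y :=
    { mem := mem_map_of_mem _ ((hYmem ⟨k, hk.norm⟩).mpr ⟨hkc, hkE⟩)
      fix := by
        rintro _ ⟨n, hn, rfl⟩ d hd
        obtain ⟨hnc', hnE⟩ := (hYmem n).mp hn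
        exact hfixY n hnc' hnE d hd
      conj := by
        intro g hg
        rintro _ ⟨n, hn, rfl⟩
        obtain ⟨g, rfl⟩ := hsurj g
        obtain ⟨hnc', hnE⟩ := (hYmem n).mp hn
        have hgD : ∀ t : A, t ∈ D.subgroupOf A → (g : G) * t = t * g := fun t ht =>
          mul_inv_eq_iff_eq_mul.mp (congrArg Subtype.val (hg t ht))
        have hgc : (g : G) ∈ cc a := AfterFT.CoreSep.mem_cc.mpr (hgD ⟨a, ha⟩ hdA)
        refine ⟨g * n * g⁻¹, (hYmem _).mpr ⟨mul_mem (mul_mem hgc hnc') (inv_mem hgc), ?_⟩, by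
          rw [map_mul, map_mul, map_inv]⟩
        obtain ⟨hgN, -⟩ := hM.fix_moves hT hE hnc (hnorm g hgc) (by
          rintro _ ⟨⟨y, hy, rfl⟩, hyc⟩
          rw [← map_mul, ← map_mul]
          exact congrArg _ (Subtype.ext (hgD ⟨y, hy⟩ ((hDmem ⟨y, hy⟩).mpr hyc))))
        have h1 := (mem_normalizer_iff.mp hgN _).mp hnE
        rw [← map_inv, ← map_mul, ← map_mul] at h1
        exact h1
      odd := by
        rintro _ ⟨n, hn, rfl⟩
        obtain ⟨hnc', hnE⟩ := (hYmem n).mp hn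
        obtain ⟨m, hm, hmx⟩ := hM.exists_odd_pow hT hE hnc hnE (hnorm n hnc')
        refine ⟨m, hm, fun x => ?_⟩
        rw [← map_pow, hcomm (n ^ m) (by rw [SubmonoidClass.coe_pow]; exact pow_mem hnc' m) x]
        have hpw : ff a ⟨((n ^ m : N) : G), by rw [SubmonoidClass.coe_pow]; exact pow_mem hnc' m⟩ =
            ff a ⟨n, hnc'⟩ ^ m := by
          rw [← map_pow]
          exact congrArg _ (Subtype.ext (SubmonoidClass.coe_pow n m))
        rw [hpw]
        exact hmx _ (mem_imA x.2 _)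
      kernel := by
        rintro _ ⟨n, hn, rfl⟩ htriv
        obtain ⟨hnc', hnE⟩ := (hYmem n).mp hn
        obtain ⟨_, ⟨⟨x, hxc⟩, hxA, rfl⟩, hxout, hxe⟩ := hM.exists_fixed hT hE hnc hnE (hnorm n hnc') (by
          rintro _ ⟨⟨x, hxc⟩, hxA, rfl⟩
          exact (hcomm n hnc' ⟨x, hxA⟩).mp (htriv ⟨x, hxA⟩))
        obtain ⟨d, hd, w, hw, hdw⟩ := H.decomp ⟨x, hxA⟩
        have hfix : ρ.rangeRestrict n • (⟨x, hxA⟩ : A) = ⟨x, hxA⟩ := hinj _ _ ((hbar n hnc' _).trans (by
          rw [hxe, mul_inv_cancel_right]))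
        refine ⟨w, hw, fun e => hxout ((hDmem ⟨x, hxA⟩).mp (by rw [← hdw, e, mul_one]; exact hd)), ?_⟩
        rw [← hdw, smul_mul', hfixY n hnc' hnE d hd] at hfix
        exact mul_left_cancel hfix }
  obtain ⟨hD2, hA8, hcov⟩ := Lin.linear_eight H (fun g hg => Subtype.ext (MulEquiv.ext hg)) hirr' htwo I
  rw [hcard _ hk.D_le] at hD2
  refine ⟨hA8, fun x hx hx1 => ?_⟩
  obtain ⟨g, hg⟩ := hcov ⟨x, hx⟩ fun e => hx1 (congrArg Subtype.val e)
  obtain ⟨n, rfl⟩ := hsurj g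
  have hm : D.map (MulAut.conj (n : G)).toMonoidHom = zpowers x := by
    have hxD : x ∈ D.map (MulAut.conj (n : G)).toMonoidHom := (hdD n).le ⟨_, hg, rfl⟩
    refine (eq_of_le_of_card_ge (zpowers_le.mpr hxD) ?_).symm
    rw [card_map_of_injective (MulAut.conj (n : G)).injective, hD2, Nat.card_zpowers,
      orderOf_eq_prime (hA.elem.2 x hx) hx1]
  exact hm ▸ hD.conj hA n.2

/-- The criterion: no component is moved by `A` and the cores generate a subgroup of odd order. -/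
theorem Hyp.false_of_central (h : Hyp G) (hA : Closed S A)
    (hc : ∀ a ∈ A, a ≠ 1 → ∀ E : Subgroup (qq a), IsComponent E → imA A a ≤ centralizer (E : Set (qq a)))
    (hW : Odd (Nat.card ↥(⨆ a : {a : G // a ∈ A ∧ a ≠ 1}, centralizerPPrimeCore 2 (a : G)))) : False := by
  haveI : Fact (Nat.Prime 2) := ⟨Nat.prime_two⟩
  set W : Subgroup G := ⨆ a : {a : G // a ∈ A ∧ a ≠ 1}, centralizerPPrimeCore 2 (a : G) with hWdef
  have hle : ∀ a ∈ A, a ≠ 1 → centralizerPPrimeCore 2 a ≤ W := fun a ha ha1 =>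
    le_iSup (fun a : {a : G // a ∈ A ∧ a ≠ 1} => centralizerPPrimeCore 2 (a : G)) ⟨a, ha, ha1⟩
  by_cases hW1 : W = ⊥
  · refine h.false_of_le hA (h.normalizer_ne_top hA.ne_bot fun e => h.nonabel S ⟨⟨fun x y =>
      Subtype.ext (hA.comm (e ▸ mem_top (x : G)) (e ▸ mem_top (y : G)))⟩⟩) fun a ha ha1 x hx => ?_
    obtain ⟨o, ho, n, hn, rfl⟩ := h.cc_le_of_central hA ha ha1 (hc a ha ha1) hx
    obtain rfl : o = 1 := mem_bot.mp (hW1 ▸ hle a ha ha1 ho)
    rw [one_mul]
    exact hn.1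
  · have hN : ∀ n ∈ normalizer (A : Set G), n ∈ normalizer (W : Set G) := fun n hn => by
      refine mem_normalizer_of_maps fun x hx => ?_
      have hmap : W.map (MulAut.conj n).toMonoidHom ≤ W := by
        rw [hWdef, Subgroup.map_iSup, iSup_le_iff]
        rintro ⟨a, ha, ha1⟩
        rw [CfsgLib.SolvSF.map_centralizerPPrimeCore']
        exact hle _ ((mem_normalizer_iff.mp hn a).mp ha) fun e => ha1 (by simpa using e)
      exact hmap ⟨x, hx, rfl⟩
    refine h.false_of_le hA (h.normalizer_ne_top hW1 (CfsgLib.S3Simple.Closed.ne_top_of_odd hA hW)) fun a ha ha1 x hx => ?_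
    obtain ⟨o, ho, n, hn, rfl⟩ := h.cc_le_of_central hA ha ha1 (hc a ha ha1) hx
    exact mul_mem (Subgroup.le_normalizer (hle a ha ha1 ho)) (hN n hn.1)

/-- There is a block when `|A| ≥ 8`. -/
theorem Hyp.exists_blocked (h : Hyp G) (hA : Closed S A) (h8 : 8 ≤ Nat.card A) : ∃ D, Blocked A D := by
  haveI : Fact (Nat.Prime 2) := ⟨Nat.prime_two⟩
  by_contra hno
  push Not at hno
  have hc : ∀ a ∈ A, a ≠ 1 → ∀ E : Subgroup (qq a), IsComponent E → imA A a ≤ centralizer (E : Set (qq a)) :=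
    fun a ha ha1 E hE => CfsgLib.S3Simple.central_of_no_block hno ha ha1 hE
  refine h.false_of_central hA hc ?_
  have key := (Cfsg.Agent.S0217.result (p := 2) A (fun a ha b hb => hA.comm ha hb)
    (fun a ha => by rw [pow_two]; exact hA.sq ha) (by norm_num; exact h8) (fun a => centralizerPPrimeCore 2 a)
    (fun a _ _ => map_subtype_le _)
    (fun a _ _ hd => Nat.not_odd_iff_even.mpr (even_iff_two_dvd.mpr hd) (odd_card_core a))
    (fun a ha _ b hb x hx => (mem_normalizer_iff.mp (cc_le_normalizer_core a (hA.mem_cc ha hb)) x).mp hx)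
    (fun a _ _ => oddSolv _ (odd_card_core a))
    (fun a ha _ b hb hb1 w hw => ?_)).1
  · rwa [Nat.odd_iff, ← Nat.two_dvd_ne_zero]
  · exact mem_core_of_centralizes (hA.mem_cc hb ha) (hA.sq ha) hw.1 hw.2 fun E hE =>
      CfsgLib.S3Simple.core_centralizes_component (hA.mem_cc hb ha) (hA.sq ha) hw.1 hw.2 hE
        (hc b hb hb1 E hE (mem_imA ha _))

/-- An irreducible strongly closed subgroup of order at least eight has order eight, every line a minimal block. -/
theorem Hyp.eight_of_irred (h : Hyp G) (hA : Closed S A) (hI : Irred A) (h8 : 8 ≤ Nat.card A) :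
    Nat.card A = 8 ∧ ∀ a ∈ A, a ≠ 1 → MinBlk A (zpowers a) := by
  classical
  haveI : Fact (Nat.Prime 2) := ⟨Nat.prime_two⟩
  obtain ⟨D1, hD1⟩ := h.exists_blocked hA h8
  have hex : ∃ n, ∃ D, Blocked A D ∧ Nat.card D = n := ⟨_, D1, hD1, rfl⟩
  obtain ⟨D0, hD0, hn⟩ := Nat.find_spec hex
  have hmin : ∀ D, Blocked A D → Nat.card D0 ≤ Nat.card D := fun D hD =>
    hn ▸ Nat.find_min' hex ⟨D, hD, rfl⟩
  set O : Set (Subgroup G) := {D' | ∃ g ∈ normalizer (A : Set G), D0.map (MulAut.conj g).toMonoidHom = D'}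
  have hO : ∀ D ∈ O, MinBlk A D := by
    rintro _ ⟨g, hg, rfl⟩
    refine ⟨hD0.conj hA hg, fun D' hD' hle => eq_of_le_of_card_ge hle ?_⟩
    rw [card_map_of_injective (MulAut.conj g).injective]
    exact hmin D' hD'
  have hD0O : D0 ∈ O := ⟨1, one_mem _, by ext x; simp⟩
  have hex' : ∀ D, Blocked A D → ∃ V k, IsBlock A D V k := fun D hD => by
    obtain ⟨V, k, hk, -⟩ := h.exists_block hA hD
    exact ⟨V, k, hk⟩
  obtain ⟨a0, ha0, ha01, E0, hE0, hb0⟩ := hD0.2
  obtain ⟨V0, k0, hk0, -, -, hk0c, hk0E⟩ := h.exists_block'' hA ha0 ha01 hE0 (hb0 ▸ hD0.1)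
  set q := Nat.card V0 with hqdef
  rw [hb0] at hk0
  have hAq : Nat.card A = Nat.card D0 * q := hk0.card_eq hA
  have hconj : ∀ D ∈ O, ∀ g ∈ normalizer (A : Set G), D.map (MulAut.conj g).toMonoidHom ∈ O := by
    rintro _ ⟨g, hg, rfl⟩ g' hg'
    refine ⟨g' * g, mul_mem hg' hg, ?_⟩
    ext x
    simp [Subgroup.mem_map, mul_assoc]
  by_cases hsmall : Nat.card D0 ≤ q
  · exact h.linear_cases hA hI (hO D0 hD0O) ha0 ha01 hE0 hb0 hk0 hk0c hk0E hsmall
  push Not at hsmall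
  exfalso
  have hgt : ∀ D, Blocked A D → q < Nat.card D := fun D hD => hsmall.trans_le (hmin D hD)
  have hV : ∀ D ∈ O, ∃ W k, IsBlock A D W k ∧ Nat.card W = q := fun D hD => by
    obtain ⟨W, k', hk'⟩ := hex' D (hO D hD).1
    refine ⟨W, k', hk', ?_⟩
    have e := hk'.card_eq hA
    obtain ⟨g, -, rfl⟩ := hD
    rw [hAq, card_map_of_injective (MulAut.conj g).injective] at e
    exact (Nat.eq_of_mul_eq_mul_left Nat.card_pos e).symm
  have hmeet : ∀ D D', Blocked A D → Blocked A D' → D ⊓ D' ≠ ⊥ := by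
    intro D D' hD hD' he0
    have h1 := card_mul_le_of_disjoint hD.le hD'.le he0
    rw [hAq] at h1
    have h2 := hmin D hD
    have h3 := hgt D' hD'
    have : 0 < Nat.card D0 := Nat.card_pos
    nlinarith
  have hinv : ∀ B : Subgroup G, B ≤ A → (∀ g ∈ normalizer (A : Set G), B.map (MulAut.conj g).toMonoidHom = B) →
      B = ⊥ ∨ B = A := fun B hB hBg => hI B hB fun g hg b hb => (hBg g hg).le ⟨b, hb, rfl⟩
  obtain ⟨D', hD'O, hD'ne⟩ : ∃ D' ∈ O, D' ≠ D0 := by
    by_contra! hcon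
    rcases hinv D0 hD0.le fun g hg => hcon _ (hconj D0 hD0O g hg) with h1 | h1
    · exact hD0.ne_bot h1
    · exact hD0.1 h1
  obtain ⟨D₂, hD₂O, h02, h12⟩ : ∃ D₂ ∈ O, D₂ ≠ D0 ∧ D₂ ≠ D' := by
    by_contra! hcon
    have htwo : ∀ D ∈ O, D = D0 ∨ D = D' := fun D hD => or_iff_not_imp_left.mpr (hcon D hD)
    rcases hinv (D0 ⊓ D') (inf_le_left.trans hD0.le) fun g hg => by
      rw [Subgroup.map_inf _ _ _ (MulAut.conj g).injective]
      rcases htwo _ (hconj D0 hD0O g hg) with h1 | h1 <;> rcases htwo _ (hconj D' hD'O g hg) with h2 | h2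
      · exact absurd (map_injective (MulAut.conj g).injective (h2.trans h1.symm)) hD'ne
      · rw [h1, h2]
      · rw [h1, h2, inf_comm]
      · exact absurd (map_injective (MulAut.conj g).injective (h2.trans h1.symm)) hD'ne with h1 | h1
    · exact hmeet D0 D' hD0 (hO D' hD'O).1 h1
    · exact hD0.1 (le_antisymm hD0.le (h1 ▸ inf_le_left))
  have hm : ∀ D ∈ O, ∀ E ∈ O, D ⊓ E ≠ ⊥ := fun D hD E hE => hmeet D E (hO D hD).1 (hO E hE).1
  obtain ⟨W', k', hk', hW'q⟩ := hV D' hD'O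
  obtain ⟨W₂, k₂, hk₂, hW₂q⟩ := hV D₂ hD₂O
  have hsq : q * q ≤ Nat.card D0 := by
    have h1 := h.le_of_meet hA (hO _ hD0O) (hO _ hD'O) hD'ne.symm (hm _ hD0O _ hD'O) hk'
    have h2 := h.le_of_meet hA (hO _ hD0O) (hO _ hD₂O) h02.symm (hm _ hD0O _ hD₂O) hk₂
    have h3 := h.le_of_meet hA (hO _ hD'O) (hO _ hD₂O) h12.symm (hm _ hD'O _ hD₂O) hk₂
    have h4 := card_mul_le_of_disjoint h1 h2 ((eq_bot_iff_forall _).mpr fun x hx =>
      mem_bot.mp (hk'.disjoint.le ⟨h3 hx.2, hx.1⟩))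
    rwa [hW'q, hW₂q] at h4
  have hq4 : 4 ≤ q := hk0.four_le
  refine h.false_of_many hA ?_ (fun D hD => ?_) hmeet ⟨D0, hD0⟩
  · nlinarith
  · have := hmin D hD
    nlinarith

end CfsgLib.GoldSC
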