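import Cfsg.Agent.Lib.GoldSC.Setup
import Cfsg.Agent.Lib.GoldSC.Dispatch
import Cfsg.Agent.Lib.GoldSC.Seven.Main

/-!
Goldschmidt's theorem on strongly closed abelian 2-subgroups of a simple group.

Blueprint: `blueprint/Goldschmidt.md`.
-/

set_option autoImplicit false
set_option linter.unusedSectionVars false

namespace CfsgLib.GoldSC

universe u

theorem main (G : Type u) [Group G] [Finite G] : Q G :=
  main_of_eight (fun G _ _ h S A hA hI h8 => by
    obtain ⟨hc, hblk⟩ := h.eight_of_irred hA hI h8
    exact h.false_of_seven hA hI hc hblk) G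

end CfsgLib.GoldSC
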