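import Cfsg.Agent.Lib.AfterFT.CoreSeparated
import Cfsg.Agent.Lib.S3Simple.Many.Balance
import Cfsg.Agent.Lib.S3Simple.Pair
import Cfsg.Agent.Lib.S3Simple.Dispatch
import Cfsg.Agent.S0217

/-!
The signalizer functor of a family of four-groups in an elementary group `E` (Goldschmidt's functor of a
core-separated pair, for any number of fours): `θ e = ⋂ i, [O_e, A_i] (O_e ∩ O(C(A_i)))`.

The subgroup `W` generated by the `θ e` has odd order and is normalised by the centraliser of every hyperplane of `E`;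
so it is normalised by every `O(C(e))`.

Blueprint: `blueprint/Goldschmidt.md`, SPREAD.
-/

set_option autoImplicit false
set_option linter.unusedSectionVars false
set_option linter.style.haveILetI false

namespace CfsgLib.GoldSC

open Cfsg Subgroup CfsgLib CfsgLib.Comp CfsgLib.AfterFT.CoreSep CfsgLib.Signalizer
open CfsgLib.S3Simple (oddSolv conj_mem_delta card_le_two_mul)
open scoped commutatorElement

universe u

variable {G : Type u} [Group G] [Finite G]

/-- The image of `a` in `C(y)/O` centralises `D`. -/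
def CentAt (y : G) (D : Subgroup (qq y)) (a : G) : Prop :=
  ∀ h : a ∈ cc y, ff y ⟨a, h⟩ ∈ centralizer (D : Set (qq y))

theorem CentAt.mul {y : G} {D : Subgroup (qq y)} {a b : G} (ha : CentAt y D a) (hb : CentAt y D b) (hay : a ∈ cc y)
    (hby : b ∈ cc y) : CentAt y D (a * b) := fun h => by
  rw [show (⟨a * b, h⟩ : ↥(cc y)) = ⟨a, hay⟩ * ⟨b, hby⟩ from rfl, map_mul]
  exact mul_mem (ha hay) (hb hby)

/-- A four-group `A₁` of `E` such that, at each of its elements, it either centralises a component or covers the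
action of `E` on it. -/
structure Four (E A₁ : Subgroup G) : Prop where
  ea : IsElementaryAbelian 2 E
  le : A₁ ≤ E
  four : Nat.card A₁ = 4
  sep : ∀ y ∈ A₁, y ≠ 1 → ∀ D : Subgroup (qq y), IsComponent D →
    (∀ α ∈ A₁, CentAt y D α) ∨ ∀ a ∈ E, ∃ x ∈ A₁, CentAt y D (x * a)

variable {E A₁ : Subgroup G}

theorem Four.comm (F : Four E A₁) {a b : G} (ha : a ∈ E) (hb : b ∈ E) : a * b = b * a := by
  haveI : Fact (Nat.Prime 2) := ⟨Nat.prime_two⟩
  exact ea_comm F.ea ha hb

theorem Four.sq (F : Four E A₁) {a : G} (ha : a ∈ E) : a * a = 1 := by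
  rw [← pow_two]; exact F.ea.2 a ha

theorem Four.mem_cc (F : Four E A₁) {a b : G} (ha : a ∈ E) (hb : b ∈ E) : a ∈ cc b :=
  AfterFT.CoreSep.mem_cc.mpr (F.comm ha hb)

theorem Four.isP (F : Four E A₁) : IsPGroup 2 A₁ := fun x => ⟨1, Subtype.ext (by
  rw [pow_one, pow_two]; exact F.sq (F.le x.2))⟩

theorem Four.le_normalizer_core (F : Four E A₁) {a : G} (ha : a ∈ E) :
    E ≤ normalizer (centralizerPPrimeCore 2 a : Set G) := fun _ hg =>
  cc_le_normalizer_core a (F.mem_cc hg ha)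

theorem Four.coprime_core (F : Four E A₁) {N : Subgroup G} {a : G} (hN : N ≤ centralizerPPrimeCore 2 a) :
    (Nat.card A₁).Coprime (Nat.card N) := by
  rw [F.four, show 4 = 2 ^ 2 from rfl]
  exact ((Nat.coprime_two_right.mpr (odd_of_le hN (odd_card_core a))).pow_right 2).symm

theorem Four.pair (F : Four E A₁) {a' α β : G} (ha' : a' ∈ A₁) (ha'1 : a' ≠ 1) (hα : α ∈ A₁) (hα1 : α ≠ 1)
    (hαa : α ≠ a') (hβ : β ∈ A₁) (hβ1 : β ≠ 1) (hβa : β ≠ a') : α * β = 1 ∨ α * β = a' := by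
  have P : Pair A₁ (⊥ : Subgroup G) :=
    { comm₁ := fun x hx y hy => F.comm (F.le hx) (F.le hy)
      comm₂ := fun x hx y hy => by rw [mem_bot] at hx hy; simp [hx, hy]
      comm := fun x _ y hy => by rw [mem_bot] at hy; simp [hy]
      sq₁ := fun x hx => F.sq (F.le hx)
      sq₂ := fun x hx => by rw [mem_bot] at hx; simp [hx]
      four := F.four
      sep := fun y _ _ D _ => Or.inr fun a ha h => by
        rw [mem_bot] at ha
        subst ha
        rw [show (⟨1, h⟩ : ↥(cc y)) = 1 from rfl, map_one]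
        exact one_mem _ }
  exact P.mem_pair ha' ha'1 hα hα1 hαa hβ hβ1 hβa

/-- For `a ∈ E` and `a' ∈ A₁`, the commutators of `O_a ∩ C(a')` with `A₁` lie in `O_{a'}`. -/
theorem Four.comm_mem_core (F : Four E A₁) {a a' : G} (ha : a ∈ E) (ha' : a' ∈ A₁) (ha'1 : a' ≠ 1) {w α : G}
    (hw : w ∈ centralizerPPrimeCore 2 a) (hwy : w ∈ cc a') (hα : α ∈ A₁) :
    ⁅w, α⁆ ∈ centralizerPPrimeCore 2 a' := by
  have ha'E : a' ∈ E := F.le ha'
  have hay : a ∈ cc a' := F.mem_cc ha ha'E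
  have hαy : α ∈ cc a' := F.mem_cc (F.le hα) ha'E
  have hk : ⁅w, α⁆ ∈ centralizerPPrimeCore 2 a := by
    rw [commutatorElement_def, show w * α * w⁻¹ * α⁻¹ = w * (α * w⁻¹ * α⁻¹) by group]
    exact mul_mem hw ((mem_normalizer_iff.mp (F.le_normalizer_core ha (F.le hα)) _).mp (inv_mem hw))
  have hky : ⁅w, α⁆ ∈ cc a' := by
    rw [commutatorElement_def]
    exact mul_mem (mul_mem (mul_mem hwy hαy) (inv_mem hwy)) (inv_mem hαy)
  refine mem_core_of_centralizes hay (F.sq ha) hk hky fun D hD => ?_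
  set f := ff a' with hf
  set c := f ⟨a, hay⟩ with hc
  set v := f ⟨w, hwy⟩ with hv
  set β := f ⟨α, hαy⟩ with hβ
  have hcc : c * c = 1 := by
    rw [hc, ← map_mul, show (⟨a, hay⟩ : ↥(cc a')) * ⟨a, hay⟩ = 1 from Subtype.ext (F.sq ha), map_one]
  have hO : pPrimeCore 2 (qq a') = ⊥ := pPrimeCore_quotient_eq_bot 2
  have hvk : v ∈ coreC (zpowers c) := image_core hay (F.sq ha) ⟨w, hwy⟩ hw
  have hvN : v ∈ normalizer (D : Set (qq a')) := coreC_normalizes hO (zpowers_two hcc) hD hvk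
  have e : f ⟨⁅w, α⁆, hky⟩ = ⁅v, β⁆ := by
    rw [hv, hβ, ← map_commutatorElement]; exact congrArg f (Subtype.ext rfl)
  rw [e]
  by_cases hβD : β ∈ centralizer (D : Set (qq a'))
  · exact comm_mem_centralizer hvN hβD
  rcases F.sep a' ha' ha'1 D hD with h | h
  · exact absurd (h α hα hαy) hβD
  obtain ⟨x, hx, hxa⟩ := h a ha
  have hxy : x ∈ cc a' := F.mem_cc (F.le hx) ha'E
  have hxa' : f ⟨x, hxy⟩ * c ∈ centralizer (D : Set (qq a')) := by
    rw [hc, ← map_mul]; exact hxa (mul_mem hxy hay)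
  have hzD : ∀ z : ↥(cc a'), (z : G) = 1 ∨ (z : G) = a' → f z ∈ centralizer (D : Set (qq a')) := by
    intro z hz d _
    obtain ⟨g, rfl⟩ := bar_surjective 2 d
    show f g * f z = f z * f g
    rw [← map_mul, ← map_mul]
    refine congrArg f (Subtype.ext ?_)
    show (g : G) * (z : G) = (z : G) * (g : G)
    rcases hz with e' | e' <;> rw [e']
    · rw [mul_one, one_mul]
    · exact AfterFT.CoreSep.mem_cc.mp g.2
  have hxx : f ⟨x, hxy⟩ * f ⟨x, hxy⟩ = 1 := by
    rw [← map_mul, show (⟨x, hxy⟩ : ↥(cc a')) * ⟨x, hxy⟩ = 1 from Subtype.ext (F.sq (F.le hx)), map_one]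
  by_cases hxD : f ⟨x, hxy⟩ ∈ centralizer (D : Set (qq a'))
  · -- `a` centralises `D`
    have hcD : c ∈ centralizer (D : Set (qq a')) := by
      have h1 := mul_mem hxD hxa'
      rwa [← mul_assoc, hxx, one_mul] at h1
    have hDc : D ≤ centralizer (zpowers c : Set (qq a')) := by
      refine le_centralizer_iff.mp ?_
      rw [zpowers_le]; exact hcD
    rw [← e]
    exact coreC_centralizes_component oddSolv hO (zpowers_two hcc) hD hDc
      (image_core hay (F.sq ha) ⟨⁅w, α⁆, hky⟩ hk)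
  have hmem : α * x = 1 ∨ α * x = a' :=
    F.pair ha' ha'1 hα (fun e' => hβD (hzD _ (Or.inl e'))) (fun e' => hβD (hzD _ (Or.inr e'))) hx
      (fun e' => hxD (hzD _ (Or.inl e'))) (fun e' => hxD (hzD _ (Or.inr e')))
  have hq : β * c ∈ centralizer (D : Set (qq a')) := by
    have h1 : β * c = f (⟨α, hαy⟩ * ⟨x, hxy⟩) * (f ⟨x, hxy⟩ * c) := by
      rw [map_mul, mul_assoc, ← mul_assoc (f ⟨x, hxy⟩), hxx, one_mul]
    rw [h1]
    exact mul_mem (hzD _ hmem) hxa'
  have hvc : c * v = v * c := coreC_centralizes _ hvk c (mem_zpowers c)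
  have hci : c⁻¹ = c := inv_eq_of_mul_eq_one_right hcc
  have h2 : ⁅v, β⁆ = ⁅v, β * c⁆ := by
    rw [commutatorElement_def, commutatorElement_def, mul_inv_rev, hci]
    calc v * β * v⁻¹ * β⁻¹ = v * β * (c * c) * v⁻¹ * β⁻¹ := by rw [hcc, mul_one]
      _ = v * (β * c) * (c * v⁻¹) * β⁻¹ := by group
      _ = v * (β * c) * (v⁻¹ * c) * β⁻¹ := by rw [((show Commute c v from hvc).inv_right).eq]
      _ = v * (β * c) * v⁻¹ * (c * β⁻¹) := by group
  rw [h2]
  exact comm_mem_centralizer hvN hq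

/-- An element of `O(C(k))`, `k ∈ A₁`, centralising `A₁` lies in `O(C(A₁))`. -/
theorem core_inf_le_coreC {k : G} (hk : k ∈ A₁) :
    centralizerPPrimeCore 2 k ⊓ centralizer (A₁ : Set G) ≤ coreC A₁ :=
  CfsgLib.S3Simple.core_fixed_le_coreC hk

/-- `[O_a, A₁] ∩ C(A₁) ≤ O(C(A₁))`. -/
theorem Four.fixed_le_coreC (F : Four E A₁) {a : G} (ha : a ∈ E) :
    ⁅centralizerPPrimeCore 2 a, A₁⁆ ⊓ centralizer (A₁ : Set G) ≤ coreC A₁ := by
  haveI : Fact (Nat.Prime 2) := ⟨Nat.prime_two⟩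
  set O := centralizerPPrimeCore 2 a with hOdef
  have hN : A₁ ≤ normalizer (O : Set G) := F.le.trans (F.le_normalizer_core ha)
  have hAc : IsMulCommutative ↥A₁ := ⟨⟨fun x y => Subtype.ext (F.comm (F.le x.2) (F.le y.2))⟩⟩
  haveI := F.isP.isNilpotent
  have hYO : ⁅O, A₁⁆ ≤ O := commutator_le_of_le_normalizer hN
  rw [Cfsg.Agent.S1329.result A₁ A₁ ⁅O, A₁⁆ F.isP hAc le_rfl (odd_of_le hYO (odd_card_core a))
    (right_le_normalizer_commutator A₁ O) (coprime_commutator_commutator hN (F.coprime_core le_rfl) (Or.inl inferInstance))]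
  refine iSup_le fun ⟨B₀, hB₀, hcyc⟩ => ?_
  haveI : (B₀.subgroupOf A₁).Normal :=
    ⟨fun n hn g => by rwa [hAc.is_comm.comm g n, mul_inv_cancel_right]⟩
  have hne : ∃ a' ∈ B₀, a' ≠ 1 := by
    by_contra hall
    push_neg at hall
    have hb : B₀.subgroupOf A₁ = ⊥ :=
      (eq_bot_iff_forall _).mpr fun z hz => Subtype.ext (hall _ hz)
    haveI := hcyc
    obtain ⟨g, hg⟩ := IsCyclic.exists_ofOrder_eq_natCard (α := ↥A₁ ⧸ B₀.subgroupOf A₁)
    have h4 : Nat.card (↥A₁ ⧸ B₀.subgroupOf A₁) = 4 := by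
      rw [← index_eq_card, hb, index_bot]; exact F.four
    obtain ⟨g, rfl⟩ := QuotientGroup.mk'_surjective _ g
    have h2 : orderOf (QuotientGroup.mk' (B₀.subgroupOf A₁) g) ∣ 2 := by
      refine orderOf_dvd_of_pow_eq_one ?_
      rw [← map_pow, show g ^ 2 = 1 from Subtype.ext (by rw [pow_two]; exact F.sq (F.le g.2)), map_one]
    rw [hg, h4] at h2
    exact absurd (Nat.le_of_dvd two_pos h2) (by omega)
  obtain ⟨a', ha'B, ha'1⟩ := hne
  have ha' : a' ∈ A₁ := hB₀ ha'B
  have hle : ⁅⁅O, A₁⁆ ⊓ centralizer (B₀ : Set G), A₁⁆ ≤ centralizerPPrimeCore 2 a' := by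
    rw [commutator_le]
    intro w hw α hα
    exact F.comm_mem_core ha ha' ha'1 (hYO hw.1) (AfterFT.CoreSep.mem_cc.mpr (hw.2 a' ha'B).symm) hα
  exact fun t ht => core_inf_le_coreC ha' ⟨hle ht.2, ht.1.2⟩

theorem Four.YY_le (F : Four E A₁) {a : G} (ha : a ∈ E) : YY A₁ a ≤ centralizerPPrimeCore 2 a :=
  sup_le (commutator_le_of_le_normalizer (F.le.trans (F.le_normalizer_core ha))) inf_le_left

theorem Four.YY_invariant (F : Four E A₁) {a : G} (ha : a ∈ E) : E ≤ normalizer (YY A₁ a : Set G) := by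
  intro g hg
  have hgO := F.le_normalizer_core ha hg
  have hgC : g ∈ centralizer (A₁ : Set G) := fun x hx => F.comm (F.le hx) hg
  have hgK := centralizer_le_normalizer_coreC A₁ hgC
  refine mem_normalizer_of_maps fun x hx => ?_
  have hle : YY A₁ a ≤ (YY A₁ a).comap (MulAut.conj g).toMonoidHom := by
    refine sup_le ?_ fun w hw => mem_sup_right ⟨(mem_normalizer_iff.mp hgO w).mp hw.1,
      (mem_normalizer_iff.mp hgK w).mp hw.2⟩
    rw [commutator_le]
    intro w hw α hα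
    refine mem_sup_left ?_
    show g * ⁅w, α⁆ * g⁻¹ ∈ _
    have e : g * α * g⁻¹ = α := by rw [← hgC α hα, mul_inv_cancel_right]
    have h1 : g * ⁅w, α⁆ * g⁻¹ = ⁅g * w * g⁻¹, α⁆ := by
      conv_rhs => rw [← e]
      rw [commutatorElement_def, commutatorElement_def]
      group
    rw [h1]
    exact commutator_mem_commutator ((mem_normalizer_iff.mp hgO w).mp hw) hα
  exact hle hx

/-- `Y ∩ C(A₁) ≤ O(C(A₁))`. -/
theorem Four.YY_fixed (F : Four E A₁) {a : G} (ha : a ∈ E) :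
    YY A₁ a ⊓ centralizer (A₁ : Set G) ≤ coreC A₁ := by
  intro t ht
  have h : t ∈ ((YY A₁ a : Subgroup G) : Set G) := ht.1
  rw [coe_mul_of_right_le_normalizer_left _ _
    (inf_le_left.trans (left_le_normalizer_commutator A₁ (centralizerPPrimeCore 2 a)))] at h
  obtain ⟨u, hu, k, hk, rfl⟩ := h
  refine mul_mem (F.fixed_le_coreC ha ⟨hu, ?_⟩) hk.2
  show u ∈ centralizer (A₁ : Set G)
  have h1 := mul_mem (Subgroup.mem_inf.mp ht).2 (inv_mem (coreC_centralizes A₁ hk.2))
  rwa [mul_inv_cancel_right] at h1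

/-- An element of `Y(a) ∩ C(b)` centralises each component of `C(b)/O` centralised by `A₁`. -/
theorem Four.YY_centralizes (F : Four E A₁) {a b : G} (ha : a ∈ E) (hb : b ∈ E) {D : Subgroup (qq b)}
    (hD : IsComponent D) (hA : ∀ α ∈ A₁, CentAt b D α) {z : G} (hz : z ∈ YY A₁ a) (hzb : z ∈ cc b) :
    ff b ⟨z, hzb⟩ ∈ centralizer (D : Set (qq b)) := by
  haveI : Fact (Nat.Prime 2) := ⟨Nat.prime_two⟩
  have hO : pPrimeCore 2 (qq b) = ⊥ := pPrimeCore_quotient_eq_bot 2
  have hAb : A₁ ≤ cc b := fun α hα => F.mem_cc (F.le hα) hb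
  have hab : a ∈ cc b := F.mem_cc ha hb
  set N := YY A₁ a ⊓ cc b with hN
  have hAN : A₁ ≤ normalizer (N : Set G) := fun g hg => mem_normalizer_of_maps fun x hx =>
    Subgroup.mem_inf.mpr ⟨(mem_normalizer_iff.mp (F.YY_invariant ha (F.le hg)) x).mp hx.1,
      mul_mem (mul_mem (hAb hg) (Subgroup.mem_inf.mp hx).2) (inv_mem (hAb hg))⟩
  haveI := F.isP.isNilpotent
  obtain ⟨x, hx, k, hk, rfl⟩ := coprime_decomp hAN (F.coprime_core (inf_le_left.trans (F.YY_le ha)))
    (Or.inl inferInstance) (k := z) ⟨hz, hzb⟩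
  have h1 : ⁅N, A₁⁆ ≤ ((centralizer (D : Set (qq b))).comap (ff b)).map (cc b).subtype := by
    rw [commutator_le]
    intro n hn α hα
    refine ⟨⁅(⟨n, hn.2⟩ : ↥(cc b)), ⟨α, hAb hα⟩⁆, ?_, rfl⟩
    rw [SetLike.mem_coe, mem_comap, map_commutatorElement]
    refine comm_mem_centralizer ?_ (hA α hα (hAb hα))
    exact coreC_normalizes hO (zpowers_two (by
      rw [← map_mul, show (⟨a, hab⟩ : ↥(cc b)) * ⟨a, hab⟩ = 1 from Subtype.ext (F.sq ha), map_one])) hD
      (image_core hab (F.sq ha) ⟨n, hn.2⟩ (F.YY_le ha hn.1))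
  obtain ⟨x', hx', rfl⟩ := h1 hx
  have hkK : k ∈ coreC A₁ := F.YY_fixed ha ⟨hk.1.1, hk.2⟩
  have hAim : ∀ q ∈ (A₁.subgroupOf (cc b)).map (ff b), q ∈ centralizer (D : Set (qq b)) := by
    rintro _ ⟨α, hα, rfl⟩
    exact hA α hα α.2
  have hk' : ff b ⟨k, hk.1.2⟩ ∈ centralizer (D : Set (qq b)) :=
    coreC_centralizes_component oddSolv hO
      ((F.isP.of_equiv (subgroupOfEquivOfLe hAb).symm).map _) hD
      (le_centralizer_iff.mp hAim) (image_coreC hAb F.isP ⟨k, hk.1.2⟩ hkK)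
  rw [show (⟨(cc b).subtype x' * k, hzb⟩ : ↥(cc b)) = x' * ⟨k, hk.1.2⟩ from Subtype.ext rfl, map_mul]
  exact mul_mem hx' hk'

/-- Balance for one four-group, given that the element lies in `O_b`. -/
theorem Four.YY_balance (F : Four E A₁) {a b : G} (ha : a ∈ E) (hb : b ∈ E) {z : G}
    (hz : z ∈ YY A₁ a) (hzb : z ∈ centralizerPPrimeCore 2 b) : z ∈ YY A₁ b := by
  haveI : Fact (Nat.Prime 2) := ⟨Nat.prime_two⟩
  set N := YY A₁ a ⊓ centralizerPPrimeCore 2 b with hN
  have hAN : A₁ ≤ normalizer (N : Set G) := fun g hg => mem_normalizer_of_maps fun x hx =>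
    ⟨(mem_normalizer_iff.mp (F.YY_invariant ha (F.le hg)) x).mp hx.1,
      (mem_normalizer_iff.mp (F.le_normalizer_core hb (F.le hg)) x).mp hx.2⟩
  haveI := F.isP.isNilpotent
  obtain ⟨x, hx, k, hk, rfl⟩ := coprime_decomp hAN (F.coprime_core inf_le_right) (Or.inl inferInstance)
    (k := z) ⟨hz, hzb⟩
  exact mul_mem_sup (commutator_mono inf_le_right le_rfl hx) ⟨hk.1.2, F.YY_fixed ha ⟨hk.1.1, hk.2⟩⟩

/-- A family of fours such that each component at an element of `E` is centralised by one of them or takes no part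
in the cores. -/
structure Spread (E : Subgroup G) {ι : Type} (A : ι → Subgroup G) : Prop where
  ea : IsElementaryAbelian 2 E
  card : 8 ≤ Nat.card E
  fours : ∀ i, Four E (A i)
  cover : ∀ b ∈ E, b ≠ 1 → ∀ D : Subgroup (qq b), IsComponent D → (∃ i, ∀ α ∈ A i, CentAt b D α) ∨
    ∀ a ∈ E, a ≠ 1 → ∀ w ∈ centralizerPPrimeCore 2 a, CentAt b D w

/-- The signalizer. -/
def sigT {ι : Type} (A : ι → Subgroup G) (e : G) : Subgroup G :=
  centralizerPPrimeCore 2 e ⊓ ⨅ i, YY (A i) e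

/-- The subgroup generated by the signalizers. -/
def sigW (E : Subgroup G) {ι : Type} (A : ι → Subgroup G) : Subgroup G :=
  ⨆ e : {e : G // e ∈ E ∧ e ≠ 1}, sigT A (e : G)

variable {ι : Type} {A : ι → Subgroup G}

theorem sigT_le_core (A : ι → Subgroup G) (e : G) : sigT A e ≤ centralizerPPrimeCore 2 e := inf_le_left

theorem sigT_le_YY (A : ι → Subgroup G) (e : G) (i : ι) : sigT A e ≤ YY (A i) e := inf_le_right.trans (iInf_le _ i)

theorem Spread.sigT_le_sigW (_P : Spread E A) {e : G} (he : e ∈ E) (he1 : e ≠ 1) : sigT A e ≤ sigW E A :=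
  le_iSup (fun e : {e : G // e ∈ E ∧ e ≠ 1} => sigT A (e : G)) ⟨e, he, he1⟩

theorem Spread.invariant (P : Spread E A) {e : G} (he : e ∈ E) : E ≤ normalizer (sigT A e : Set G) :=
  fun g hg => mem_normalizer_of_maps fun x hx => by
    refine Subgroup.mem_inf.mpr ⟨(mem_normalizer_iff.mp (cc_le_normalizer_core e (AfterFT.CoreSep.mem_cc.mpr
      (haveI : Fact (Nat.Prime 2) := ⟨Nat.prime_two⟩; ea_comm P.ea hg he))) x).mp hx.1, mem_iInf.mpr fun i => ?_⟩
    exact (mem_normalizer_iff.mp ((P.fours i).YY_invariant he hg) x).mp (mem_iInf.mp hx.2 i)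

theorem Spread.balance (P : Spread E A) {a b : G} (ha : a ∈ E) (ha1 : a ≠ 1) (hb : b ∈ E) (hb1 : b ≠ 1) :
    sigT A a ⊓ cc b ≤ sigT A b := by
  haveI : Fact (Nat.Prime 2) := ⟨Nat.prime_two⟩
  intro z hz
  have hab : a ∈ cc b := AfterFT.CoreSep.mem_cc.mpr (ea_comm P.ea ha hb)
  have hcore : z ∈ centralizerPPrimeCore 2 b := by
    refine mem_core_of_centralizes hab (by rw [← pow_two]; exact P.ea.2 a ha) hz.1.1 hz.2 fun D hD => ?_
    rcases P.cover b hb hb1 D hD with ⟨i, hi⟩ | h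
    · exact (P.fours i).YY_centralizes ha hb hD hi (sigT_le_YY A a i hz.1) hz.2
    · exact h a ha ha1 z hz.1.1 hz.2
  exact Subgroup.mem_inf.mpr ⟨hcore, mem_iInf.mpr fun i => (P.fours i).YY_balance ha hb (sigT_le_YY A a i hz.1) hcore⟩

theorem Spread.key (P : Spread E A) : ¬ 2 ∣ Nat.card (sigW E A) ∧
    ∀ a ∈ E, a ≠ 1 → sigW E A ⊓ centralizer {a} = sigT A a := by
  haveI : Fact (Nat.Prime 2) := ⟨Nat.prime_two⟩
  exact Cfsg.Agent.S0217.result (p := 2) E (fun a ha b hb => ea_comm P.ea ha hb) P.ea.2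
    (by norm_num; exact P.card) (sigT A)
    (fun a _ _ => (sigT_le_core A a).trans (map_subtype_le _))
    (fun a _ _ hd => Nat.not_odd_iff_even.mpr (even_iff_two_dvd.mpr hd) (odd_of_le (sigT_le_core A a) (odd_card_core a)))
    (fun a ha _ b hb x hx => (mem_normalizer_iff.mp (P.invariant ha hb) x).mp hx)
    (fun a _ _ => oddSolv _ (odd_of_le (sigT_le_core A a) (odd_card_core a)))
    (fun a ha ha1 b hb hb1 => P.balance ha ha1 hb hb1)

theorem Spread.odd_sigW (P : Spread E A) : Odd (Nat.card (sigW E A)) :=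
  Nat.odd_iff.mpr (Nat.two_dvd_ne_zero.mp P.key.1)

theorem Spread.le_normalizer_sigW (P : Spread E A) : E ≤ normalizer (sigW E A : Set G) := fun g hg => by
  refine mem_normalizer_of_maps fun x hx => ?_
  have hle : sigW E A ≤ (sigW E A).comap (MulAut.conj g).toMonoidHom := iSup_le fun e y hy =>
    P.sigT_le_sigW e.2.1 e.2.2 ((mem_normalizer_iff.mp (P.invariant e.2.1 hg) y).mp hy)
  exact hle hx

/-- What centralises a hyperplane of `E` normalises `W`. -/
theorem Spread.centralizer_le_normalizer (P : Spread E A) {H : Subgroup G} (hH : H ≤ E) (hHi : H.relIndex E ≤ 2) :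
    centralizer (H : Set G) ≤ normalizer (sigW E A : Set G) := by
  classical
  haveI : Fact (Nat.Prime 2) := ⟨Nat.prime_two⟩
  set W := sigW E A with hW
  have hWodd : ¬ 2 ∣ Nat.card W := P.key.1
  have hHe : IsElementaryAbelian 2 H := ea_le P.ea hH
  have hWH : H ≤ normalizer (W : Set G) := hH.trans P.le_normalizer_sigW
  have hcardH : Nat.card E ≤ Nat.card H * 2 := card_le_two_mul hH hHi
  have hcE := P.card
  -- the fixed points of `H`
  have hfix : ∀ y ∈ signalizerDelta 2 H ⊓ centralizer (H : Set G), y ∈ W := by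
    intro y hy
    obtain ⟨h, hh, hh1⟩ := H.bot_or_exists_ne_one.resolve_left fun e => by
      rw [e, card_bot] at hcardH
      omega
    refine P.sigT_le_sigW (hH hh) hh1 (Subgroup.mem_inf.mpr ⟨KFunctor.mem_delta.1 hy.1 h hh hh1, mem_iInf.mpr fun i => ?_⟩)
    set R := signalizerDelta 2 H ⊓ centralizer (H : Set G) with hR
    have hRh : R ≤ centralizerPPrimeCore 2 h := fun z hz => KFunctor.mem_delta.1 hz.1 h hh hh1
    have hRA : A i ≤ normalizer (R : Set G) := fun g hg => mem_normalizer_of_maps fun z hz =>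
      ⟨(mem_normalizer_iff.mp (KFunctor.delta_normalizes P.ea hH ((P.fours i).le hg)) z).mp hz.1,
        (mem_normalizer_iff.mp (le_normalizer_centralizer P.ea hH ((P.fours i).le hg)) z).mp hz.2⟩
    haveI := (P.fours i).isP.isNilpotent
    obtain ⟨u, hu, c, hc, rfl⟩ := coprime_decomp hRA ((P.fours i).coprime_core hRh) (Or.inl inferInstance) (k := y) hy
    obtain ⟨k, hkA, hkH, hk1⟩ : ∃ k ∈ A i, k ∈ H ∧ k ≠ 1 := by
      by_contra hcon
      push Not at hcon
      have h1 := CfsgLib.S3Simple.card_mul_le_of_disjoint (P.fours i).le hH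
        ((eq_bot_iff_forall _).mpr fun z hz => hcon z hz.1 hz.2)
      rw [(P.fours i).four] at h1
      omega
    exact mul_mem_sup (commutator_mono hRh le_rfl hu)
      ⟨hRh hc.1, core_inf_le_coreC hkA ⟨KFunctor.mem_delta.1 hc.1.1 k hkH hk1, hc.2⟩⟩
  intro x hx
  refine mem_normalizer_of_maps fun w0 hw0 => ?_
  suffices hle : W ≤ W.comap (MulAut.conj x).toMonoidHom from hle hw0
  conv_lhs => rw [gen_index hHe hWodd hWH]
  refine iSup_le fun ⟨K, hK, hKi⟩ w ⟨hwW, hwK⟩ => ?_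
  show x * w * x⁻¹ ∈ W
  have hKE : K ≤ E := hK.trans hH
  have hK2 : 2 ≤ Nat.card K := by
    have := card_le_two_mul hK hKi
    omega
  set R := signalizerDelta 2 K ⊓ centralizer (K : Set G) with hR
  obtain ⟨k, hk, hk1⟩ := K.bot_or_exists_ne_one.resolve_left fun e => by
    rw [e, card_bot] at hK2
    omega
  have hRk : R ≤ centralizerPPrimeCore 2 k := fun z hz => KFunctor.mem_delta.1 hz.1 k hk hk1
  have hwR : ∀ v ∈ W ⊓ centralizer (K : Set G), v ∈ R := fun v hv => ⟨KFunctor.mem_delta.2 fun e he he1 =>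
    sigT_le_core A e ((P.key.2 e (hKE he) he1).le ⟨hv.1, mem_centralizer_singleton_iff.mpr (hv.2 e he).symm⟩), hv.2⟩
  have hEWK : E ≤ normalizer ((W ⊓ centralizer (K : Set G) : Subgroup G) : Set G) := fun g hg =>
    mem_normalizer_of_maps fun z hz => ⟨(mem_normalizer_iff.mp (P.le_normalizer_sigW hg) z).mp hz.1,
      (mem_normalizer_iff.mp (le_normalizer_centralizer P.ea hKE hg) z).mp hz.2⟩
  have hER : E ≤ normalizer (R : Set G) := fun g hg => mem_normalizer_of_maps fun z hz =>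
    ⟨(mem_normalizer_iff.mp (KFunctor.delta_normalizes P.ea hKE hg) z).mp hz.1,
      (mem_normalizer_iff.mp (le_normalizer_centralizer P.ea hKE hg) z).mp hz.2⟩
  have hxK : x ∈ centralizer (K : Set G) := centralizer_le hK hx
  have hxR : ∀ z ∈ R, x * z * x⁻¹ ∈ R := by
    intro z hz
    have hmap : K.map (MulAut.conj x).toMonoidHom = K := eq_of_le_of_card_ge (by
      rintro _ ⟨b, hb, rfl⟩
      show x * b * x⁻¹ ∈ K
      rwa [← hxK b hb, mul_inv_cancel_right]) (card_map_of_injective (MulAut.conj x).injective).ge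
    exact Subgroup.mem_inf.mpr ⟨hmap ▸ conj_mem_delta x hz.1, mul_mem (mul_mem hxK (Subgroup.mem_inf.mp hz).2) (inv_mem hxK)⟩
  -- the commutators with `H`
  have hcomm : ⁅R, H⁆ ≤ W := by
    rw [commutator_le]
    intro p hp d hd
    refine P.sigT_le_sigW (hKE hk) hk1 (Subgroup.mem_inf.mpr ⟨?_, mem_iInf.mpr fun i => ?_⟩)
    · rw [commutatorElement_def, show p * d * p⁻¹ * d⁻¹ = p * (d * p⁻¹ * d⁻¹) by group]
      exact mul_mem (hRk hp) (hRk ((mem_normalizer_iff.mp (hER (hH hd)) _).mp (inv_mem hp)))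
    have hRA : A i ≤ normalizer (R : Set G) := (P.fours i).le.trans hER
    haveI := (P.fours i).isP.isNilpotent
    obtain ⟨u, hu, c, hc, rfl⟩ := coprime_decomp hRA ((P.fours i).coprime_core hRk) (Or.inl inferInstance) (k := p) hp
    have hdR : ∀ z ∈ ⁅R, A i⁆, d * z * d⁻¹ ∈ ⁅R, A i⁆ := by
      intro z hz
      have hle : ⁅R, A i⁆ ≤ (⁅R, A i⁆).comap (MulAut.conj d).toMonoidHom := by
        rw [commutator_le]
        intro r hr α hα
        rw [mem_comap, MulEquiv.coe_toMonoidHom, MulAut.conj_apply]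
        have e : d * α * d⁻¹ = α := by rw [(P.fours i).comm (hH hd) ((P.fours i).le hα), mul_inv_cancel_right]
        have h1 : d * ⁅r, α⁆ * d⁻¹ = ⁅d * r * d⁻¹, α⁆ := by
          conv_rhs => rw [← e]
          rw [commutatorElement_def, commutatorElement_def]
          group
        rw [h1]
        exact commutator_mem_commutator ((mem_normalizer_iff.mp (hER (hH hd)) r).mp hr) hα
      exact hle hz
    have hcmem : c ∈ centralizerPPrimeCore 2 k ⊓ coreC (A i) ∨ c * d = d * c := by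
      by_cases hmeet : ∃ a ∈ A i, a ∈ K ∧ a ≠ 1
      · obtain ⟨a, haA, haK, ha1⟩ := hmeet
        exact Or.inl ⟨hRk hc.1, core_inf_le_coreC haA ⟨KFunctor.mem_delta.1 hc.1.1 a haK ha1, hc.2⟩⟩
      push Not at hmeet
      right
      -- `E = A_i K`
      have hdis : A i ⊓ K = ⊥ := (eq_bot_iff_forall _).mpr fun z hz => hmeet z hz.1 hz.2
      have hcardK := card_le_two_mul hK hKi
      let f : A i × K → E := fun q => ⟨(q.1 : G) * q.2, E.mul_mem ((P.fours i).le q.1.2) (hKE q.2.2)⟩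
      have hf : Function.Injective f := fun q r e => by
        have h' : (q.1 : G) * q.2 = r.1 * r.2 := congrArg Subtype.val e
        have h1 : (r.1 : G)⁻¹ * q.1 ∈ A i ⊓ K := Subgroup.mem_inf.mpr ⟨mul_mem (inv_mem r.1.2) q.1.2, by
          rw [show (r.1 : G)⁻¹ * q.1 = r.2 * (q.2 : G)⁻¹ by
            rw [eq_mul_inv_iff_mul_eq, mul_assoc, h', inv_mul_cancel_left]]
          exact mul_mem r.2.2 (inv_mem q.2.2)⟩
        rw [hdis, mem_bot] at h1
        have e1 : (r.1 : G) = q.1 := inv_mul_eq_one.mp h1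
        rw [e1] at h'
        exact Prod.ext (Subtype.ext e1.symm) (Subtype.ext (mul_left_cancel h'))
      obtain ⟨q, hq⟩ := ((Nat.bijective_iff_injective_and_card f).mpr ⟨hf, le_antisymm
        (Nat.card_le_card_of_injective f hf) (by rw [Nat.card_prod, (P.fours i).four]; omega)⟩).2 ⟨d, hH hd⟩
      have hq' : (q.1 : G) * q.2 = d := congrArg Subtype.val hq
      rw [← hq', ← mul_assoc, ← hc.2 q.1 q.1.2, mul_assoc, ← hc.1.2 q.2 q.2.2, mul_assoc]
    -- `[u c, d]`
    have e : ⁅u * c, d⁆ = u * (c * d * c⁻¹ * d⁻¹) * (d * u⁻¹ * d⁻¹) := by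
      rw [commutatorElement_def]; group
    rw [e]
    refine mul_mem (mul_mem (mem_sup_left (commutator_mono hRk le_rfl hu)) ?_)
      (mem_sup_left (commutator_mono hRk le_rfl (hdR _ (inv_mem hu))))
    rcases hcmem with h | h
    · refine mem_sup_right ?_
      rw [show c * d * c⁻¹ * d⁻¹ = c * (d * c⁻¹ * d⁻¹) by group]
      exact mul_mem h (Subgroup.mem_inf.mpr
        ⟨(mem_normalizer_iff.mp (cc_le_normalizer_core k ((P.fours i).mem_cc (hH hd) (hKE hk))) _).mp (inv_mem h.1),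
          (mem_normalizer_iff.mp (centralizer_le_normalizer_coreC (A i)
            (fun a ha => (P.fours i).comm ((P.fours i).le ha) (hH hd))) _).mp (inv_mem h.2)⟩)
    · rw [h, mul_inv_cancel_right, mul_inv_cancel]
      exact one_mem _
  have hcop : (Nat.card H).Coprime (Nat.card ↥(W ⊓ centralizer (K : Set G))) :=
    (ea_coprime hHe hWodd).coprime_dvd_right (card_dvd_of_le inf_le_left)
  obtain ⟨m, hm, f, hf, rfl⟩ := coprime_decomp (hH.trans hEWK) hcop (Or.inl (ea_solvable hHe))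
    (k := w) ⟨hwW, hwK⟩
  have hxm : x * m * x⁻¹ ∈ ⁅R, H⁆ := by
    have hle : ⁅W ⊓ centralizer (K : Set G), H⁆ ≤ (⁅R, H⁆).comap (MulAut.conj x).toMonoidHom := by
      rw [commutator_le]
      intro p hp t ht
      rw [mem_comap, map_commutatorElement]
      refine commutator_mem_commutator (hxR p (hwR p hp)) ?_
      rw [MulEquiv.coe_toMonoidHom, MulAut.conj_apply, ← hx t ht, mul_inv_cancel_right]
      exact ht
    exact hle hm
  have hfD : f ∈ signalizerDelta 2 H := KFunctor.mem_delta.2 fun e he he1 =>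
    sigT_le_core A e ((P.key.2 e (hH he) he1).le ⟨hf.1.1, mem_centralizer_singleton_iff.mpr (hf.2 e he).symm⟩)
  have hmap : H.map (MulAut.conj x).toMonoidHom = H := eq_of_le_of_card_ge (by
    rintro _ ⟨b, hb, rfl⟩
    show x * b * x⁻¹ ∈ H
    rwa [← hx b hb, mul_inv_cancel_right]) (card_map_of_injective (MulAut.conj x).injective).ge
  rw [show x * (m * f) * x⁻¹ = x * m * x⁻¹ * (x * f * x⁻¹) by group]
  exact mul_mem (hcomm hxm) (hfix _ (Subgroup.mem_inf.mpr ⟨hmap ▸ conj_mem_delta x hfD, mul_mem (mul_mem hx (Subgroup.mem_inf.mp hf).2) (inv_mem hx)⟩))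

/-- The cores at the elements of `E` normalise `W`. -/
theorem Spread.core_le_normalizer (P : Spread E A) {a : G} (ha : a ∈ E) :
    centralizerPPrimeCore 2 a ≤ normalizer (sigW E A : Set G) := by
  haveI : Fact (Nat.Prime 2) := ⟨Nat.prime_two⟩
  rw [gen_index P.ea (fun h2 => Nat.not_odd_iff_even.mpr (even_iff_two_dvd.mpr h2) (odd_card_core a))
    (fun x hx => cc_le_normalizer_core a (AfterFT.CoreSep.mem_cc.mpr (ea_comm P.ea hx ha)))]
  exact iSup_le fun ⟨H, hH, hHi⟩ x hx => P.centralizer_le_normalizer hH hHi hx.2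

/-- With an element of `A i ∖ 1` the core at it is all of `YY`. -/
theorem Four.core_le_YY (F : Four E A₁) {a : G} (ha : a ∈ A₁) : centralizerPPrimeCore 2 a ≤ YY A₁ a := by
  haveI : Fact (Nat.Prime 2) := ⟨Nat.prime_two⟩
  intro z hz
  haveI := F.isP.isNilpotent
  obtain ⟨x, hx, k, hk, rfl⟩ := coprime_decomp (F.le.trans (F.le_normalizer_core (F.le ha)))
    (F.coprime_core le_rfl) (Or.inl inferInstance) (k := z) hz
  exact mul_mem_sup hx ⟨hk.1, core_inf_le_coreC ha hk⟩

end CfsgLib.GoldSC
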