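import Cfsg.Agent.Lib.GoldSC.Defs
import Cfsg.Agent.Lib.Walter.Ab.Main
import Cfsg.Agent.Lib.Walter.Main
import Cfsg.Agent.Lib.Bender.ConsSimple
import Cfsg.Agent.S0222

/-!
The list of the induction: the simple groups with a non-trivial strongly closed abelian 2-subgroup.

Blueprint: `blueprint/Goldschmidt.md`, A.
-/

set_option autoImplicit false
set_option linter.unusedSectionVars false

namespace CfsgLib.GoldSC

open Subgroup

universe u

/-- `U₃(2^n)`, `n ≥ 2`. -/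
def IsU3 (K : Type u) [Group K] : Prop :=
  ∃ (F : Type) (_ : Field F) (_ : Fintype F) (n : ℕ), 2 ≤ n ∧ Fintype.card F = (2 ^ n) ^ 2 ∧
    Nonempty (K ≃* Cfsg.PSU 3 F (2 ^ n))

/-- The list: `L₂(2^n)`, `L₂(q)` with `q ≡ 3, 5 mod 8`, the groups of Janko–Ree type, `Sz` and `U₃(2^n)`. -/
def Listed (K : Type u) [Group K] : Prop :=
  WalterAb.Listed K ∨ Cfsg.Lie.IsoSuzuki K ∨ IsU3 K

theorem listed_congr : ∀ (Y Z : Type u) [Group Y] [Group Z], Nonempty (Y ≃* Z) → Listed Y → Listed Z := by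
  rintro Y Z _ _ ⟨e⟩ (h | ⟨F, i1, i2, m, hm, hc, ⟨f⟩⟩ | ⟨F, i1, i2, n, hn, hc, ⟨f⟩⟩)
  · exact Or.inl (WalterAb.listed_congr Y Z ⟨e⟩ h)
  · exact Or.inr (Or.inl ⟨F, i1, i2, m, hm, hc, ⟨e.symm.trans f⟩⟩)
  · exact Or.inr (Or.inr ⟨F, i1, i2, n, hn, hc, ⟨e.symm.trans f⟩⟩)

/-- A simple group satisfying the statement and having a non-trivial strongly closed abelian 2-subgroup is on the
list. -/
theorem listed_of_Q {K : Type u} [Group K] [Finite K] (hQ : Q K) (hs : IsSimpleGroup K) (hna : ¬ IsMulCommutative K)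
    (S : Sylow 2 K) (A : Subgroup K) (h1 : A ≠ ⊥) (hA : IsMulCommutative A)
    (hcl : Cfsg.IsStronglyClosed A (S : Subgroup K)) : Listed K := by
  haveI : Fact (Nat.Prime 2) := ⟨Nat.prime_two⟩
  haveI := hs
  rcases hQ hs S A h1 hA hcl with hab | ⟨H, hH⟩
  · refine Or.inl (WalterAb.listed_of_P (fun X _ _ => Walter.p_all X) K hs hna fun P => ?_)
    haveI := hab
    exact ⟨⟨fun a b => (Sylow.equiv P S).injective (by rw [map_mul, map_mul]; exact hab.1.comm _ _)⟩⟩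
  · rcases Bender.isBenderGroup_of_stronglyEmbedded (Bender.Assembly.benderHyp Bender.Assembly.goodAll)
      Bender.Assembly.suzukiHyp hH with ⟨F, i1, i2, hc, e⟩ | h | h
    · exact Or.inl (Or.inl ⟨F, i1, i2, Or.inr hc, e⟩)
    · exact Or.inr (Or.inl h)
    · exact Or.inr (Or.inr h)

end CfsgLib.GoldSC
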