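import Cfsg.Agent.Lib.GoldSC.Local
import Cfsg.Agent.Lib.GoldSC.List
import Cfsg.Agent.Lib.BinaryCoset.UnitaryModel
import Cfsg.Agent.Lib.U3Type.Model
import Cfsg.Agent.Lib.InnerFix.Classical
import Cfsg.Agent.Lib.AfterFT.OutSolvable
import Cfsg.Agent.S0205

/-!
The local properties of `U₃(2^n)`.

Blueprint: `blueprint/Goldschmidt.md`, A1.
-/

set_option autoImplicit false
set_option linter.unusedSectionVars false
set_option linter.style.haveILetI false

namespace CfsgLib.GoldSC.LU3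

open Subgroup CfsgLib.PSUBorel CfsgLib.PSU3Min CfsgLib.BinaryCoset CfsgLib.UnitarySylowAut
open CfsgLib.CyclicInt (Two dg_mul dg_one)

universe u

/-! ### Automorphisms of the Sylow subgroup -/

section Auto

variable {F : Type} [Field F] [Fintype F] [CharP F 2] {c : Conj F} {W : Type u} [Group W] [Finite W]
  (M : Model c W)

theorem semi_unique {u u' : Fˣ} {φ φ' : F ≃+* F} (h : ∀ a, (u : F) * φ a = u' * φ' a) : u = u' ∧ φ = φ' := by
  have hu : u = u' := Units.ext (by simpa using h 1)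
  subst hu
  exact ⟨rfl, RingEquiv.ext fun a => mul_left_cancel₀ u.ne_zero (h a)⟩

include M in
theorem solvable_mulAut : Group.IsSolvable (MulAut W) := by
  classical
  choose u φ hu using M.semilinear
  have hmul : ∀ θ η : MulAut W, u (θ * η) = u θ * Units.map (φ θ).toRingHom.toMonoidHom (u η) ∧
      φ (θ * η) = φ θ * φ η := by
    intro θ η
    refine semi_unique fun a => ?_
    obtain ⟨x, rfl⟩ := M.lift a
    rw [← hu, MulAut.mul_apply, hu, hu, map_mul, Units.val_mul, ← mul_assoc]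
    rfl
  let ρ : MulAut W →* RingAut F := MonoidHom.mk' φ fun θ η => (hmul θ η).2
  let τ : ρ.ker →* Fˣ := MonoidHom.mk' (fun θ => u θ) fun θ η => by
    show u ((θ : MulAut W) * η) = u θ * u η
    rw [(hmul _ _).1]
    refine congrArg _ (Units.ext ?_)
    show φ (θ : MulAut W) (u η : F) = u η
    rw [show φ (θ : MulAut W) = 1 from MonoidHom.mem_ker.mp θ.2]
    rfl
  haveI : Group.IsSolvable Fˣ := Group.isSolvable_of_comm mul_comm
  haveI : Group.IsSolvable τ.ker := Group.isSolvable_of_comm fun θ η => by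
    have hk : ∀ ξ : τ.ker, ((ξ : ρ.ker) : MulAut W) ∈ M.kern := fun ξ x => by
      rw [hu, show φ ((ξ : ρ.ker) : MulAut W) = 1 from MonoidHom.mem_ker.mp (ξ : ρ.ker).2,
        show u ((ξ : ρ.ker) : MulAut W) = 1 from MonoidHom.mem_ker.mp ξ.2, Units.val_one, one_mul]
      rfl
    obtain ⟨l, hl⟩ := M.kern_eq_lam (hk θ)
    obtain ⟨m, hm⟩ := M.kern_eq_lam (hk η)
    refine Subtype.ext (Subtype.ext (MulEquiv.ext fun x => M.inj ?_))
    show M.κ (((θ : ρ.ker) : MulAut W) (((η : ρ.ker) : MulAut W) x)) =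
      M.κ (((η : ρ.ker) : MulAut W) (((θ : ρ.ker) : MulAut W) x))
    simp only [hl, hm, add_right_comm]
  haveI : Group.IsSolvable ρ.ker :=
    Group.isSolvable_of_ker_le_range τ.ker.subtype τ (by rw [Subgroup.range_subtype])
  haveI : Group.IsSolvable (RingAut F) := Group.isSolvable_of_comm fun a b => by
    haveI : IsCyclic (RingAut F) := CfsgLib.Chev.ringAut_cyclic_finite F
    letI := IsCyclic.commGroup (α := RingAut F)
    exact mul_comm a b
  exact Group.isSolvable_of_ker_le_range ρ.ker.subtype ρ (by rw [Subgroup.range_subtype])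

/-- A field automorphism fixing the fixed field pointwise is the identity or the conjugation. -/
theorem id_or_conj {τ : F ≃+* F} (h : ∀ k ∈ fixed c, τ k = k) : (∀ a, τ a = a) ∨ ∀ a, τ a = c.σ a := by
  have key : ∀ a, τ a = a ∨ τ a = c.σ a := fun a => by
    have e1 := h _ (norm_fixed (c := c) a)
    have e2 := h (a + c.σ a) (by rw [mem_fixed, map_add, c.invol, add_comm])
    rw [map_add] at e2
    rw [map_mul] at e1
    have : (τ a - a) * (τ a - c.σ a) = 0 := by linear_combination τ a * e2 - e1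
    exact (mul_eq_zero.mp this).imp sub_eq_zero.mp sub_eq_zero.mp
  refine or_iff_not_imp_left.mpr fun hne a => ?_
  obtain ⟨b, hb⟩ := not_forall.mp hne
  have hb' := (key b).resolve_left hb
  refine (key a).elim (fun ha => ?_) id
  rcases key (a + b) with e | e
  · rw [map_add, ha, hb'] at e
    exact absurd (hb'.trans (add_left_cancel e)) hb
  · rw [map_add, map_add, ha, hb'] at e
    exact ha.trans (add_right_cancel e)

include M in
/-- An automorphism fixing the squares acts on the first coordinate as a norm one semilinear map. -/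
theorem norm_one_of_fix (θ : MulAut W) (h : ∀ x : W, θ (x * x) = x * x) :
    ∃ μ : F, μ * c.σ μ = 1 ∧
      ((∀ x, (M.κ (θ x)).1 = μ * (M.κ x).1) ∨ ∀ x, (M.κ (θ x)).1 = μ * c.σ (M.κ x).1) := by
  obtain ⟨u, φ, hu⟩ := M.semilinear θ
  have hN : ∀ a, ((u : F) * c.σ u) * φ (a * c.σ a) = a * c.σ a := fun a => by
    obtain ⟨x, rfl⟩ := M.lift a
    have := congrArg (fun w => (M.κ w).2) (h x)
    simp only [map_mul, M.sq, hu] at this
    rw [map_mul, ← this, sigma_comm]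
    ring
  have h1 : (u : F) * c.σ u = 1 := by simpa using hN 1
  have hfix : ∀ k ∈ fixed c, φ k = k := fun k hk => by
    obtain ⟨a, rfl⟩ := c.exists_norm hk
    simpa [h1] using hN a
  exact ⟨u, h1, (id_or_conj hfix).imp (fun e x => by rw [hu, e]) (fun e x => by rw [hu, e])⟩

include M in
/-- An automorphism of odd order fixing the squares and commuting with an involutory one which also fixes them and
moves the quotient, acts trivially on the quotient. -/
theorem trivial_of_commute (θ η : MulAut W) (ho : Odd (orderOf θ)) (hθ : ∀ x : W, θ (x * x) = x * x)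
    (hη : ∀ x : W, η (x * x) = x * x) (h2 : η * η = 1) (hne : ∃ x, (M.κ (η x)).1 ≠ (M.κ x).1)
    (hc : θ * η = η * θ) : ∀ x, (M.κ (θ x)).1 = (M.κ x).1 := by
  have hsq : ∀ a : F, a ^ 2 = 1 → a = 1 := fun a e => frobenius_inj F 2 (by
    rw [frobenius_def, frobenius_def, e, one_pow])
  obtain ⟨μ, hμ, hlin | hsem⟩ := norm_one_of_fix M θ hθ
  · obtain ⟨ν, hν, hlin' | hsem'⟩ := norm_one_of_fix M η hη
    · obtain ⟨x, hx⟩ := hne
      obtain ⟨y, hy⟩ := M.lift 1
      have e := congrArg (fun ξ : MulAut W => (M.κ (ξ y)).1) h2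
      simp only [MulAut.mul_apply, hlin', MulAut.one_apply, hy, mul_one] at e
      exact absurd (by rw [hlin', hsq ν (by rw [pow_two]; exact e), one_mul]) hx
    · obtain ⟨y, hy⟩ := M.lift 1
      have e := congrArg (fun ξ : MulAut W => (M.κ (ξ y)).1) hc
      simp only [MulAut.mul_apply, hlin, hsem', hy, map_one, mul_one] at e
      have hν0 : ν ≠ 0 := left_ne_zero_of_mul_eq_one hν
      have hσ : c.σ μ = μ := mul_left_cancel₀ hν0 (by linear_combination -e)
      have h1 : μ = 1 := hsq μ (by rw [pow_two]; nth_rewrite 2 [← hσ]; exact hμ)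
      intro x
      rw [hlin, h1, one_mul]
  · exfalso
    have h22 : ∀ x, (M.κ ((θ * θ) x)).1 = (M.κ x).1 := fun x => by
      rw [MulAut.mul_apply, hsem, hsem, map_mul, c.invol]
      linear_combination (M.κ x).1 * hμ
    obtain ⟨m, hm⟩ := ho
    have hev : ∀ (j : ℕ) x, (M.κ (((θ * θ) ^ j) x)).1 = (M.κ x).1 := fun j => by
      induction j with
      | zero => intro x; rfl
      | succ j ih => intro x; rw [pow_succ, MulAut.mul_apply, ih, h22]
    have hall : ∀ x, (M.κ x).1 = μ * c.σ (M.κ x).1 := fun x => by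
      rw [← hsem]
      have e : ((θ * θ) ^ m * θ) x = x := by
        rw [← pow_two, ← pow_mul, ← pow_succ, ← hm, pow_orderOf_eq_one]; rfl
      conv_lhs => rw [← e, MulAut.mul_apply, hev]
    obtain ⟨y, hy⟩ := M.lift 1
    have h1 := hall y
    rw [hy, map_one, mul_one] at h1
    obtain ⟨t, ht⟩ := c.exists_moved
    obtain ⟨y', hy'⟩ := M.lift t
    have := hall y'
    rw [hy', ← h1, one_mul] at this
    exact ht this.symm

end Auto

/-! ### The model -/

variable {F : Type} [Field F] [Fintype F] (c : Conj F) [CharP F 2]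

/-- The group. -/
abbrev K₀ : Type := SUs c 3 ⧸ Subgroup.center (SUs c 3)

theorem form {u : SUs c 3} (hu : u ∈ UG c) :
    u.1.1 1 0 = 0 ∧ u.1.1 2 0 = 0 ∧ u.1.1 2 1 = 0 ∧ u.1.1 0 0 = 1 ∧ u.1.1 1 1 = 1 ∧ u.1.1 2 2 = 1 :=
  let ⟨a, b, d⟩ := (mem_BG_iff c).mp (UG_le c hu)
  ⟨a, b, d, UU_diag c hu 0, UU_diag c hu 1, UU_diag c hu 2⟩

theorem ext_UG {u v : SUs c 3} (hu : u ∈ UG c) (hv : v ∈ UG c) (h1 : u.1.1 0 1 = v.1.1 0 1)
    (h2 : u.1.1 0 2 = v.1.1 0 2) : u = v := by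
  obtain ⟨a, b, d, e, f, g⟩ := form c hu
  obtain ⟨a', b', d', e', f', g'⟩ := form c hv
  refine SUs_ext c (Matrix.ext fun i j => ?_)
  fin_cases i <;> fin_cases j <;>
    simp [a, b, d, e, f, g, a', b', d', e', f', g', h1, h2, (UG_rel c hu).1, (UG_rel c hv).1]

/-- The coordinates on the radical. -/
def modelU : Model c (UG c) where
  κ u := (u.1.1.1 0 1, u.1.1.1 0 2)
  inj u v h := Subtype.ext (ext_UG c u.2 v.2 (congrArg Prod.fst h) (congrArg Prod.snd h))
  mul u v := by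
    obtain ⟨-, -, -, e, f, g⟩ := form c u.2
    obtain ⟨-, -, -, e', f', g'⟩ := form c v.2
    refine Prod.ext ?_ ?_
    · show (u.1 * v.1).1.1 0 1 = _
      rw [mul01 c (UG_le c v.2), e, f']
      ring
    · show (u.1 * v.1).1.1 0 2 = _
      rw [mul02, e, g', (UG_rel c v.2).1]
      ring
  range a b := by
    constructor
    · rintro ⟨x, hx⟩
      rw [Prod.mk.injEq] at hx
      rw [← hx.1, ← hx.2]
      exact (UG_rel c x.2).2
    · intro hb
      refine ⟨⟨r3 c a b hb, mem_UU_of_diag c ((mem_BG_iff c).mpr ⟨?_, ?_, ?_⟩) fun i => ?_⟩, ?_⟩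
      · simp [r3, m3]
      · simp [r3, m3]
      · simp [r3, m3]
      · fin_cases i <;> simp [r3, m3]
      · simp [r3, m3]

theorem dg_inv (x : Fˣ) : (dg c x)⁻¹ = dg c x⁻¹ :=
  inv_eq_of_mul_eq_one_right (by rw [dg_mul, mul_inv_cancel, dg_one])

theorem conj_dg {u : SUs c 3} (x : Fˣ) :
    (dg c x * u * (dg c x)⁻¹).1.1 0 1 = (x : F) * x * (c.σ x)⁻¹ * u.1.1 0 1 ∧
      (dg c x * u * (dg c x)⁻¹).1.1 0 2 = (x : F) * c.σ x * u.1.1 0 2 := by
  have hs : c.σ (x : F) ≠ 0 := (map_ne_zero c.σ).mpr x.ne_zero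
  have := x.ne_zero
  rw [dg_inv, PSUBorel.coe_mul, PSUBorel.coe_mul]
  constructor <;> simp [dg, Matrix.mul_apply, Fin.sum_univ_three] <;> field_simp

/-- Commuting with a radical element modulo the centre is commuting with it. -/
theorem exact_comm {u g : SUs c 3} (hu : u ∈ UG c) (h : proj c g * proj c u = proj c u * proj c g) :
    g * u = u * g := by
  set z := u⁻¹ * (g * u * g⁻¹) with hz
  have hzc : z ∈ center (SUs c 3) := (proj_eq_one c).mp (by
    simp only [hz, map_mul, map_inv]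
    rw [h, mul_inv_cancel_right, inv_mul_cancel])
  have hz1 : z = 1 := by
    refine eq_one_of_two_center c hzc ?_
    obtain ⟨k, hk⟩ := two_of_UG c hu
    refine ⟨k, ?_⟩
    have h2 : (u * z) ^ 2 ^ k = 1 := by
      rw [hz, mul_inv_cancel_left, conj_pow, hk, mul_one, mul_inv_cancel]
    rwa [(show Commute u z from mem_center_iff.mp hzc u).mul_pow, hk, one_mul] at h2
  rw [hz, inv_mul_eq_one] at hz1
  exact mul_inv_eq_iff_eq_mul.mp hz1.symm

/-- The radical in the quotient. -/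
abbrev TT : Subgroup (K₀ c) := (UG c).map (proj c)

/-- The normaliser of the radical contains the image of the Borel subgroup. -/
theorem proj_mem_normalizer {b : SUs c 3} (hb : b ∈ BG c) : proj c b ∈ normalizer (TT c : Set (K₀ c)) := by
  rw [mem_normalizer_iff]
  intro x
  constructor
  · rintro ⟨u, hu, rfl⟩
    exact ⟨_, conj_UG c hb hu, by simp⟩
  · rintro ⟨u, hu, e⟩
    refine ⟨_, conj_UG c (inv_mem hb) hu, ?_⟩
    rw [map_mul, map_mul, e]
    simp [mul_assoc]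

/-- The coordinates on the Sylow subgroup. -/
noncomputable def eT : UG c ≃* TT c :=
  MulEquiv.ofBijective
    ({ toFun := fun u => ⟨proj c u.1, mem_map_of_mem _ u.2⟩
       map_one' := Subtype.ext (map_one _)
       map_mul' := fun u v => Subtype.ext (map_mul _ _ _) } : UG c →* TT c)
    ⟨fun u v e => Subtype.ext (proj_inj_UG c u.2 v.2 (congrArg Subtype.val e)), by
      rintro ⟨_, u, hu, rfl⟩
      exact ⟨⟨u, hu⟩, rfl⟩⟩

theorem eT_apply (u : UG c) : ((eT c u : TT c) : K₀ c) = proj c u.1 := rfl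

theorem sq_one {u : SUs c 3} (hu : u ∈ UG c) : proj c u * proj c u = 1 ↔ u.1.1 0 1 = 0 := by
  rw [← sq_one_iff c hu]
  exact ⟨fun e => proj_inj_UG c (mul_mem hu hu) (one_mem _) (by rw [map_mul, map_one, e]),
    fun e => by rw [← map_mul, e, map_one]⟩

theorem sq_central {x : K₀ c} (hx : x ∈ TT c) (h2 : x * x = 1) {y : K₀ c} (hy : y ∈ TT c) : x * y = y * x := by
  obtain ⟨u, hu, rfl⟩ := hx
  obtain ⟨v, hv, rfl⟩ := hy
  have h0 := (sq_one c hu).mp h2
  have := (CfsgLib.U3Type.mem_center_iff' (modelU c) ⟨u, hu⟩).mpr h0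
  have := congrArg (fun w : UG c => proj c w.1) (mem_center_iff.mp this ⟨v, hv⟩)
  simpa using this.symm

theorem sq_mem (x : K₀ c) (hx : x ∈ TT c) : x * x * (x * x) = 1 := by
  obtain ⟨u, hu, rfl⟩ := hx
  rw [← map_mul]
  refine (sq_one c (mul_mem hu hu)).mpr ?_
  exact congrArg Prod.fst ((modelU c).sq ⟨u, hu⟩)

/-- The centraliser of a non-trivial element of the radical normalises it. -/
theorem mem_normalizer_of_comm {x t : K₀ c} (ht : t ∈ TT c) (ht1 : t ≠ 1) (h : x * t = t * x) :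
    x ∈ normalizer (TT c : Set (K₀ c)) := by
  obtain ⟨u, hu, rfl⟩ := ht
  obtain ⟨g, rfl⟩ := QuotientGroup.mk'_surjective _ x
  refine proj_mem_normalizer c (ti c hu (fun e => ht1 (by rw [e, map_one])) ?_)
  rw [mul_assoc, ← exact_comm c hu h, inv_mul_cancel_left]
  exact hu

/-- The centraliser of an element of order four of the radical is contained in it. -/
theorem mem_of_comm_four {x t : K₀ c} (ht : t ∈ TT c) (ht2 : t * t ≠ 1) (h : x * t = t * x) : x ∈ TT c := by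
  obtain ⟨u, hu, rfl⟩ := ht
  obtain ⟨g, rfl⟩ := QuotientGroup.mk'_surjective _ x
  have hu2 : u * u ≠ 1 := fun e => ht2 (by rw [← map_mul, e, map_one])
  have hgu := exact_comm c hu h
  have hgB : g ∈ BG c := ti c hu (fun e => hu2 (by rw [e, one_mul]))
    (by rw [mul_assoc, ← hgu, inv_mul_cancel_left]; exact hu)
  obtain ⟨h11, h22, h3, hs⟩ := diag_of_commute c hgB hu hu2 hgu
  set l : Fˣ := Units.mk0 (g.1.1 0 0) (diag_entries c hgB).1 with hl
  have hmat : (dg c l).1.1 = g.1.1 0 0 • (1 : Matrix (Fin 3) (Fin 3) F) := by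
    have hne := (diag_entries c hgB).1
    ext i j
    fin_cases i <;> fin_cases j <;> simp [dg, hl, hs]
    · field_simp
    · exact inv_eq_of_mul_eq_one_right (by linear_combination h3)
  have hcen : dg c l ∈ center (SUs c 3) := mem_center_iff.mpr fun y => SUs_ext c (by
    rw [PSUBorel.coe_mul, PSUBorel.coe_mul, hmat, Matrix.mul_smul, Matrix.smul_mul, Matrix.mul_one, Matrix.one_mul])
  refine ⟨(dg c l)⁻¹ * g, mem_UG_of_corner c (mul_mem (inv_mem (dg_mem c l)) hgB) ?_, ?_⟩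
  · rw [mul00 c hgB, dg_inv]
    simp [dg, hl, (diag_entries c hgB).1]
  · rw [map_mul, map_inv, (proj_eq_one c).mpr hcen, inv_one, one_mul]

theorem exists_four : ∃ t ∈ TT c, t * t ≠ 1 := by
  obtain ⟨u, hu⟩ := (modelU c).lift 1
  exact ⟨proj c u.1, mem_map_of_mem _ u.2, fun e => one_ne_zero (hu.symm.trans ((sq_one c u.2).mp e))⟩

theorem mem_of_centralizes {x : K₀ c} (h : ∀ t ∈ TT c, x * t = t * x) : x ∈ TT c :=
  let ⟨t, ht, h2⟩ := exists_four c
  mem_of_comm_four c ht h2 (h t ht)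

/-- The torus. -/
structure Torus (g h : K₀ c) : Prop where
  pow : ∃ i : ℕ, h = g ^ i
  norm : g ∈ normalizer (TT c : Set (K₀ c))
  free : ∀ t ∈ TT c, g * t * g⁻¹ = t → t = 1
  moves : ∀ t ∈ TT c, t * t = 1 → t ≠ 1 → g * t * g⁻¹ ≠ t
  trans : ∀ x ∈ TT c, x * x = 1 → x ≠ 1 → ∀ y ∈ TT c, y * y = 1 → y ≠ 1 → ∃ i : ℕ, g ^ i * x * (g ^ i)⁻¹ = y
  cent : ∀ t ∈ TT c, t * t = 1 → h * t * h⁻¹ = t
  spread : ∀ x ∈ TT c, ∃ t ∈ TT c, ∃ v ∈ TT c, v * v = 1 ∧ x = v * (h * t * h⁻¹ * t⁻¹)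

variable (hq : 4 ≤ c.q)
include hq

theorem exists_torus : ∃ g h, Torus c g h := by
  classical
  obtain ⟨γ, hγ⟩ := IsCyclic.exists_ofOrder_eq_natCard (α := Fˣ)
  rw [card_units c] at hγ
  have hγσ : c.σ (γ : F) = (γ : F) ^ c.q := c.hσ _
  have hq2 : c.q * 4 ≤ c.q ^ 2 := by rw [pow_two]; exact Nat.mul_le_mul_left _ hq
  have hne : ∀ m : ℕ, m ≠ 0 → m < c.q ^ 2 - 1 → (γ : F) ^ m ≠ 1 := fun m h0 hm e =>
    pow_ne_one_of_lt_orderOf h0 (by rw [hγ]; exact hm) (Units.ext (by rw [Units.val_pow_eq_pow_val, e, Units.val_one]))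
  have hpowG : ∀ i : ℕ, proj c (dg c γ) ^ i = proj c (dg c (γ ^ i)) := fun i => by
    induction i with
    | zero => rw [pow_zero, pow_zero, dg_one, map_one]
    | succ i ih => rw [pow_succ, pow_succ, ih, ← map_mul, dg_mul]
  have hconj : ∀ (x : Fˣ) {u : SUs c 3} (_ : u ∈ UG c) {v : SUs c 3} (_ : v ∈ UG c),
      (x : F) * x * (c.σ x)⁻¹ * u.1.1 0 1 = v.1.1 0 1 → (x : F) * c.σ x * u.1.1 0 2 = v.1.1 0 2 →
        proj c (dg c x) * proj c u * (proj c (dg c x))⁻¹ = proj c v := by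
    intro x u hu v hv e1 e2
    rw [← map_inv, ← map_mul, ← map_mul, ext_UG c (conj_UG c (dg_mem c x) hu) hv
      ((conj_dg c x).1.trans e1) ((conj_dg c x).2.trans e2)]
  have hback : ∀ (x : Fˣ) {u : SUs c 3} (_ : u ∈ UG c), proj c (dg c x) * proj c u * (proj c (dg c x))⁻¹ = proj c u →
      (x : F) * x * (c.σ x)⁻¹ * u.1.1 0 1 = u.1.1 0 1 ∧ (x : F) * c.σ x * u.1.1 0 2 = u.1.1 0 2 := by
    intro x u hu e
    rw [← map_inv, ← map_mul, ← map_mul] at e
    have e' := proj_inj_UG c (conj_UG c (dg_mem c x) hu) hu e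
    exact ⟨(conj_dg c x).1.symm.trans (by rw [e']), (conj_dg c x).2.symm.trans (by rw [e'])⟩
  have hN : ((γ ^ (c.q - 1) : Fˣ) : F) * c.σ ((γ ^ (c.q - 1) : Fˣ) : F) = 1 := by
    have e : (γ ^ (c.q - 1)) ^ (c.q + 1) = 1 := by
      rw [← pow_mul, show (c.q - 1) * (c.q + 1) = orderOf γ by rw [hγ, mul_comm, ← Nat.sq_sub_sq, one_pow],
        pow_orderOf_eq_one]
    rw [c.hσ, ← pow_succ']
    simpa using congrArg Units.val e
  refine ⟨proj c (dg c γ), proj c (dg c (γ ^ (c.q - 1))), ⟨c.q - 1, (hpowG _).symm⟩,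
    proj_mem_normalizer c (dg_mem c γ), ?_, ?_, ?_, ?_, ?_⟩
  · rintro _ ⟨u, hu, rfl⟩ e
    obtain ⟨e1, e2⟩ := hback γ hu e
    have h01 : u.1.1 0 1 = 0 := by
      by_contra h0
      have h1 : (γ : F) * γ * (c.σ γ)⁻¹ = 1 := (mul_eq_right₀ h0).mp e1
      rw [← div_eq_mul_inv, div_eq_one_iff_eq ((map_ne_zero c.σ).mpr γ.ne_zero), hγσ] at h1
      refine hne (c.q - 2) (by omega) (by omega) (mul_left_cancel₀ (pow_ne_zero 2 γ.ne_zero) ?_)
      rw [← pow_add, Nat.add_sub_cancel' (by omega : 2 ≤ c.q), mul_one, ← h1, pow_two]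
    have h02 : u.1.1 0 2 = 0 := by
      by_contra h0
      have h1 : (γ : F) * c.σ γ = 1 := (mul_eq_right₀ h0).mp e2
      rw [hγσ, ← pow_succ'] at h1
      exact hne (c.q + 1) (by omega) (by omega) h1
    rw [ext_UG c hu (one_mem _) (by simp [h01, PSUBorel.coe_one]) (by simp [h02, PSUBorel.coe_one]), map_one]
  · rintro _ ⟨u, hu, rfl⟩ h2 h1 e
    obtain ⟨-, e2⟩ := hback γ hu e
    have h01 := (sq_one c hu).mp h2
    by_cases h0 : u.1.1 0 2 = 0
    · exact h1 (by rw [ext_UG c hu (one_mem _) (by simp [h01, PSUBorel.coe_one]) (by simp [h0, PSUBorel.coe_one]), map_one])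
    have h' : (γ : F) * c.σ γ = 1 := (mul_eq_right₀ h0).mp e2
    rw [hγσ, ← pow_succ'] at h'
    exact hne (c.q + 1) (by omega) (by omega) h'
  · rintro _ ⟨u, hu, rfl⟩ hx2 hx1 _ ⟨v, hv, rfl⟩ hy2 hy1
    have hu1 := (sq_one c hu).mp hx2
    have hv1 := (sq_one c hv).mp hy2
    have hfix : ∀ {w : SUs c 3}, w ∈ UG c → w.1.1 0 1 = 0 → proj c w ≠ 1 →
        w.1.1 0 2 ≠ 0 ∧ w.1.1 0 2 ∈ fixed c := by
      intro w hw h0 hne1
      refine ⟨fun h => hne1 (by rw [ext_UG c hw (one_mem _) (by simp [h0, PSUBorel.coe_one]) (by simp [h, PSUBorel.coe_one]), map_one]), ?_⟩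
      have := (UG_rel c hw).2
      rw [h0, zero_mul, add_zero] at this
      exact (CharTwo.add_eq_zero.1 this).symm
    obtain ⟨ha, haf⟩ := hfix hu hu1 hx1
    obtain ⟨hb, hbf⟩ := hfix hv hv1 hy1
    obtain ⟨e, he⟩ := c.exists_norm (show v.1.1 0 2 / u.1.1 0 2 ∈ fixed c by
      rw [mem_fixed, map_div₀, mem_fixed.mp haf, mem_fixed.mp hbf])
    have he0 : e ≠ 0 := by
      rintro rfl
      rw [zero_mul] at he
      exact div_ne_zero hb ha he.symm
    obtain ⟨i, hi⟩ := mem_powers_iff_mem_zpowers.mpr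
      (show Units.mk0 e he0 ∈ zpowers γ by
        rw [eq_top_of_card_eq (zpowers γ) (by rw [Nat.card_zpowers, hγ, card_units c])]
        exact mem_top _)
    refine ⟨i, ?_⟩
    rw [hpowG, show γ ^ i = Units.mk0 e he0 from hi]
    refine hconj _ hu hv (by rw [hu1, hv1, mul_zero]) ?_
    show e * c.σ e * _ = _
    rw [he, div_mul_cancel₀ _ ha]
  · rintro _ ⟨u, hu, rfl⟩ h2
    exact hconj _ hu hu (by rw [(sq_one c hu).mp h2, mul_zero]) (by rw [hN, one_mul])
  · rintro _ ⟨u, hu, rfl⟩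
    set x : Fˣ := γ ^ (c.q - 1) with hx
    set l : F := (x : F) * x * (c.σ x)⁻¹ with hl
    have hl1 : l ≠ 1 := by
      rw [hl, inv_eq_of_mul_eq_one_left hN, hx, Units.val_pow_eq_pow_val, ← pow_add, ← pow_add]
      exact hne _ (by omega) (by omega)
    have hσl : c.σ (l - 1) ≠ 0 := (map_ne_zero c.σ).mpr (sub_ne_zero.mpr hl1)
    obtain ⟨w, hw⟩ := (modelU c).lift (u.1.1 0 1 / (l - 1))
    have hconjU := conj_UG c (dg_mem c x) w.2
    set v := u * (dg c x * w.1 * (dg c x)⁻¹ * w.1⁻¹)⁻¹ with hv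
    have hvU : v ∈ UG c := mul_mem hu (inv_mem (mul_mem hconjU (inv_mem w.2)))
    refine ⟨proj c w.1, mem_map_of_mem _ w.2, proj c v, mem_map_of_mem _ hvU, ?_, ?_⟩
    · refine (sq_one c hvU).mpr ?_
      have hf : ∀ {a b : SUs c 3}, a ∈ UG c → b ∈ UG c → (a * b).1.1 0 1 = a.1.1 0 1 + b.1.1 0 1 :=
        fun {a b} ha hb => by rw [mul01 c (UG_le c hb), (form c ha).2.2.2.1, (form c hb).2.2.2.2.1, one_mul, mul_one, add_comm]
      have hi : ∀ {a : SUs c 3}, a ∈ UG c → (a⁻¹).1.1 0 1 = a.1.1 0 1 := fun {a} ha => by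
        have := hf (inv_mem ha) ha
        rw [inv_mul_cancel, PSUBorel.coe_one] at this
        exact CharTwo.add_eq_zero.1 (by simpa using this.symm)
      rw [hv, hf hu (inv_mem (mul_mem hconjU (inv_mem w.2))), hi (mul_mem hconjU (inv_mem w.2)),
        hf hconjU (inv_mem w.2), hi w.2, (conj_dg c x).1]
      have hw' : w.1.1.1 0 1 = u.1.1 0 1 / (l - 1) := hw
      rw [hw', ← hl]
      have := sub_ne_zero.mpr hl1
      field_simp
      linear_combination (2 * 0 : F) + u.1.1 0 1 * l * (CharTwo.two_eq_zero (R := F))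
    · rw [← map_inv, ← map_inv, ← map_mul, ← map_mul, ← map_mul, ← map_mul, hv, inv_mul_cancel_right]

omit hq

/-- Commutators of the radical square to one. -/
theorem commutator_mem {s t : K₀ c} (hs : s ∈ TT c) (ht : t ∈ TT c) :
    s * t * s⁻¹ * t⁻¹ ∈ TT c ∧ s * t * s⁻¹ * t⁻¹ * (s * t * s⁻¹ * t⁻¹) = 1 := by
  refine ⟨mul_mem (mul_mem (mul_mem hs ht) (inv_mem hs)) (inv_mem ht), ?_⟩
  obtain ⟨u, hu, rfl⟩ := hs
  obtain ⟨v, hv, rfl⟩ := ht
  have key : ((modelU c).κ (⟨u, hu⟩ * ⟨v, hv⟩ * (⟨u, hu⟩ : UG c)⁻¹ * (⟨v, hv⟩ : UG c)⁻¹)).1 = 0 := by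
    have hi : ∀ a : UG c, ((modelU c).κ a⁻¹).1 = ((modelU c).κ a).1 := fun a => by
      have := congrArg Prod.fst ((modelU c).mul a⁻¹ a)
      rw [inv_mul_cancel, (modelU c).one] at this
      exact CharTwo.add_eq_zero.1 this.symm
    rw [(modelU c).mul, (modelU c).mul, (modelU c).mul, hi, hi]
    linear_combination (((modelU c).κ (⟨u, hu⟩ : UG c)).1 + ((modelU c).κ (⟨v, hv⟩ : UG c)).1) *
      (CharTwo.two_eq_zero (R := F))
  simp only [← map_inv, ← map_mul]
  exact (sq_one c (mul_mem (mul_mem (mul_mem hu hv) (inv_mem hu)) (inv_mem hv))).mpr key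

/-- An involution acting without fixed points on a subgroup of odd order inverts it. -/
theorem inverts {G : Type*} [Group G] [Finite G] {R : Subgroup G} {a : G} (ha : a * a = 1)
    (hn : ∀ r ∈ R, a * r * a⁻¹ ∈ R) (hfree : ∀ r ∈ R, r * a = a * r → r = 1) {x : G} (hx : x ∈ R) :
    a * x * a⁻¹ = x⁻¹ := by
  let f : R → R := fun r => ⟨(r : G)⁻¹ * (a * r * a⁻¹), mul_mem (inv_mem r.2) (hn _ r.2)⟩
  have hinj : Function.Injective f := fun r s e => Subtype.ext (by
    have e' : (r : G)⁻¹ * (a * r * a⁻¹) = (s : G)⁻¹ * (a * s * a⁻¹) := congrArg Subtype.val e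
    refine mul_inv_eq_one.mp (hfree _ (mul_mem r.2 (inv_mem s.2)) ?_)
    have e2 : a * r * a⁻¹ = r * ((s : G)⁻¹ * (a * s * a⁻¹)) := by rw [← e', mul_inv_cancel_left]
    calc (r : G) * (s : G)⁻¹ * a = r * ((s : G)⁻¹ * (a * s * a⁻¹)) * (a * (s : G)⁻¹) := by group
      _ = a * r * a⁻¹ * (a * (s : G)⁻¹) := by rw [e2]
      _ = _ := by group)
  obtain ⟨r, hr⟩ := Finite.surjective_of_injective hinj ⟨x, hx⟩
  have hai : a⁻¹ = a := inv_eq_of_mul_eq_one_right ha
  rw [show x = (r : G)⁻¹ * (a * r * a⁻¹) from (congrArg Subtype.val hr).symm, hai]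
  simp only [mul_inv_rev, inv_inv, hai, mul_assoc]
  rw [ha, mul_one]

variable [IsSimpleGroup (K₀ c)]

include hq in
theorem conj_inj : Function.Injective (MulAut.conj : K₀ c →* MulAut (K₀ c)) := by
  refine conj_injective fun hab => ?_
  obtain ⟨g, h, hT⟩ := exists_torus c hq
  obtain ⟨t, ht, ht2⟩ := exists_four c
  exact ht2 (by
    have := hT.free t ht (by rw [hab.1.comm g t, mul_inv_cancel_right])
    rw [this, one_mul])

include hq in
theorem eq_one_of_odd {d : K₀ c} (hd : Two d) (ho : Odd (orderOf (MulAut.conj d))) : d = 1 := by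
  obtain ⟨k, hk⟩ := hd
  refine conj_inj c hq ?_
  rw [map_one, ← orderOf_eq_one_iff]
  exact Nat.eq_one_of_dvd_coprimes ((Nat.coprime_two_left.mpr ho).pow_left k)
    (orderOf_dvd_of_pow_eq_one (by rw [← map_pow, hk, map_one])) dvd_rfl

theorem two_of_mem {x : K₀ c} (hx : x ∈ TT c) : Two x := by
  obtain ⟨u, hu, rfl⟩ := hx
  obtain ⟨k, hk⟩ := two_of_UG c hu
  exact ⟨k, by rw [← map_pow, hk, map_one]⟩

variable {T : Sylow 2 (K₀ c)} (hT : (T : Subgroup (K₀ c)) = TT c)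
include hT

theorem two_mem {x : K₀ c} (hn : x ∈ normalizer (TT c : Set (K₀ c))) (h2 : Two x) : x ∈ TT c := by
  haveI : Fact (Nat.Prime 2) := ⟨Nat.prime_two⟩
  obtain ⟨k, hk⟩ := h2
  have hp : IsPGroup 2 (zpowers x) := by
    rintro ⟨y, hy⟩
    obtain ⟨i, rfl⟩ := mem_zpowers_iff.mp hy
    exact ⟨k, Subtype.ext (by
      show (x ^ i) ^ 2 ^ k = 1
      rw [← zpow_natCast, ← zpow_mul, mul_comm, zpow_mul, zpow_natCast, hk, one_zpow])⟩
  rw [← hT] at hn ⊢
  have h := hp.inf_normalizer_sylow T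
  exact (mem_inf.mp (h ▸ mem_inf.mpr ⟨mem_zpowers x, hn⟩ : x ∈ zpowers x ⊓ (T : Subgroup (K₀ c)))).2

/-- An automorphism fixing a non-identity element `v` squaring to one stabilises `T`. -/
theorem stab_of_fix {v : K₀ c} (hv : v ∈ TT c) (h2 : v * v = 1) (h1 : v ≠ 1) (φ : MulAut (K₀ c))
    (hφ : φ v = v) {t : K₀ c} (ht : t ∈ TT c) : φ t ∈ TT c := by
  obtain ⟨k, hk⟩ := two_of_mem c ht
  refine two_mem c hT (mem_normalizer_of_comm c hv h1 ?_) ⟨k, by rw [← map_pow, hk, map_one]⟩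
  have := congrArg φ (sq_central c hv h2 ht)
  rw [map_mul, map_mul, hφ] at this
  exact this.symm

omit hT
include hq

/-- The elements squaring to one other than `1`. -/
theorem exists_pair : ∃ a b : K₀ c, a ∈ TT c ∧ b ∈ TT c ∧ a * a = 1 ∧ b * b = 1 ∧ a ≠ 1 ∧ b ≠ 1 ∧ a ≠ b := by
  obtain ⟨t, ht, ht2⟩ := exists_four c
  obtain ⟨g, h, hT'⟩ := exists_torus c hq
  have hm := (mem_normalizer_iff.mp hT'.norm (t * t)).mp (mul_mem ht ht)
  refine ⟨t * t, g * (t * t) * g⁻¹, mul_mem ht ht, hm, sq_mem c t ht, ?_, ht2, ?_, ?_⟩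
  · rw [show g * (t * t) * g⁻¹ * (g * (t * t) * g⁻¹) = g * (t * t * (t * t)) * g⁻¹ by group, sq_mem c t ht,
      mul_one, mul_inv_cancel]
  · rw [ne_eq, conj_eq_one_iff]; exact ht2
  · exact fun e => hT'.moves _ (mul_mem ht ht) (sq_mem c t ht) ht2 e.symm

include hT

theorem rigid (φ : MulAut (K₀ c)) (hr : LieRigid.Rigid 2 (K₀ c)) (ho : Odd (orderOf φ))
    (h : ∀ t ∈ TT c, φ t = t) : φ = 1 :=
  hr φ ho.not_two_dvd_nat T fun x hx => h x (hT ▸ hx)

theorem model_inner (hi : InnerFix.InnerFix 2 (K₀ c)) (φ : MulAut (K₀ c)) (h2 : φ * φ = 1)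
    (hfix : ∀ x ∈ TT c, x * x = 1 → φ x = x)
    (hd : ∀ x ∈ TT c, φ x * x⁻¹ ∈ TT c ∧ φ x * x⁻¹ * (φ x * x⁻¹) = 1) :
    ∃ s ∈ TT c, φ = MulAut.conj s := by
  obtain ⟨g, h, hT'⟩ := exists_torus c hq
  have hV : ∀ {x}, x ∈ TT c → x * x = 1 → g * x * g⁻¹ ∈ TT c ∧ g * x * g⁻¹ * (g * x * g⁻¹) = 1 := fun {x} hx hx2 =>
    ⟨(mem_normalizer_iff.mp hT'.norm x).mp hx, by
      rw [show g * x * g⁻¹ * (g * x * g⁻¹) = g * (x * x) * g⁻¹ by group, hx2, mul_one, mul_inv_cancel]⟩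
  have hinvol : ∀ x, φ (φ x) = x := fun x => DFunLike.congr_fun h2 x
  have hφT : ∀ {x}, x ∈ TT c → φ x ∈ TT c := fun {x} hx => by
    simpa using mul_mem (hd x hx).1 hx
  set k := g⁻¹ * φ g with hk
  have hg' : φ g = g * k := by rw [hk, mul_inv_cancel_left]
  -- `k` is a two-element normalising `T`
  have hkV : ∀ v ∈ TT c, v * v = 1 → k * v = v * k := fun v hv hv2 => by
    have e : φ g * v * (φ g)⁻¹ = g * v * g⁻¹ := by
      conv_lhs => rw [← hfix v hv hv2]
      rw [← map_inv, ← map_mul, ← map_mul, hfix _ (hV hv hv2).1 (hV hv hv2).2]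
    rw [hg'] at e
    calc k * v = g⁻¹ * (g * k * v * (g * k)⁻¹) * g * k := by group
      _ = g⁻¹ * (g * v * g⁻¹) * g * k := by rw [e]
      _ = _ := by group
  have hkT : ∀ t ∈ TT c, ∃ v ∈ TT c, v * v = 1 ∧ k * t * k⁻¹ = v * t := fun t ht => by
    have hs := hφT ht
    set s := φ t with hsd
    set r := g * s * g⁻¹ with hr'
    have hr : r ∈ TT c := (mem_normalizer_iff.mp hT'.norm s).mp hs
    obtain ⟨hv1, hv2⟩ := hd r hr
    obtain ⟨hw1, hw2⟩ := hd t ht
    have hgi : ∀ {x}, x ∈ TT c → x * x = 1 → g⁻¹ * x * g ∈ TT c ∧ g⁻¹ * x * g * (g⁻¹ * x * g) = 1 :=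
      fun {x} hx hx2 => ⟨by
        have := (mem_normalizer_iff.mp (inv_mem hT'.norm) x).mp hx
        rwa [inv_inv] at this, by
        rw [show g⁻¹ * x * g * (g⁻¹ * x * g) = g⁻¹ * (x * x) * g by group, hx2, mul_one, inv_mul_cancel]⟩
    obtain ⟨ha, ha2⟩ := hgi hv1 hv2
    refine ⟨g⁻¹ * (φ r * r⁻¹) * g * (s * t⁻¹), mul_mem ha hw1, ?_, ?_⟩
    · have hcm := sq_central c hw1 hw2 ha
      calc g⁻¹ * (φ r * r⁻¹) * g * (s * t⁻¹) * (g⁻¹ * (φ r * r⁻¹) * g * (s * t⁻¹))
          = g⁻¹ * (φ r * r⁻¹) * g * ((s * t⁻¹) * (g⁻¹ * (φ r * r⁻¹) * g)) * (s * t⁻¹) := by group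
        _ = g⁻¹ * (φ r * r⁻¹) * g * ((g⁻¹ * (φ r * r⁻¹) * g) * (s * t⁻¹)) * (s * t⁻¹) := by rw [hcm]
        _ = g⁻¹ * (φ r * r⁻¹) * g * (g⁻¹ * (φ r * r⁻¹) * g) * ((s * t⁻¹) * (s * t⁻¹)) := by group
        _ = 1 := by rw [ha2, hw2, one_mul]
    · have e : φ r = φ g * t * (φ g)⁻¹ := by rw [hr', map_mul, map_mul, map_inv, hsd, hinvol]
      rw [e, hg', hr']
      group
  have hkn : k ∈ normalizer (TT c : Set (K₀ c)) := by
    have hfwd : ∀ t ∈ TT c, k * t * k⁻¹ ∈ TT c := fun t ht => by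
      obtain ⟨v, hv, -, e⟩ := hkT t ht
      rw [e]; exact mul_mem hv ht
    rw [mem_normalizer_iff]
    refine fun x => ⟨hfwd x, fun hx => ?_⟩
    obtain ⟨v, hv, hv2, e⟩ := hkT _ hx
    have hv' : k * v * k⁻¹ = v := by rw [hkV v hv hv2, mul_inv_cancel_right]
    have e2 : k * x * k⁻¹ = v * x := by
      calc k * x * k⁻¹ = k⁻¹ * (k * (k * x * k⁻¹) * k⁻¹) * k := by group
        _ = k⁻¹ * (v * (k * x * k⁻¹)) * k := by rw [e]
        _ = k⁻¹ * v * k * x := by group
        _ = k⁻¹ * (k * v) * x := by rw [mul_assoc k⁻¹, hkV v hv hv2]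
        _ = _ := by rw [inv_mul_cancel_left]
    rw [e2] at hx
    simpa using mul_mem (inv_mem hv) hx
  have hkk : k * k ∈ TT c := by
    refine mem_of_centralizes c fun t ht => ?_
    obtain ⟨v, hv, hv2, e⟩ := hkT t ht
    have : k * k * t * (k * k)⁻¹ = t := by
      calc k * k * t * (k * k)⁻¹ = k * (k * t * k⁻¹) * k⁻¹ := by group
        _ = k * (v * t) * k⁻¹ := by rw [e]
        _ = (k * v * k⁻¹) * (k * t * k⁻¹) := by group
        _ = v * (v * t) := by rw [e, hkV v hv hv2, mul_inv_cancel_right]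
        _ = t := by rw [← mul_assoc, hv2, one_mul]
    exact mul_inv_eq_iff_eq_mul.mp this
  have hkmem : k ∈ TT c := by
    obtain ⟨j, hj⟩ := two_of_mem c hkk
    exact two_mem c hT hkn ⟨j + 1, by rw [pow_succ', pow_mul, pow_two, hj]⟩
  -- conjugate `φ` so that it fixes `g`
  let F0 : TT c → TT c := fun s => ⟨g⁻¹ * s * g * (s : K₀ c)⁻¹, mul_mem (by
    have := (mem_normalizer_iff.mp (inv_mem hT'.norm) s).mp s.2
    rwa [inv_inv] at this) (inv_mem s.2)⟩
  have hF : Function.Injective F0 := fun s r e => Subtype.ext (by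
    have e' : g⁻¹ * s * g * (s : K₀ c)⁻¹ = g⁻¹ * r * g * (r : K₀ c)⁻¹ := congrArg Subtype.val e
    refine (inv_mul_eq_one.mp (hT'.free _ (mul_mem (inv_mem r.2) s.2) ?_)).symm
    calc g * ((r : K₀ c)⁻¹ * s) * g⁻¹
        = (r : K₀ c)⁻¹ * g * (g⁻¹ * r * g * (r : K₀ c)⁻¹) * s * g⁻¹ := by group
      _ = (r : K₀ c)⁻¹ * g * (g⁻¹ * s * g * (s : K₀ c)⁻¹) * s * g⁻¹ := by rw [e']
      _ = _ := by group)
  obtain ⟨⟨s, hs⟩, hse⟩ := Finite.surjective_of_injective hF ⟨k, hkmem⟩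
  have hgs : φ g = s * g * s⁻¹ := by
    have e : g⁻¹ * s * g * s⁻¹ = k := congrArg Subtype.val hse
    rw [hg', ← e]
    group
  set ψ := MulAut.conj s⁻¹ * φ with hψ
  have hψa : ∀ x, ψ x = s⁻¹ * φ x * s := fun x => by simp [hψ]
  have hψg : ψ g = g := by rw [hψa, hgs]; group
  have hψV : ∀ v ∈ TT c, v * v = 1 → ψ v = v := fun v hv hv2 => by
    rw [hψa, hfix v hv hv2, mul_assoc, sq_central c hv hv2 hs, inv_mul_cancel_left]
  have hψT : ∀ x ∈ TT c, ψ x = x := by
    -- modulo the elements squaring to one, `ψ` is conjugation by `s⁻¹`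
    intro x hx
    obtain ⟨t, ht, v, hv, hv2, rfl⟩ := hT'.spread x hx
    have hψh : ψ h = h := by
      obtain ⟨i, hi⟩ := hT'.pow
      rw [hi, map_pow, hψg]
    have hA : ∀ y ∈ TT c, y * y * (y * y) = 1 := fun y hy => sq_mem c y hy
    obtain ⟨hw, hw2⟩ := hd t ht
    -- the displacement of `t`
    set d := ψ t * t⁻¹ with hdd
    have hdmem : d ∈ TT c := by
      rw [hdd, hψa]; exact mul_mem (mul_mem (mul_mem (inv_mem hs) (hφT ht)) hs) (inv_mem ht)
    have hd2 : d * d = 1 := by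
      have e : d = (s⁻¹ * (φ t * t⁻¹) * s) * (s⁻¹ * t * s * t⁻¹) := by rw [hdd, hψa]; group
      have e1 : s⁻¹ * (φ t * t⁻¹) * s = φ t * t⁻¹ := by
        rw [mul_assoc, sq_central c hw hw2 hs, inv_mul_cancel_left]
      obtain ⟨hc1, hc2⟩ := commutator_mem c (inv_mem hs) ht
      rw [inv_inv] at hc1 hc2
      rw [e, e1]
      calc φ t * t⁻¹ * (s⁻¹ * t * s * t⁻¹) * (φ t * t⁻¹ * (s⁻¹ * t * s * t⁻¹))
          = φ t * t⁻¹ * ((s⁻¹ * t * s * t⁻¹) * (φ t * t⁻¹)) * (s⁻¹ * t * s * t⁻¹) := by group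
        _ = φ t * t⁻¹ * ((φ t * t⁻¹) * (s⁻¹ * t * s * t⁻¹)) * (s⁻¹ * t * s * t⁻¹) := by
              rw [sq_central c hw hw2 hc1]
        _ = (φ t * t⁻¹) * (φ t * t⁻¹) * ((s⁻¹ * t * s * t⁻¹) * (s⁻¹ * t * s * t⁻¹)) := by group
        _ = 1 := by rw [hw2, hc2, one_mul]
    have hψt : ψ t = d * t := by rw [hdd, inv_mul_cancel_right]
    have hcd : h * d * h⁻¹ = d := hT'.cent d hdmem hd2
    have hht : h * t * h⁻¹ ∈ TT c := by
      obtain ⟨i, hi⟩ := hT'.pow
      exact (mem_normalizer_iff.mp (hi ▸ pow_mem hT'.norm i) t).mp ht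
    rw [map_mul, hψV v hv hv2, map_mul, map_mul, map_mul, map_inv, map_inv, hψh, hψt]
    calc v * (h * (d * t) * h⁻¹ * (d * t)⁻¹) = v * ((h * d * h⁻¹) * (h * t * h⁻¹) * t⁻¹ * d⁻¹) := by group
      _ = v * (d * (h * t * h⁻¹ * t⁻¹) * d⁻¹) := by rw [hcd]; group
      _ = _ := by rw [sq_central c hdmem hd2 (mul_mem hht (inv_mem ht)), mul_inv_cancel_right]
  have hψ2 : ψ * ψ = 1 := by
    have e : ψ * ψ = MulAut.conj (s⁻¹ * φ s⁻¹) := MulEquiv.ext fun x => by
      rw [MulAut.mul_apply, hψa, hψa, MulAut.conj_apply, map_mul, map_mul, hinvol]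
      simp [mul_assoc]
    have hr : s⁻¹ * φ s⁻¹ ∈ TT c := mul_mem (inv_mem hs) (hφT (inv_mem hs))
    have hrg : g * (s⁻¹ * φ s⁻¹) * g⁻¹ = s⁻¹ * φ s⁻¹ := by
      have e' : (ψ * ψ) g = g := by rw [MulAut.mul_apply, hψg, hψg]
      rw [e, MulAut.conj_apply, mul_inv_eq_iff_eq_mul] at e'
      rw [← e', mul_inv_cancel_right]
    rw [e, hT'.free _ hr hrg, map_one]
  obtain ⟨m, hm⟩ := hi ψ hψ2 T fun x hx => hψT x (hT ▸ hx)
  have hmT : m ∈ TT c := mem_of_centralizes c fun t ht => by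
    have := hψT t ht
    rw [← hm, MulAut.conj_apply, mul_inv_eq_iff_eq_mul] at this
    exact this
  have hm1 : m = 1 := hT'.free m hmT (by
    have := hψg
    rw [← hm, MulAut.conj_apply, mul_inv_eq_iff_eq_mul] at this
    rw [← this, mul_inv_cancel_right])
  refine ⟨s, hs, ?_⟩
  rw [hm1, map_one, hψ, map_inv] at hm
  exact (inv_mul_eq_one.mp hm.symm).symm

theorem model_core (hr : LieRigid.Rigid 2 (K₀ c)) {u : K₀ c} (hu : u ∈ TT c) (hu2 : u * u = 1) (hu1 : u ≠ 1)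
    (Y : Subgroup (MulAut (K₀ c))) (ho : Odd (Nat.card Y)) (hfix : ∀ φ ∈ Y, φ u = u)
    (hnorm : ∀ k, k * u = u * k → ∀ φ ∈ Y, MulAut.conj k * φ * (MulAut.conj k)⁻¹ ∈ Y) : Y = ⊥ := by
  refine (eq_bot_iff_forall _).mpr fun φ hφ => ?_
  refine rigid c hq hT φ hr (ho.of_dvd_nat (orderOf_dvd_natCard _ hφ)) fun t ht => ?_
  have hd : φ t * t⁻¹ ∈ TT c := mul_mem (stab_of_fix c hT hu hu2 hu1 φ (hfix φ hφ) ht) (inv_mem ht)
  have h1 : MulAut.conj (φ t * t⁻¹) ∈ Y := by
    have e : MulAut.conj (φ t * t⁻¹) = φ * (MulAut.conj t * φ⁻¹ * (MulAut.conj t)⁻¹) := by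
      refine MulEquiv.ext fun y => ?_
      simp [mul_assoc]
    rw [e]
    exact mul_mem hφ (hnorm _ (sq_central c hu hu2 ht).symm _ (inv_mem hφ))
  exact mul_inv_eq_one.mp (eq_one_of_odd c hq (two_of_mem c hd) (ho.of_dvd_nat (orderOf_dvd_natCard _ h1)))

/-- Restriction to `T`. -/
theorem exists_restrict {v : K₀ c} (hv : v ∈ TT c) (h2 : v * v = 1) (h1 : v ≠ 1) (φ : MulAut (K₀ c))
    (hφ : φ v = v) : ∃ θ : MulAut (TT c), ∀ t : TT c, ((θ t : TT c) : K₀ c) = φ t := by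
  have hst := fun (t : TT c) => stab_of_fix c hT hv h2 h1 φ hφ t.2
  refine ⟨MulEquiv.ofBijective ((φ.toMonoidHom.comp (TT c).subtype).codRestrict (TT c) hst) ?_, fun t => rfl⟩
  exact Finite.injective_iff_bijective.mp fun a b e => Subtype.ext (φ.injective (congrArg Subtype.val e))

theorem model_outer (hr : LieRigid.Rigid 2 (K₀ c)) (hi : InnerFix.InnerFix 2 (K₀ c)) (φ : MulAut (K₀ c))
    (h2 : φ * φ = 1) (hfix : ∀ x ∈ TT c, x * x = 1 → φ x = x) (hne : ∀ s ∈ TT c, φ ≠ MulAut.conj s)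
    (Y : Subgroup (MulAut (K₀ c))) (ho : Odd (Nat.card Y)) (hcomm : ∀ ψ ∈ Y, φ * ψ = ψ * φ)
    (hnorm : ∀ v ∈ TT c, v * v = 1 → ∀ ψ ∈ Y, MulAut.conj v * ψ * (MulAut.conj v)⁻¹ ∈ Y) : Y = ⊥ := by
  classical
  obtain ⟨a, b, ha, hb, ha2, hb2, ha1, hb1, hab⟩ := exists_pair c hq
  let M : Model c (TT c) :=
    { κ := fun x => (modelU c).κ ((eT c).symm x)
      inj := (modelU c).inj.comp (eT c).symm.injective
      mul := fun x y => by rw [map_mul]; exact (modelU c).mul _ _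
      range := fun p r => ((eT c).symm.surjective.exists (p := fun z => (modelU c).κ z = (p, r))).symm.trans
        ((modelU c).range p r) }
  have hV : ∀ x : TT c, (M.κ x).1 = 0 ↔ (x : K₀ c) * x = 1 := fun x => by
    rw [← M.sq_eq_one, ← Subtype.coe_inj]
    rfl
  -- the key lemma: an odd automorphism fixing the elements squaring to one and commuting with `φ` is trivial
  have key : ∀ ψ : MulAut (K₀ c), Odd (orderOf ψ) → (∀ v ∈ TT c, v * v = 1 → ψ v = v) → φ * ψ = ψ * φ →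
      ψ = 1 := by
    intro ψ hψo hψV hψc
    obtain ⟨θ, hθ⟩ := exists_restrict c hq hT ha ha2 ha1 ψ (hψV a ha ha2)
    obtain ⟨η, hη⟩ := exists_restrict c hq hT ha ha2 ha1 φ (hfix a ha ha2)
    have hpow : ∀ (n : ℕ) (t : TT c), (((θ ^ n) t : TT c) : K₀ c) = (ψ ^ n) t := fun n => by
      induction n with
      | zero => intro t; rfl
      | succ n ih => intro t; rw [pow_succ', pow_succ', MulAut.mul_apply, MulAut.mul_apply, hθ, ih]
    have hθo : Odd (orderOf θ) := hψo.of_dvd_nat (orderOf_dvd_of_pow_eq_one (MulEquiv.ext fun t => Subtype.ext (by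
      rw [hpow, pow_orderOf_eq_one]; rfl)))
    have htriv : ∀ t, (M.κ (θ t)).1 = (M.κ t).1 := trivial_of_commute M θ η hθo
      (fun x => Subtype.ext (by rw [hθ]; exact hψV _ (x * x).2 (sq_mem c _ x.2)))
      (fun x => Subtype.ext (by rw [hη]; exact hfix _ (x * x).2 (sq_mem c _ x.2)))
      (MulEquiv.ext fun t => Subtype.ext (by
        rw [MulAut.mul_apply, hη, hη]; exact DFunLike.congr_fun h2 _))
      (by
        by_contra hcon
        push Not at hcon
        obtain ⟨s, hs, e⟩ := model_inner c hq hT hi φ h2 hfix fun x hx => by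
          have e1 := (hV (η ⟨x, hx⟩ * (⟨x, hx⟩ : TT c)⁻¹)).mp (by
            have e2 := congrArg Prod.fst (M.mul (η ⟨x, hx⟩ * (⟨x, hx⟩ : TT c)⁻¹) ⟨x, hx⟩)
            rw [inv_mul_cancel_right, hcon] at e2
            simpa using e2)
          rw [Subgroup.coe_mul, Subgroup.coe_inv, hη] at e1
          exact ⟨mul_mem (stab_of_fix c hT ha ha2 ha1 φ (hfix a ha ha2) hx) (inv_mem hx), e1⟩
        exact hne s hs e)
      (MulEquiv.ext fun t => Subtype.ext (by
        rw [MulAut.mul_apply, MulAut.mul_apply, hθ, hη, hη, hθ]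
        exact (DFunLike.congr_fun hψc _).symm))
    refine rigid c hq hT ψ hr hψo fun t ht => ?_
    -- the displacement of `t` squares to one and is fixed
    set d : TT c := θ ⟨t, ht⟩ * (⟨t, ht⟩ : TT c)⁻¹ with hd
    have hd2 : (d : K₀ c) * d = 1 := (hV d).mp (by
      have e2 := congrArg Prod.fst (M.mul d ⟨t, ht⟩)
      rw [hd, inv_mul_cancel_right, htriv, ← hd] at e2
      simpa using e2)
    have hψt : ψ t = d * t := by
      rw [← hθ ⟨t, ht⟩, hd, Subgroup.coe_mul, Subgroup.coe_inv, inv_mul_cancel_right]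
    have hit : ∀ n : ℕ, (ψ ^ n) t = (d : K₀ c) ^ n * t := fun n => by
      induction n with
      | zero => simp
      | succ n ih =>
        rw [pow_succ', MulAut.mul_apply, ih, map_mul, map_pow, hψV _ d.2 hd2, hψt, ← mul_assoc, pow_succ]
    have h3 := hit (orderOf ψ)
    obtain ⟨m, hm⟩ := hψo
    rw [pow_orderOf_eq_one, hm, pow_succ, pow_mul, pow_two, hd2, one_pow, one_mul] at h3
    rw [hψt]
    exact h3.symm
  have hdY : ∀ y ∈ Y, ∀ v ∈ TT c, v * v = 1 → MulAut.conj (y v * v⁻¹) ∈ Y := fun y hy v hv hv2 => by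
    have e : MulAut.conj (y v * v⁻¹) = y * (MulAut.conj v * y⁻¹ * (MulAut.conj v)⁻¹) := by
      refine MulEquiv.ext fun x => ?_
      simp [mul_assoc]
    rw [e]
    exact mul_mem hy (hnorm v hv hv2 _ (inv_mem hy))
  set R : Subgroup (K₀ c) := Y.comap MulAut.conj with hR
  have hRo : Odd (Nat.card R) := ho.of_dvd_nat (by
    rw [← card_map_of_injective (f := MulAut.conj) (K := R) (conj_inj c hq)]
    exact card_dvd_of_le (map_comap_le _ _))
  have hRn : ∀ v ∈ TT c, v * v = 1 → ∀ r ∈ R, v * r * v⁻¹ ∈ R := fun v hv hv2 r hr => by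
    show MulAut.conj _ ∈ Y
    rw [map_mul, map_mul, map_inv]
    exact hnorm v hv hv2 _ hr
  have hRf : ∀ v ∈ TT c, v * v = 1 → v ≠ 1 → ∀ r ∈ R, r * v = v * r → r = 1 := by
    intro v hv hv2 hv1 r hr hc
    have hn := mem_normalizer_of_comm c hv hv1 hc
    have hφr : φ r = r := conj_inj c hq (by
      have e1 : MulAut.conj (φ r) = φ * MulAut.conj r * φ⁻¹ := MulEquiv.ext fun x => by simp
      rw [e1, hcomm _ hr, mul_inv_cancel_right])
    have hrV : ∀ w ∈ TT c, w * w = 1 → MulAut.conj r w = w := by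
      intro w hw hw2
      have hm : r * w * r⁻¹ * w⁻¹ ∈ R := by
        rw [show r * w * r⁻¹ * w⁻¹ = r * (w * r⁻¹ * w⁻¹) by group]
        exact mul_mem hr (hRn w hw hw2 _ (inv_mem hr))
      have hm' : r * w * r⁻¹ * w⁻¹ ∈ TT c := mul_mem ((mem_normalizer_iff.mp hn w).mp hw) (inv_mem hw)
      rw [MulAut.conj_apply, ← mul_inv_eq_one]
      exact eq_one_of_odd c hq (two_of_mem c hm') (ho.of_dvd_nat (orderOf_dvd_natCard _ hm))
    refine conj_inj c hq ((key _ (ho.of_dvd_nat (orderOf_dvd_natCard _ hr)) hrV ?_).trans (map_one _).symm)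
    exact hcomm _ hr
  have hR1 : ∀ r ∈ R, r = 1 := fun r hr => by
    have hab2 : a * b * (a * b) = 1 := by
      rw [mul_assoc, ← mul_assoc b, ← sq_central c ha ha2 hb, mul_assoc a b, hb2, mul_one, ha2]
    have hab1 : a * b ≠ 1 := fun e => hab (by rw [eq_inv_of_mul_eq_one_left e, inv_eq_of_mul_eq_one_right hb2])
    have e := fun {v} (hv : v ∈ TT c) (hv2 : v * v = 1) (hv1 : v ≠ 1) {x} (hx : x ∈ R) =>
      inverts hv2 (hRn v hv hv2) (hRf v hv hv2 hv1) hx
    have h1 : a * b * r * (a * b)⁻¹ = r := by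
      rw [show a * b * r * (a * b)⁻¹ = a * (b * r * b⁻¹) * a⁻¹ by group, e hb hb2 hb1 hr,
        e ha ha2 ha1 (inv_mem hr), inv_inv]
    exact hRf _ (mul_mem ha hb) hab2 hab1 r hr (mul_inv_eq_iff_eq_mul.mp h1).symm
  refine (eq_bot_iff_forall _).mpr fun y hy => ?_
  exact key y (ho.of_dvd_nat (orderOf_dvd_natCard _ hy))
    (fun v hv hv2 => mul_inv_eq_one.mp (hR1 _ (hdY y hy v hv hv2))) (hcomm y hy)

theorem model_local (hr : LieRigid.Rigid 2 (K₀ c)) (hi : InnerFix.InnerFix 2 (K₀ c)) : Local T where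
  central x hx h2 y hy := sq_central c (hT ▸ hx) h2 (hT ▸ hy)
  four := by
    obtain ⟨a, b, ha, hb, ha2, hb2, ha1, hb1, hab⟩ := exists_pair c hq
    let f : Fin 4 → {x : K₀ c // x ∈ (T : Subgroup (K₀ c)) ∧ x * x = 1} :=
      ![⟨1, one_mem _, mul_one 1⟩, ⟨a, hT.symm ▸ ha, ha2⟩, ⟨b, hT.symm ▸ hb, hb2⟩,
        ⟨a * b, hT.symm ▸ mul_mem ha hb, by
          rw [mul_assoc, ← mul_assoc b, ← sq_central c ha ha2 hb, mul_assoc a b, hb2, mul_one, ha2]⟩]
    have hf : Function.Injective f := by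
      have h3 : a * b ≠ 1 := fun e => hab (by rw [eq_inv_of_mul_eq_one_left e, inv_eq_of_mul_eq_one_right hb2])
      intro i j e
      fin_cases i <;> fin_cases j <;>
        simp [f, Subtype.ext_iff, ha1, hb1, hab, h3, ha1.symm, hb1.symm, hab.symm, h3.symm] at e ⊢
    simpa using Nat.card_le_card_of_injective f hf
  trans := by
    obtain ⟨g, h, hT'⟩ := exists_torus c hq
    exact ⟨g, by rw [hT]; exact hT'.norm, fun x hx h2 h1 y hy k2 k1 =>
      hT'.trans x (hT ▸ hx) h2 h1 y (hT ▸ hy) k2 k1⟩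
  inner φ h2 hfix hd := by
    rw [hT] at hfix hd ⊢
    exact model_inner c hq hT hi φ h2 hfix hd
  core _ u hu h2 h1 Y ho hfix hnorm := model_core c hq hT hr (hT ▸ hu) h2 h1 Y ho hfix hnorm
  outer _ φ h2 hfix hne Y ho hcomm hnorm := by
    rw [hT] at hfix hne hnorm
    exact model_outer c hq hT hr hi φ h2 hfix hne Y ho hcomm hnorm

theorem model_solvStab : WalterAb.SolvStab (K₀ c) := by
  haveI : Fact (Nat.Prime 2) := ⟨Nat.prime_two⟩
  have hna : ¬ IsMulCommutative (K₀ c) := fun hab => by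
    obtain ⟨g, h, hT'⟩ := exists_torus c hq
    obtain ⟨t, ht, ht2⟩ := exists_four c
    exact ht2 (by rw [hT'.free t ht (by rw [hab.1.comm g t, mul_inv_cancel_right]), one_mul])
  let M : Model c (T : Subgroup (K₀ c)) :=
    { κ := fun x => (modelU c).κ ((eT c).symm ((MulEquiv.subgroupCongr hT) x))
      inj := (modelU c).inj.comp ((eT c).symm.injective.comp (MulEquiv.subgroupCongr hT).injective)
      mul := fun x y => by rw [map_mul, map_mul]; exact (modelU c).mul _ _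
      range := fun p r =>
        (((MulEquiv.subgroupCongr hT).trans (eT c).symm).surjective.exists
          (p := fun z => (modelU c).κ z = (p, r))).symm.trans ((modelU c).range p r) }
  haveI hout : Group.IsSolvable (Cfsg.Out (K₀ c)) :=
    AfterFT.OutSolvable.isSolvable_out_of_mulAut (fun H _ _ h => Cfsg.Agent.S0205.result h) hna T (solvable_mulAut M)
  intro z hz hz2
  refine WalterAb.solvable_stabilizer_of hout ?_
  have hp : IsPGroup 2 (zpowers z) := IsPGroup.of_card (n := 1) (by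
    rw [Nat.card_zpowers, pow_one]; exact orderOf_eq_prime (by rw [pow_two]; exact hz2) hz)
  obtain ⟨P, hP⟩ := hp.exists_le_sylow
  obtain ⟨k, hk⟩ := MulAction.exists_smul_eq (K₀ c) P T
  have hzT : k * z * k⁻¹ ∈ TT c := by
    rw [← hT, ← hk, Sylow.coe_subgroup_smul]
    exact mem_map_of_mem (MulAut.conj k).toMonoidHom (hP (mem_zpowers z))
  obtain ⟨u, hu, hue⟩ := hzT
  have hu1 : u ≠ 1 := fun e => hz (by rw [e, map_one] at hue; exact conj_eq_one_iff.mp hue.symm)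
  -- the Borel subgroup is solvable
  haveI hB : Group.IsSolvable (BG c) := by
    haveI : Group.IsSolvable (UG c) := by
      haveI := (isPGroup_UU (n := 3) c 2).isNilpotent
      infer_instance
    haveI : Group.IsSolvable Fˣ := Group.isSolvable_of_comm mul_comm
    exact Group.isSolvable_of_ker_le_range (inclusion (UG_le c)) (corner c) fun x hx => by
      rw [corner_ker] at hx
      exact ⟨⟨x, hx⟩, rfl⟩
  haveI : Group.IsSolvable ((BG c).map (proj c)) :=
    Group.isSolvable_of_surjective ((proj c).subgroupMap_surjective (BG c))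
  let f : centralizer ({z} : Set (K₀ c)) →* (BG c).map (proj c) :=
    ((MulAut.conj k).toMonoidHom.comp (centralizer ({z} : Set (K₀ c))).subtype).codRestrict _ fun x => by
      obtain ⟨g, hg⟩ := QuotientGroup.mk'_surjective _ (MulAut.conj k x)
      refine ⟨g, ti c hu hu1 ?_, hg⟩
      have hcm : proj c g * proj c u = proj c u * proj c g := by
        rw [hue, show proj c g = k * x * k⁻¹ from hg, show k * (x : K₀ c) * k⁻¹ * (k * z * k⁻¹) = k * (x * z) * k⁻¹ by group,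
          show k * z * k⁻¹ * (k * (x : K₀ c) * k⁻¹) = k * (z * x) * k⁻¹ by group, mem_centralizer_singleton_iff.mp x.2]
      rw [mul_assoc, ← exact_comm c hu hcm, inv_mul_cancel_left]
      exact hu
  have hf : Function.Injective f := fun a b e =>
    Subtype.ext ((MulAut.conj k).injective (congrArg Subtype.val e))
  exact Group.isSolvable_of_isSolvable_injective hf

end CfsgLib.GoldSC.LU3


namespace CfsgLib.GoldSC

open Subgroup CfsgLib.PSUBorel

universe u

variable {K : Type u} [Group K] [Finite K] [IsSimpleGroup K]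

/-- The model of a member. -/
theorem exists_model_u3 (h : IsU3 K) : ∃ (F : Type) (_ : Field F) (_ : Fintype F) (_ : CharP F 2) (c : Conj F),
    4 ≤ c.q ∧ IsSimpleGroup (LU3.K₀ c) ∧ LieRigid.Rigid 2 (LU3.K₀ c) ∧ InnerFix.InnerFix 2 (LU3.K₀ c) ∧
      Nonempty (K ≃* LU3.K₀ c) := by
  obtain ⟨F, i1, i2, n, hn, hF, ⟨e⟩⟩ := h
  haveI : Fact (Nat.Prime 2) := ⟨Nat.prime_two⟩
  haveI : CharP F 2 := charP_of_card_eq_prime_pow (f := n * 2) (by rw [pow_mul, hF])
  obtain ⟨-, σ, hσ⟩ := CfsgLib.UnitaryBasic.frob_exists hF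
  let c : Conj F := ⟨2 ^ n, σ, hF, hσ⟩
  obtain ⟨E⟩ := exists_iso c (n := 3)
  let eP : LU3.K₀ c ≃* Cfsg.PSU 3 F (2 ^ n) :=
    QuotientGroup.congr _ _ E (by
      ext x
      constructor
      · rintro ⟨y, hy, rfl⟩
        exact mem_center_iff.mpr fun z => by
          obtain ⟨z', rfl⟩ := E.surjective z
          show E z' * E y = E y * E z'
          rw [← map_mul, ← map_mul, mem_center_iff.mp hy z']
      · intro hx
        refine ⟨E.symm x, mem_center_iff.mpr fun z => E.injective ?_, by simp⟩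
        simp [mem_center_iff.mp hx (E z)])
  haveI : Nontrivial (Cfsg.PSU 3 F (2 ^ n)) := e.symm.toEquiv.nontrivial
  haveI : IsSimpleGroup (Cfsg.PSU 3 F (2 ^ n)) :=
    IsSimpleGroup.isSimpleGroup_of_surjective e.toMonoidHom e.surjective
  haveI : Finite (LU3.K₀ c) := Quotient.finite _
  haveI : IsSimpleGroup (LU3.K₀ c) := by
    haveI := eP.toEquiv.nontrivial
    exact IsSimpleGroup.isSimpleGroup_of_surjective eP.symm.toMonoidHom eP.symm.surjective
  refine ⟨F, i1, i2, inferInstance, c, (show 4 ≤ 2 ^ n from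
    (show (4 : ℕ) = 2 ^ 2 by norm_num) ▸ Nat.pow_le_pow_right (by norm_num) hn), inferInstance,
    (LieRigid.both_psu 2 hF le_rfl).1.of_equiv eP, (LieRigid.innerFix_psu hF le_rfl).of_equiv eP, ⟨e.trans eP.symm⟩⟩

/-- `U₃(2^n)` has the local properties. -/
theorem local_u3 (h : IsU3 K) (T : Sylow 2 K) : Local T := by
  obtain ⟨F, _, _, _, c, hq, _, hr, hi, ⟨e⟩⟩ := exists_model_u3 h
  obtain ⟨T0, hT0, -, -⟩ := BinaryCoset.exists_sylow_model c
  exact (LU3.model_local c hq hT0 hr hi).of_equiv e T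

/-- The stabilisers of involutions in the automorphism group of `U₃(2^n)` are solvable. -/
theorem solvStab_u3 (h : IsU3 K) : WalterAb.SolvStab K := by
  obtain ⟨F, _, _, _, c, hq, _, hr, hi, ⟨e⟩⟩ := exists_model_u3 h
  obtain ⟨T0, hT0, -, -⟩ := BinaryCoset.exists_sylow_model c
  exact (LU3.model_solvStab c hq hT0).map e.symm

end CfsgLib.GoldSC
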