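import Cfsg.Agent.Lib.GoldSC.Local
import Cfsg.Agent.Lib.GoldSC.LocalU3
import Cfsg.Agent.Lib.GoldSC.List

/-!
Every member of the list has the local properties.

Blueprint: `blueprint/Goldschmidt.md`, A1.
-/

set_option autoImplicit false
set_option linter.unusedSectionVars false

namespace CfsgLib.GoldSC

universe u

variable {K : Type u} [Group K] [Finite K] [IsSimpleGroup K]

theorem Listed.loc (hl : Listed K) (T : Sylow 2 K) : Local T := by
  rcases hl with h | h | h
  · exact local_listed h T
  · exact local_suzuki h T
  · exact local_u3 h T

end CfsgLib.GoldSC
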