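import Cfsg.Agent.Lib.GoldSC.Local
import Cfsg.Agent.Lib.GoldSC.List
import Cfsg.Agent.Lib.GoldSC.Loc
import Cfsg.Agent.Lib.S3Simple.Component
import Cfsg.Agent.Lib.CyclicInt.Fusion
import Cfsg.Agent.S1251

/-!
A group with trivial core all of whose sections satisfy the statement: its components, relative to a strongly closed
elementary abelian 2-subgroup.

Blueprint: `blueprint/Goldschmidt.md`, A1.
-/

set_option autoImplicit false
set_option linter.unusedSectionVars false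
set_option linter.style.haveILetI false

namespace CfsgLib.GoldSC

open Cfsg Subgroup CfsgLib CfsgLib.Comp
open CfsgLib.S3Simple (Closed actQ actQ_apply centralizes_of_actQ component_isSimple component_not_comm
  mem_normalizer_of_map_eq)

universe u

/-- Trivial core, and the statement holds up to this order. -/
structure Ctx (M : Type u) [Group M] [Finite M] : Prop where
  core : pPrimeCore 2 M = ⊥
  ih : ∀ (Y : Type u) [Group Y] [Finite Y], Nat.card Y ≤ Nat.card M → Q Y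

variable {M : Type u} [Group M] [Finite M] {T : Sylow 2 M} {A E : Subgroup M}

/-- The centre of a component lies in every Sylow 2-subgroup. -/
theorem Ctx.center_le_sylow (hM : Ctx M) (T : Sylow 2 M) (hE : IsComponent E) :
    (center ↥E).map E.subtype ≤ (T : Subgroup M) := by
  haveI : Fact (Nat.Prime 2) := ⟨Nat.prime_two⟩
  haveI : Group.IsNilpotent ((center ↥E).map E.subtype : Subgroup M) := nilpotent_of_comm (by
    rintro _ ⟨a, ha, rfl⟩ _ ⟨b, -, rfl⟩
    exact congrArg Subtype.val ((mem_center_iff.mp ha b).symm))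
  have hsn : ((center ↥E).map E.subtype : Subgroup M).IsSubnormal :=
    (inferInstance : (center ↥E).Normal).isSubnormal.trans' hE.1
  have h := isSubnormal_nilpotent_le_fitting hsn inferInstance
  rw [fitting_eq_pCore Nat.prime_two hM.core] at h
  exact h.trans (CfsgLib.AfterFT.CoreSep.pCore_two_le_sylow T)

theorem card_quotient_le (E : Subgroup M) (N : Subgroup ↥E) [N.Normal] : Nat.card (↥E ⧸ N) ≤ Nat.card M :=
  (Nat.card_le_card_of_surjective _ (QuotientGroup.mk'_surjective N)).trans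
    (Nat.card_le_card_of_injective _ E.subtype_injective)

/-- What the image of an element lying over the Sylow subgroup of the quotient gives. -/
theorem Ctx.mem_sylow_of_image (hM : Ctx M) (T : Sylow 2 M) (hE : IsComponent E) {P : Sylow 2 ↥E}
    (hP : (P : Subgroup ↥E).map E.subtype = (T : Subgroup M) ⊓ E) {e : ↥E}
    (he : QuotientGroup.mk' (center ↥E) e ∈ (P : Subgroup ↥E).map (QuotientGroup.mk' (center ↥E))) :
    (e : M) ∈ (T : Subgroup M) := by
  obtain ⟨t, ht, hte⟩ := he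
  have h1 : t⁻¹ * e ∈ center ↥E := QuotientGroup.eq.mp hte
  have h2 : (t : M) ∈ (T : Subgroup M) := (hP.le (mem_map_of_mem E.subtype ht)).1
  have := mul_mem h2 (hM.center_le_sylow T hE (mem_map_of_mem E.subtype h1))
  simpa using this

/-- A strongly closed abelian subgroup normalises every component. -/
theorem Ctx.closed_normalizes (hM : Ctx M) (hA : Closed T A) (hE : IsComponent E) :
    A ≤ normalizer (E : Set M) := by
  classical
  haveI : Fact (Nat.Prime 2) := ⟨Nat.prime_two⟩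
  haveI := component_isSimple hE
  set K := ↥E ⧸ center ↥E
  set π := QuotientGroup.mk' (center ↥E) with hπ
  by_contra hnot
  obtain ⟨a, ha, hanE⟩ := SetLike.not_le_iff_exists.mp hnot
  have hTA := hA.le_normalizer
  obtain ⟨P, hP⟩ := CfsgLib.CharPLocal.exists_sylow_subnormal T hE.1
  let TQ : Sylow 2 K := P.mapSurjective (QuotientGroup.mk'_surjective _)
  have hab : IsMulCommutative (TQ : Subgroup K) := Cfsg.Agent.S2925.result E hE T A hA.le
    ((normal_subgroupOf_iff_le_normalizer hA.le).mpr hTA) hA.elem.1 hnot TQ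
  -- the normaliser of the Sylow subgroup of the quotient does not centralise it
  obtain ⟨k, hk, s, hs, hne⟩ : ∃ k ∈ normalizer ((TQ : Subgroup K) : Set K), ∃ s ∈ (TQ : Subgroup K),
      k * s * k⁻¹ ≠ s := by
    by_contra! hcon
    have hNC : normalizer ((TQ : Subgroup K) : Set K) ≤ centralizer ((TQ : Subgroup K) : Set K) :=
      fun k hk s hs => ((mul_inv_eq_iff_eq_mul.mp (hcon k hk s hs)) : k * s = s * k).symm
    have hK := MonoidHom.ker_transferSylow_isComplement' TQ hNC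
    have h2 : 2 ∣ Nat.card (TQ : Subgroup K) := (TQ.dvd_card_of_dvd_card
      (CfsgLib.CyclicInt.even_card_of_simple (component_not_comm hE)).two_dvd)
    rcases (MonoidHom.normal_ker (MonoidHom.transferSylow TQ hNC)).eq_bot_or_eq_top with h | h
    · rw [h] at hK
      have he : (TQ : Subgroup K) = ⊤ := isComplement'_bot_left.mp hK
      exact component_not_comm hE ⟨⟨fun x y => congrArg Subtype.val
        (hab.1.comm ⟨x, he ▸ mem_top x⟩ ⟨y, he ▸ mem_top y⟩)⟩⟩
    · rw [h] at hK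
      rw [isComplement'_top_left.mp hK, card_bot] at h2
      norm_num at h2
  obtain ⟨g, rfl⟩ := QuotientGroup.mk'_surjective _ k
  obtain ⟨e, he, rfl⟩ := hs
  have heT : (e : M) ∈ (T : Subgroup M) := (hP.le (mem_map_of_mem E.subtype he)).1
  have hgT : (g : M) * e * (g : M)⁻¹ ∈ (T : Subgroup M) := hM.mem_sylow_of_image T hE hP (e := g * e * g⁻¹) (by
    rw [map_mul, map_mul, map_inv]
    exact (mem_normalizer_iff.mp hk _).mp (mem_map_of_mem _ he))
  have hF : IsComponent (E.map (MulAut.conj a).toMonoidHom) := isComponent_map_equiv (MulAut.conj a) hE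
  have hcom : ∀ x ∈ E, ∀ y ∈ E, (a * x * a⁻¹) * y = y * (a * x * a⁻¹) := fun x hx y hy =>
    comm_of_commutator_eq_bot ((components_eq_or_commute hF hE).resolve_left fun h =>
      hanE (mem_normalizer_of_map_eq h)) ⟨x, hx, rfl⟩ hy
  set e' : M := a * e * a⁻¹ with he'
  set x : M := (e : M)⁻¹ * e' with hx
  have hxA : x ∈ A := by
    have h1 : (e : M)⁻¹ * a * e ∈ A := (mem_normalizer_iff''.mp (hTA heT) a).mp ha
    rw [hx, he', show (e : M)⁻¹ * (a * e * a⁻¹) = ((e : M)⁻¹ * a * e) * a⁻¹ by group]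
    exact mul_mem h1 (inv_mem ha)
  have hge' : (g : M) * e' * (g : M)⁻¹ = e' := by
    rw [← hcom _ e.2 _ g.2, mul_inv_cancel_right]
  have hgx : (g : M) * x * (g : M)⁻¹ = ((g : M) * e * (g : M)⁻¹)⁻¹ * e' := by
    rw [hx, show (g : M) * ((e : M)⁻¹ * e') * (g : M)⁻¹ =
      ((g : M) * e * (g : M)⁻¹)⁻¹ * ((g : M) * e' * (g : M)⁻¹) by group, hge']
  have hgxA : (g : M) * x * (g : M)⁻¹ ∈ A := hA.closed.2 x hxA g (by
    rw [hgx]
    exact mul_mem (inv_mem hgT) (mul_mem (mul_mem (hA.le ha) heT) (inv_mem (hA.le ha))))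
  set y : ↥E := (g * e * g⁻¹)⁻¹ * e with hy
  have hyA : (y : M) ∈ A := by
    have : (y : M) = (g : M) * x * (g : M)⁻¹ * x⁻¹ := by
      rw [hgx, hx, hy]
      push_cast
      group
    rw [this]
    exact mul_mem hgxA (inv_mem hxA)
  have hyc : y ∈ center ↥E := mem_center_iff.mpr fun z => Subtype.ext (by
    have h1 := hcom _ y.2 _ z.2
    rw [hA.comm ha hyA, mul_inv_cancel_right] at h1
    exact h1.symm)
  have hy1 : π y = 1 := (QuotientGroup.eq_one_iff y).mpr hyc
  rw [hy, map_mul, map_inv, map_mul, map_mul, map_inv, inv_mul_eq_one] at hy1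
  exact hne hy1

/-- A component moved by `A` contains an element of `A` outside its centre. -/
theorem Ctx.exists_inside (hM : Ctx M) (hA : Closed T A) (hE : IsComponent E)
    (hne : ¬ A ≤ centralizer (E : Set M)) : ∃ e : ↥E, (e : M) ∈ A ∧ e ∉ center ↥E := by
  classical
  haveI : Fact (Nat.Prime 2) := ⟨Nat.prime_two⟩
  haveI := component_isSimple hE
  by_contra! hcon
  set N := normalizer (E : Set M) with hN
  have hEN : E ≤ N := le_normalizer
  have hAN : A ≤ N := hM.closed_normalizes hA hE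
  set Z : Subgroup ↥N := (center ↥E).map (inclusion hEN) with hZ
  haveI : Z.Normal := ⟨by
    rintro _ ⟨z, hz, rfl⟩ n
    refine ⟨(E.normalizerMonoidHom n) z, mem_center_iff.mpr fun x => ?_, Subtype.ext rfl⟩
    obtain ⟨x', rfl⟩ := (E.normalizerMonoidHom n).surjective x
    rw [← map_mul, ← map_mul, mem_center_iff.mp hz x']⟩
  set f := QuotientGroup.mk' Z with hf
  obtain ⟨P, hP⟩ := (hA.isPGroup.of_equiv (subgroupOfEquivOfLe hAN).symm).exists_le_sylow
  obtain ⟨S', hS'⟩ := (P.2.map N.subtype).exists_le_sylow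
  have hA' : Closed S' A := hA.of_le fun x hx => hS' ⟨⟨x, hAN hx⟩, hP hx, rfl⟩
  have hcl : IsStronglyClosed ((A.subgroupOf N).map f) ((P.mapSurjective (QuotientGroup.mk'_surjective Z) :
      Sylow 2 (↥N ⧸ Z)) : Subgroup (↥N ⧸ Z)) := by
    refine ⟨map_mono hP, ?_⟩
    rintro _ ⟨x, hx, rfl⟩ q hq
    obtain ⟨w, rfl⟩ := QuotientGroup.mk'_surjective Z q
    obtain ⟨t, ht, hte⟩ := hq
    rw [← map_inv, ← map_mul, ← map_mul] at hte ⊢
    refine ⟨w * x * w⁻¹, hA'.closed.2 (x : M) hx (w : M) ?_, rfl⟩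
    obtain ⟨z, hz, hze⟩ := QuotientGroup.eq.mp hte
    have h1 : (z : M) ∈ (S' : Subgroup M) := hM.center_le_sylow S' hE ⟨z, hz, rfl⟩
    have h2 : w * x * w⁻¹ = t * inclusion hEN z := by rw [hze, mul_inv_cancel_left]
    show ((w * x * w⁻¹ : ↥N) : M) ∈ _
    rw [h2]
    exact mul_mem (hS' ⟨t, ht, rfl⟩) h1
  set g : ↥E →* ↥N ⧸ Z := f.comp (inclusion hEN) with hg
  have hgk : g.ker = center ↥E := by
    ext x
    rw [MonoidHom.mem_ker, hg, MonoidHom.comp_apply, hf, QuotientGroup.mk'_apply, QuotientGroup.eq_one_iff]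
    exact ⟨fun ⟨z, hz, e⟩ => inclusion_injective hEN e ▸ hz, fun h => ⟨x, h, rfl⟩⟩
  let eH : ↥E ⧸ center ↥E ≃* g.range :=
    (QuotientGroup.quotientMulEquivOfEq hgk.symm).trans (QuotientGroup.quotientKerEquivRange g)
  haveI : IsSimpleGroup g.range := eH.symm.isSimpleGroup
  have hO : oddCore g.range = ⊥ := CfsgLib.CyclicInt.pPrimeCore_eq_bot fun h => component_not_comm hE
    ⟨⟨fun x y => eH.injective (by rw [map_mul, map_mul]; exact h.1.comm _ _)⟩⟩
  have hnorm : (A.subgroupOf N).map f ≤ normalizer (g.range : Set (↥N ⧸ Z)) := by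
    rintro _ ⟨a, -, rfl⟩
    refine mem_normalizer_of_maps ?_
    rintro _ ⟨e, rfl⟩
    refine ⟨(E.normalizerMonoidHom a) e, ?_⟩
    show f (inclusion hEN ((E.normalizerMonoidHom a) e)) = f a * f (inclusion hEN e) * (f a)⁻¹
    rw [← map_inv, ← map_mul, ← map_mul]
    exact congrArg f (Subtype.ext rfl)
  have hdisj : (A.subgroupOf N).map f ⊓ g.range = ⊥ := by
    refine (eq_bot_iff_forall _).mpr ?_
    rintro _ ⟨⟨a, ha, rfl⟩, e, he⟩
    obtain ⟨z, hz, hze⟩ := QuotientGroup.eq.mp he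
    have hae : (a : M) = (e : M) * z := by
      have := congrArg Subtype.val hze
      simp only [coe_mul, coe_inclusion, InvMemClass.coe_inv] at this
      rw [this, mul_inv_cancel_left]
    have hc : e * z ∈ center ↥E := hcon (e * z) (by rw [coe_mul, ← hae]; exact ha)
    exact (QuotientGroup.eq_one_iff a).mpr ⟨e * z, hc, Subtype.ext hae.symm⟩
  have hcen := Cfsg.Agent.S1251.result _ _ hcl g.range hnorm hO hdisj
  refine hne fun a ha => centralizes_of_actQ hE (hAN ha) (MulEquiv.ext fun r => ?_)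
  obtain ⟨e, rfl⟩ := QuotientGroup.mk'_surjective _ r
  rw [actQ_apply, MulAut.one_apply]
  refine eH.injective ?_
  refine Subtype.ext ?_
  show f (inclusion hEN ⟨a * e * a⁻¹, _⟩) = f (inclusion hEN e)
  have h1 := hcen ⟨⟨a, hAN ha⟩, ha, rfl⟩ (g e) ⟨e, rfl⟩
  rw [hg, MonoidHom.comp_apply] at h1
  rw [show inclusion hEN (⟨a * e * a⁻¹, (mem_normalizer_iff.mp (hAN ha) _).mp e.2⟩ : ↥E) =
    (⟨a, hAN ha⟩ : ↥N) * inclusion hEN e * (⟨a, hAN ha⟩ : ↥N)⁻¹ from Subtype.ext rfl, map_mul, map_mul, map_inv,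
    ← h1, mul_inv_cancel_right]

/-- The elements of `A` in the component, in the Sylow subgroup of its simple quotient: they are strongly closed. -/
theorem Ctx.image_closed (hM : Ctx M) (hA : Closed T A) (hE : IsComponent E) {P : Sylow 2 ↥E}
    (hP : (P : Subgroup ↥E).map E.subtype = (T : Subgroup M) ⊓ E) :
    IsStronglyClosed ((A.subgroupOf E).map (QuotientGroup.mk' (center ↥E)))
      ((P : Subgroup ↥E).map (QuotientGroup.mk' (center ↥E))) := by
  haveI : Fact (Nat.Prime 2) := ⟨Nat.prime_two⟩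
  refine ⟨map_mono fun e he => ?_, ?_⟩
  · obtain ⟨e', he', hee⟩ := hP.ge ⟨hA.le he, e.2⟩
    exact (E.subtype_injective hee) ▸ he'
  · rintro _ ⟨x, hx, rfl⟩ q hq
    obtain ⟨w, rfl⟩ := QuotientGroup.mk'_surjective _ q
    rw [← map_inv, ← map_mul, ← map_mul] at hq ⊢
    exact ⟨w * x * w⁻¹, hA.closed.2 (x : M) hx (w : M) (hM.mem_sylow_of_image T hE hP hq), rfl⟩

/-- A component moved by `A` is on the list. -/
theorem Ctx.comp_listed (hM : Ctx M) (hA : Closed T A) (hE : IsComponent E)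
    (hne : ¬ A ≤ centralizer (E : Set M)) : Listed (↥E ⧸ center ↥E) := by
  haveI : Fact (Nat.Prime 2) := ⟨Nat.prime_two⟩
  obtain ⟨P, hP⟩ := CfsgLib.CharPLocal.exists_sylow_subnormal T hE.1
  obtain ⟨e, he, hec⟩ := hM.exists_inside hA hE hne
  refine listed_of_Q (hM.ih _ (card_quotient_le E _)) (component_isSimple hE) (component_not_comm hE)
    (P.mapSurjective (QuotientGroup.mk'_surjective _)) ((A.subgroupOf E).map (QuotientGroup.mk' _)) ?_ ?_
    (hM.image_closed hA hE hP)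
  · exact fun h => hec ((QuotientGroup.eq_one_iff e).mp (mem_bot.mp (h ▸ mem_map_of_mem _ he)))
  · refine ⟨⟨?_⟩⟩
    rintro ⟨_, x, hx, rfl⟩ ⟨_, y, hy, rfl⟩
    refine Subtype.ext ?_
    show QuotientGroup.mk' _ x * QuotientGroup.mk' _ y = QuotientGroup.mk' _ y * QuotientGroup.mk' _ x
    rw [← map_mul, ← map_mul]
    exact congrArg _ (Subtype.ext (hA.comm hx hy))

/-- The data of a component not centralised by `A`: `A = C_A(E) × V` with `V ≤ E`, and an element of `E`
normalising `A`, transitive on the non-identity elements of `V`. -/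
structure CompBlock (A E V : Subgroup M) (k : M) : Prop where
  k_mem : k ∈ E
  k_norm : k ∈ Subgroup.normalizer (A : Set M)
  V_le : V ≤ A ⊓ E
  disjoint : A ⊓ Subgroup.centralizer (E : Set M) ⊓ V = ⊥
  sup : A ⊓ Subgroup.centralizer (E : Set M) ⊔ V = A
  inv : ∀ v ∈ V, k * v * k⁻¹ ∈ V
  trans : ∀ v ∈ V, v ≠ 1 → ∀ w ∈ V, w ≠ 1 → ∃ i : ℕ, k ^ i * v * (k ^ i)⁻¹ = w
  comm_V : ∀ a ∈ A, k * a * k⁻¹ * a⁻¹ ∈ V
  four_le : 4 ≤ Nat.card V

theorem CompBlock.split {V : Subgroup M} {k : M} (hb : CompBlock A E V k) (hcomm : ∀ a ∈ A, ∀ b ∈ A, a * b = b * a)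
    {a : M} (ha : a ∈ A) : ∃ d ∈ A ⊓ Subgroup.centralizer (E : Set M), ∃ v ∈ V, d * v = a := by
  have h : a ∈ A ⊓ Subgroup.centralizer (E : Set M) ⊔ V := by rwa [hb.sup]
  have hN : V ≤ Subgroup.normalizer ((A ⊓ Subgroup.centralizer (E : Set M) : Subgroup M) : Set M) := fun v hv =>
    mem_normalizer_of_maps fun d hd => by
      rw [hcomm v (hb.V_le hv).1 d hd.1, mul_inv_cancel_right]
      exact hd
  have h' : a ∈ ((A ⊓ Subgroup.centralizer (E : Set M) ⊔ V : Subgroup M) : Set M) := h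
  rw [Subgroup.coe_mul_of_right_le_normalizer_left _ _ hN] at h'
  exact h'

/-- B1, B2: the block of a component not centralised by `A`. -/
theorem Ctx.exists_compBlock (hM : Ctx M) (hA : Closed T A) (hE : IsComponent E)
    (hne : ¬ A ≤ Subgroup.centralizer (E : Set M)) : ∃ V k, CompBlock A E V k := by
  classical
  haveI := component_isSimple hE
  haveI : Fact (Nat.Prime 2) := ⟨Nat.prime_two⟩
  have hl := hM.comp_listed hA hE hne
  have hTA : (T : Subgroup M) ≤ Subgroup.normalizer (A : Set M) := fun s hs =>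
    CfsgLib.Bender.TwoClosed.mem_normalizer_of_conj fun a ha =>
      hA.closed.2 a ha s (mul_mem (mul_mem hs (hA.le ha)) (inv_mem hs))
  have hAE := hM.closed_normalizes hA hE
  have hcomm : ∀ a ∈ A, ∀ b ∈ A, a * b = b * a := fun a ha b hb =>
    congrArg Subtype.val (hA.elem.1.is_comm.comm ⟨a, ha⟩ ⟨b, hb⟩)
  have hsq : ∀ a ∈ A, a * a = 1 := fun a ha => by rw [← pow_two]; exact hA.elem.2 a ha
  obtain ⟨P, hP⟩ := CfsgLib.CharPLocal.exists_sylow_subnormal T hE.1
  let π := QuotientGroup.mk' (Subgroup.center ↥E)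
  let TQ : Sylow 2 (↥E ⧸ Subgroup.center ↥E) := P.mapSurjective (QuotientGroup.mk'_surjective _)
  have hloc : Local TQ := hl.loc TQ
  obtain ⟨k0, hk0, htr⟩ := hloc.trans
  have hTQ : ∀ {q}, q ∈ (TQ : Subgroup (↥E ⧸ Subgroup.center ↥E)) ↔ q ∈ (P : Subgroup ↥E).map π :=
    fun {q} => Iff.rfl
  -- elements over the Sylow subgroup of the quotient lie in `T`
  have hZT : (Subgroup.center ↥E).map E.subtype ≤ (T : Subgroup M) := by
    haveI : Group.IsNilpotent ((Subgroup.center ↥E).map E.subtype : Subgroup M) := nilpotent_of_comm (by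
      rintro _ ⟨a, ha, rfl⟩ _ ⟨b, -, rfl⟩
      exact congrArg Subtype.val ((Subgroup.mem_center_iff.mp ha b).symm))
    have hsn : ((Subgroup.center ↥E).map E.subtype : Subgroup M).IsSubnormal :=
      (inferInstance : (Subgroup.center ↥E).Normal).isSubnormal.trans' hE.1
    have h := isSubnormal_nilpotent_le_fitting hsn inferInstance
    rw [fitting_eq_pCore Nat.prime_two hM.core] at h
    exact h.trans (CfsgLib.AfterFT.CoreSep.pCore_two_le_sylow T)
  have hmemT : ∀ e : ↥E, π e ∈ (TQ : Subgroup (↥E ⧸ Subgroup.center ↥E)) → (e : M) ∈ (T : Subgroup M) := by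
    intro e he
    obtain ⟨t, ht, hte⟩ := hTQ.mp he
    have h1 : t⁻¹ * e ∈ Subgroup.center ↥E := QuotientGroup.eq.mp hte
    have h2 : (t : M) ∈ (T : Subgroup M) :=
      (hP ▸ Subgroup.mem_map_of_mem E.subtype ht : (t : M) ∈ (T : Subgroup M) ⊓ E).1
    have := mul_mem h2 (hZT (Subgroup.mem_map_of_mem E.subtype h1))
    simpa using this
  -- the elements of order two of the Sylow subgroup of the quotient come from `A ⊓ E`
  obtain ⟨e₀, he₀, he₀c⟩ := hM.exists_inside hA hE hne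
  have hcl := hM.image_closed hA hE hP
  have he₀T : π e₀ ∈ (TQ : Subgroup (↥E ⧸ Subgroup.center ↥E)) := hcl.1 ⟨e₀, he₀, rfl⟩
  have hA2 : ∀ e : ↥E, (e : M) ∈ A → π e * π e = 1 := fun e he => by
    rw [← map_mul, show e * e = 1 from Subtype.ext (hA.sq he), map_one]
  have hVK : ∀ x ∈ (TQ : Subgroup (↥E ⧸ Subgroup.center ↥E)), x * x = 1 → ∃ e : ↥E, (e : M) ∈ A ∧ π e = x := by
    intro x hx hx2
    rcases eq_or_ne x 1 with rfl | hx1
    · exact ⟨1, A.one_mem, map_one π⟩
    obtain ⟨i, hi⟩ := htr (π e₀) he₀T (hA2 e₀ he₀) (fun h => he₀c ((QuotientGroup.eq_one_iff _).mp h)) x hx hx2 hx1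
    obtain ⟨e, he, hee⟩ := hcl.2 (π e₀) ⟨e₀, he₀, rfl⟩ (k0 ^ i) (by rw [hi]; exact hx)
    exact ⟨e, he, hee.trans hi⟩
  -- every element of `A` induces an inner automorphism by an element of order at most two of the Sylow subgroup
  have hq : ∀ a ∈ A, ∃ q : ↥E ⧸ Subgroup.center ↥E,
      q ∈ (TQ : Subgroup (↥E ⧸ Subgroup.center ↥E)) ∧ q * q = 1 ∧
      ∀ e : ↥E, ∀ h : a * e * a⁻¹ ∈ E, π ⟨a * e * a⁻¹, h⟩ = q * π e * q⁻¹ := by
    intro a ha
    set φ := actQ E ⟨a, hAE ha⟩ with hφ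
    have h2 : φ * φ = 1 := by
      rw [hφ, ← map_mul, show (⟨a, hAE ha⟩ : Subgroup.normalizer (E : Set M)) * ⟨a, hAE ha⟩ = 1 from
        Subtype.ext (hA.sq ha), map_one]
    obtain ⟨q, hqT, hqφ⟩ := hloc.inner φ h2 (fun x hx hx2 => by
        obtain ⟨e, he, rfl⟩ := hVK x hx hx2
        rw [hφ, actQ_apply]
        exact congrArg π (Subtype.ext (show a * (e : M) * a⁻¹ = e by rw [hA.comm ha he, mul_inv_cancel_right])))
      (fun x hx => by
        obtain ⟨t, ht, rfl⟩ := hTQ.mp hx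
        have htT : (t : M) ∈ (T : Subgroup M) := (hP.le (Subgroup.mem_map_of_mem E.subtype ht)).1
        have hmE : a * t * a⁻¹ ∈ E := (Subgroup.mem_normalizer_iff.mp (hAE ha) t).mp t.2
        set d : ↥E := ⟨a * t * a⁻¹, hmE⟩ * t⁻¹ with hd
        have hdA : (d : M) ∈ A := by
          show a * t * a⁻¹ * (t : M)⁻¹ ∈ A
          rw [show a * (t : M) * a⁻¹ * (t : M)⁻¹ = a * ((t : M) * a⁻¹ * (t : M)⁻¹) by group]
          exact mul_mem ha ((Subgroup.mem_normalizer_iff.mp (hTA htT) _).mp (inv_mem ha))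
        have he : φ (π t) * (π t)⁻¹ = π d := by rw [hφ, hd, map_mul, map_inv]; rfl
        rw [he]
        exact ⟨hcl.1 ⟨d, hdA, rfl⟩, hA2 d hdA⟩)
    have hinj := conj_injective (K := ↥E ⧸ Subgroup.center ↥E) (component_not_comm hE)
    refine ⟨q, hqT, hinj (by rw [map_mul, ← hqφ, h2, map_one]), fun e h => ?_⟩
    have := DFunLike.congr_fun hqφ (π e)
    rw [MulAut.conj_apply] at this
    rw [← this]
    rfl
  choose! qa hqT hq2 hqconj using hq
  have hq_inj : ∀ a ∈ A, qa a = 1 → a ∈ Subgroup.centralizer (E : Set M) := by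
    intro a ha h1
    refine centralizes_of_actQ hE (hAE ha) (MulEquiv.ext fun r => ?_)
    obtain ⟨e, rfl⟩ := QuotientGroup.mk'_surjective _ r
    rw [actQ_apply, MulAut.one_apply, hqconj a ha e, h1, one_mul, inv_one, mul_one]
  have hq_cent : ∀ d ∈ A, d ∈ Subgroup.centralizer (E : Set M) → qa d = 1 := by
    intro d hd hdc
    refine by_contra fun h1 => component_not_comm hE ?_
    have hz : qa d ∈ Subgroup.center (↥E ⧸ Subgroup.center ↥E) := Subgroup.mem_center_iff.mpr fun r => by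
      obtain ⟨e, rfl⟩ := QuotientGroup.mk'_surjective _ r
      have hde : d * e * d⁻¹ = (e : M) := by rw [← hdc e e.2, mul_inv_cancel_right]
      have hmem : d * e * d⁻¹ ∈ E := by rw [hde]; exact e.2
      have := hqconj d hd e hmem
      rw [show (⟨d * e * d⁻¹, hmem⟩ : ↥E) = e from Subtype.ext hde, eq_mul_inv_iff_mul_eq] at this
      exact this
    rcases (inferInstance : (Subgroup.center (↥E ⧸ Subgroup.center ↥E)).Normal).eq_bot_or_eq_top with h | h
    · exact absurd (Subgroup.mem_bot.mp (h ▸ hz)) h1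
    · exact ⟨⟨fun c d => (Subgroup.mem_center_iff.mp (h ▸ Subgroup.mem_top c) d).symm⟩⟩
  -- the element normalising `A`
  obtain ⟨g, hg⟩ := QuotientGroup.mk'_surjective (Subgroup.center ↥E) k0
  have hgA' : ∀ a ∈ A, ∃ h : a * (g : M)⁻¹ * a⁻¹ ∈ E, π (g * ⟨a * (g : M)⁻¹ * a⁻¹, h⟩) = k0 * qa a * k0⁻¹ * (qa a)⁻¹ := by
    intro a ha
    have h := (Subgroup.mem_normalizer_iff.mp (hAE ha) _).mp (inv_mem g.2)
    refine ⟨h, ?_⟩
    rw [map_mul, show (⟨a * (g : M)⁻¹ * a⁻¹, h⟩ : ↥E) = ⟨a * ((g⁻¹ : ↥E) : M) * a⁻¹, h⟩ from rfl,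
      hqconj a ha g⁻¹ h, map_inv, hg]
    group
  have hconjA : ∀ a ∈ A, (g : M) * a * (g : M)⁻¹ ∈ A ∧ (g : M) * a * (g : M)⁻¹ * a⁻¹ ∈ E := by
    intro a ha
    obtain ⟨h, hπ⟩ := hgA' a ha
    have hcE : (g : M) * a * (g : M)⁻¹ * a⁻¹ ∈ E := by
      rw [mul_assoc (g : M), mul_assoc (g : M)]
      exact mul_mem g.2 h
    have hcT : (g : M) * a * (g : M)⁻¹ * a⁻¹ ∈ (T : Subgroup M) := by
      have := hmemT (g * ⟨a * (g : M)⁻¹ * a⁻¹, h⟩) (by
        rw [hπ]; exact mul_mem (((Subgroup.mem_normalizer_iff.mp hk0 _).symm).mpr (hqT a ha)) (inv_mem (hqT a ha)))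
      rw [mul_assoc (g : M), mul_assoc (g : M)]
      exact this
    have hgaT : (g : M) * a * (g : M)⁻¹ ∈ (T : Subgroup M) := by
      have := mul_mem hcT (hA.le ha)
      rwa [inv_mul_cancel_right] at this
    exact ⟨hA.closed.2 a ha g hgaT, hcE⟩
  have hgN : (g : M) ∈ Subgroup.normalizer (A : Set M) :=
    mem_normalizer_of_maps fun a ha => (hconjA a ha).1
  -- the commutator map
  let f : A →* M :=
    { toFun := fun a => (g : M) * a * (g : M)⁻¹ * (a : M)⁻¹
      map_one' := by simp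
      map_mul' := fun a b => by
        show (g : M) * (a * b) * (g : M)⁻¹ * ((a : M) * b)⁻¹ =
          (g : M) * a * (g : M)⁻¹ * (a : M)⁻¹ * ((g : M) * b * (g : M)⁻¹ * (b : M)⁻¹)
        have h := hcomm _ (inv_mem a.2) _ (mul_mem ((hconjA b b.2).1) (inv_mem b.2))
        calc (g : M) * (a * b) * (g : M)⁻¹ * ((a : M) * b)⁻¹
            = (g : M) * a * (g : M)⁻¹ * (((g : M) * b * (g : M)⁻¹ * (b : M)⁻¹) * (a : M)⁻¹) := by group
          _ = _ := by rw [← h]; group }
  have hfA : ∀ a : A, f a ∈ A ⊓ E := fun a =>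
    ⟨A.mul_mem (hconjA a a.2).1 (A.inv_mem a.2), (hconjA a a.2).2⟩
  have hfπ : ∀ a : A, π ⟨f a, (hfA a).2⟩ = k0 * qa a * k0⁻¹ * qa a := by
    intro a
    obtain ⟨h, hπ⟩ := hgA' a a.2
    rw [inv_eq_of_mul_eq_one_left (hq2 a a.2)] at hπ
    rw [← hπ]
    congr 1
    exact Subtype.ext (by show (g : M) * a * (g : M)⁻¹ * (a : M)⁻¹ = (g : M) * ((a : M) * (g : M)⁻¹ * (a : M)⁻¹); simp only [mul_assoc])
  -- image of a product
  have hfix : ∀ x ∈ (TQ : Subgroup (↥E ⧸ Subgroup.center ↥E)), x * x = 1 → k0 * x * k0⁻¹ * x = 1 → x = 1 := by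
    intro x hx hx2 h
    have hkx : k0 * x * k0⁻¹ = x := by
      rw [mul_eq_one_iff_eq_inv] at h
      rw [h, inv_eq_of_mul_eq_one_left hx2]
    by_contra hx1
    obtain ⟨y, hy, hy1, hyx⟩ : ∃ y, (y ∈ (TQ : Subgroup (↥E ⧸ Subgroup.center ↥E)) ∧ y * y = 1) ∧ y ≠ 1 ∧ y ≠ x := by
      by_contra hcon
      push Not at hcon
      have h4 := hloc.four
      have : Nat.card {z // z ∈ (TQ : Subgroup (↥E ⧸ Subgroup.center ↥E)) ∧ z * z = 1} ≤ Nat.card Bool := by
        refine Nat.card_le_card_of_injective (fun z => decide (z.1 = 1)) fun z w hzw => Subtype.ext ?_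
        have h' := decide_eq_decide.mp hzw
        by_cases hz : z.1 = 1
        · rw [hz, h'.mp hz]
        · rw [hcon z.1 z.2 hz, hcon w.1 w.2 fun hw => hz (h'.mpr hw)]
      rw [Nat.card_eq_fintype_card (α := Bool), Fintype.card_bool] at this
      omega
    obtain ⟨i, hi⟩ := htr x hx hx2 hx1 y hy.1 hy.2 hy1
    have hcx : Commute (k0 ^ i) x := Commute.pow_left (mul_inv_eq_iff_eq_mul.mp hkx) i
    rw [hcx.eq, mul_inv_cancel_right] at hi
    exact hyx hi.symm
  set D := A ⊓ Subgroup.centralizer (E : Set M) with hD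
  set V := f.range with hV
  have hker : ∀ a : A, f a ∈ Subgroup.centralizer (E : Set M) → (a : M) ∈ D := by
    intro a hfa
    refine ⟨a.2, hq_inj a a.2 (hfix _ (hqT a a.2) (hq2 a a.2) ?_)⟩
    rw [← hfπ a]
    exact (QuotientGroup.eq_one_iff _).mpr (Subgroup.mem_center_iff.mpr fun e => Subtype.ext (hfa e e.2))
  have hfD : ∀ a : A, (a : M) ∈ Subgroup.centralizer (E : Set M) → f a = 1 := by
    intro a ha
    show (g : M) * a * (g : M)⁻¹ * (a : M)⁻¹ = 1
    rw [ha g g.2, mul_inv_cancel_right, mul_inv_cancel]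
  have hVle : V ≤ A ⊓ E := by
    rintro _ ⟨a, rfl⟩
    exact hfA a
  have hinf : D ⊓ V = ⊥ := by
    rw [eq_bot_iff]
    rintro _ ⟨hy, a, rfl⟩
    exact Subgroup.mem_bot.mpr (hfD a (hker a hy.2).2)
  have hsupp : D ⊔ V = A := by
    refine Subgroup.eq_of_le_of_card_ge (sup_le inf_le_left (hVle.trans inf_le_left)) ?_
    have hDV : Function.Injective (fun p : D × V => (p.1 : M) * p.2) := by
      intro p r h
      simp only at h
      have hm : (r.1 : M)⁻¹ * p.1 ∈ D ⊓ V := by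
        refine ⟨D.mul_mem (D.inv_mem r.1.2) p.1.2, ?_⟩
        rw [show (r.1 : M)⁻¹ * p.1 = r.2 * (p.2 : M)⁻¹ by
          rw [eq_mul_inv_iff_mul_eq, mul_assoc, h, inv_mul_cancel_left]]
        exact V.mul_mem r.2.2 (V.inv_mem p.2.2)
      rw [hinf, Subgroup.mem_bot] at hm
      have e1 : (r.1 : M) = p.1 := inv_mul_eq_one.mp hm
      rw [e1] at h
      exact Prod.ext (Subtype.ext e1.symm) (Subtype.ext (mul_left_cancel h))
    let ι : D × V → ↥(D ⊔ V) := fun p => ⟨(p.1 : M) * p.2, Subgroup.mul_mem_sup p.1.2 p.2.2⟩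
    have hιinj : Function.Injective ι := fun p r h => hDV (congrArg Subtype.val h)
    have h1 := Nat.card_le_card_of_injective ι hιinj
    rw [Nat.card_prod] at h1
    refine le_trans (le_of_eq ?_) h1
    have h2 := f.ker.card_mul_index
    rw [Subgroup.index_ker] at h2
    rw [← h2]
    congr 1
    rw [← Subgroup.card_map_of_injective (f := A.subtype) A.subtype_injective]
    congr 1
    refine congrArg _ (le_antisymm ?_ ?_)
    · rintro _ ⟨a, ha, rfl⟩
      exact hker a (by rw [MonoidHom.mem_ker.mp ha]; exact one_mem _)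
    · intro d hd
      exact ⟨⟨d, hd.1⟩, hfD ⟨d, hd.1⟩ hd.2, rfl⟩
  -- `V` covers the elements of order two of the Sylow subgroup of the quotient
  let ψ : V → {z // z ∈ (TQ : Subgroup (↥E ⧸ Subgroup.center ↥E)) ∧ z * z = 1} := fun v =>
    ⟨π ⟨v, (hVle v.2).2⟩, by
      obtain ⟨a, ha⟩ := v.2
      have e : (⟨(v : M), (hVle v.2).2⟩ : ↥E) = ⟨f a, (hfA a).2⟩ := Subtype.ext ha.symm
      rw [e]
      refine ⟨?_, ?_⟩
      · rw [hfπ]; exact mul_mem (((Subgroup.mem_normalizer_iff.mp hk0 _).symm).mpr (hqT a a.2)) (hqT a a.2)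
      · rw [← map_mul]
        exact (congrArg π (Subtype.ext (hsq _ (hfA a).1) : (⟨f a, (hfA a).2⟩ : ↥E) * ⟨f a, (hfA a).2⟩ = 1)).trans
          (map_one π)⟩
  have hψinj : Function.Injective ψ := by
    intro v w h
    have h1 : π ⟨v, (hVle v.2).2⟩ = π ⟨w, (hVle w.2).2⟩ := congrArg Subtype.val h
    have h2 : (v : M)⁻¹ * w ∈ D := by
      have hmA : (v : M)⁻¹ * w ∈ A := mul_mem (inv_mem (hVle v.2).1) (hVle w.2).1
      have hc := QuotientGroup.eq.mp h1
      exact ⟨hmA, fun e he => congrArg Subtype.val (Subgroup.mem_center_iff.mp hc ⟨e, he⟩)⟩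
    have h3 : (v : M)⁻¹ * w ∈ D ⊓ V := ⟨h2, V.mul_mem (V.inv_mem v.2) w.2⟩
    rw [hinf, Subgroup.mem_bot] at h3
    exact Subtype.ext (inv_mul_eq_one.mp h3)
  obtain ⟨a1, ha1, ha1c⟩ := SetLike.not_le_iff_exists.mp hne
  have hψsurj : Function.Surjective ψ := by
    -- the image of `V` is a non-trivial `k0`-invariant subgroup
    rintro ⟨z, hz, hz2⟩
    rcases eq_or_ne z 1 with rfl | hz1
    · exact ⟨1, Subtype.ext (map_one π)⟩
    set z0 := k0 * qa a1 * k0⁻¹ * qa a1 with hz0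
    have hz0T : z0 ∈ (TQ : Subgroup (↥E ⧸ Subgroup.center ↥E)) := mul_mem (((Subgroup.mem_normalizer_iff.mp hk0 _).symm).mpr (hqT a1 ha1)) (hqT a1 ha1)
    have hz02 : z0 * z0 = 1 := by
      have e := (ψ ⟨f ⟨a1, ha1⟩, ⟨_, rfl⟩⟩).2.2
      show z0 * z0 = 1
      rw [hz0, ← hfπ ⟨a1, ha1⟩]
      exact e
    have hz01 : z0 ≠ 1 := fun h => ha1c (hq_inj a1 ha1 (hfix _ (hqT a1 ha1) (hq2 a1 ha1) h))
    obtain ⟨i, hi⟩ := htr z0 hz0T hz02 hz01 z hz hz2 hz1
    have hvi : ∀ (i : ℕ) (v : M), v ∈ V → (g : M) ^ i * v * ((g : M) ^ i)⁻¹ ∈ V := by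
      intro i
      induction i with
      | zero => intro v hv; simpa using hv
      | succ i ih =>
        intro v hv
        have h1 : (g : M) * v * (g : M)⁻¹ ∈ V := by
          obtain ⟨a, rfl⟩ := hv
          refine ⟨⟨(g : M) * a * (g : M)⁻¹, (hconjA a a.2).1⟩, ?_⟩
          show (g : M) * ((g : M) * a * (g : M)⁻¹) * (g : M)⁻¹ * ((g : M) * a * (g : M)⁻¹)⁻¹ =
            (g : M) * ((g : M) * a * (g : M)⁻¹ * (a : M)⁻¹) * (g : M)⁻¹
          group
        have := ih _ h1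
        rw [pow_succ, _root_.mul_inv_rev]
        simpa [mul_assoc] using this
    refine ⟨⟨_, hvi i _ ⟨⟨a1, ha1⟩, rfl⟩⟩, Subtype.ext (Eq.trans ?_ hi)⟩
    rw [hz0, ← hfπ ⟨a1, ha1⟩, ← hg, ← map_pow, ← map_inv, ← map_mul, ← map_mul]
    rfl
  have hcard : Nat.card V = Nat.card {z // z ∈ (TQ : Subgroup (↥E ⧸ Subgroup.center ↥E)) ∧ z * z = 1} :=
    Nat.card_eq_of_bijective ψ ⟨hψinj, hψsurj⟩
  refine ⟨V, g, ⟨g.2, hgN, hVle, hinf, hsupp, ?_, ?_, fun a ha => ⟨⟨a, ha⟩, rfl⟩, hcard ▸ hloc.four⟩⟩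
  · rintro _ ⟨a, rfl⟩
    refine ⟨⟨(g : M) * a * (g : M)⁻¹, (hconjA a a.2).1⟩, ?_⟩
    show (g : M) * ((g : M) * a * (g : M)⁻¹) * (g : M)⁻¹ * ((g : M) * a * (g : M)⁻¹)⁻¹ =
      (g : M) * ((g : M) * a * (g : M)⁻¹ * (a : M)⁻¹) * (g : M)⁻¹
    group
  · intro v hv hv1 w hw hw1
    have hne1 : ∀ (u : M) (hu : u ∈ V), u ≠ 1 → (ψ ⟨u, hu⟩ : ↥E ⧸ Subgroup.center ↥E) ≠ 1 := fun u hu hu1 h =>
      hu1 (congrArg Subtype.val (hψinj (a₁ := ⟨u, hu⟩) (a₂ := 1) (Subtype.ext (h.trans (map_one π).symm))))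
    obtain ⟨i, hi⟩ := htr _ (ψ ⟨v, hv⟩).2.1 (ψ ⟨v, hv⟩).2.2 (hne1 v hv hv1) _ (ψ ⟨w, hw⟩).2.1
      (ψ ⟨w, hw⟩).2.2 (hne1 w hw hw1)
    have hvi : ∀ i : ℕ, (g : M) ^ i * v * ((g : M) ^ i)⁻¹ ∈ V := by
      intro i
      induction i with
      | zero => simpa using hv
      | succ i ih =>
        obtain ⟨a, ha⟩ := ih
        refine ⟨⟨(g : M) * a * (g : M)⁻¹, (hconjA a a.2).1⟩, ?_⟩
        rw [pow_succ', show (g : M) * (g : M) ^ i * v * ((g : M) * (g : M) ^ i)⁻¹ =
          (g : M) * ((g : M) ^ i * v * ((g : M) ^ i)⁻¹) * (g : M)⁻¹ by group, ← ha]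
        show (g : M) * ((g : M) * a * (g : M)⁻¹) * (g : M)⁻¹ * ((g : M) * a * (g : M)⁻¹)⁻¹ =
          (g : M) * ((g : M) * a * (g : M)⁻¹ * (a : M)⁻¹) * (g : M)⁻¹
        group
    refine ⟨i, congrArg Subtype.val (hψinj (a₁ := ⟨_, hvi i⟩) (a₂ := ⟨w, hw⟩) (Subtype.ext ?_))⟩
    refine Eq.trans ?_ hi
    rw [← hg, ← map_pow, ← map_inv]
    show _ = π (g ^ i) * π ⟨v, (hVle hv).2⟩ * π (g ^ i)⁻¹
    rw [← map_mul, ← map_mul]
    rfl

/-- A component not centralised by `A` is determined by its centraliser in `A`. -/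
theorem Ctx.component_unique (hM : Ctx M) (hA : Closed T A) {E' : Subgroup M} (hE : IsComponent E)
    (hE' : IsComponent E') (hne : ¬ A ≤ Subgroup.centralizer (E : Set M))
    (h : A ⊓ Subgroup.centralizer (E : Set M) = A ⊓ Subgroup.centralizer (E' : Set M)) : E = E' := by
  refine (components_eq_or_commute hE hE').resolve_right fun hbot => ?_
  obtain ⟨V, k, hb⟩ := hM.exists_compBlock hA hE hne
  have hle : V ≤ A ⊓ Subgroup.centralizer (E : Set M) := by
    rw [h]
    exact fun v hv => ⟨(hb.V_le hv).1, fun e he => (comm_of_commutator_eq_bot hbot (hb.V_le hv).2 he).symm⟩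
  have h4 := hb.four_le
  rw [le_bot_iff.mp (hb.disjoint ▸ le_inf hle le_rfl : V ≤ ⊥), Subgroup.card_bot] at h4
  omega

/-- An element normalising `A` and fixing the centraliser of a component in `A` normalises the component and
moves the elements of `A` by elements of the component. -/
theorem Ctx.fix_moves (hM : Ctx M) (hA : Closed T A) (hE : IsComponent E)
    (hne : ¬ A ≤ Subgroup.centralizer (E : Set M)) {x : M} (hx : x ∈ Subgroup.normalizer (A : Set M))
    (hfix : ∀ d ∈ A ⊓ Subgroup.centralizer (E : Set M), x * d = d * x) :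
    x ∈ Subgroup.normalizer (E : Set M) ∧ ∀ a ∈ A, x * a * x⁻¹ * a⁻¹ ∈ A ⊓ E := by
  obtain ⟨V, k, hb⟩ := hM.exists_compBlock hA hE hne
  have hcomm : ∀ a ∈ A, ∀ b ∈ A, a * b = b * a := fun a ha b hb =>
    congrArg Subtype.val (hA.elem.1.is_comm.comm ⟨a, ha⟩ ⟨b, hb⟩)
  have hE' : IsComponent (E.map (MulAut.conj x).toMonoidHom) := isComponent_map_equiv (MulAut.conj x) hE
  have hN : x ∈ Subgroup.normalizer (E : Set M) := by
    refine mem_normalizer_of_map_eq (hM.component_unique hA hE hE' hne ?_).symm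
    ext a
    constructor
    · intro ha
      refine ⟨ha.1, ?_⟩
      rintro _ ⟨e, he, rfl⟩
      show x * e * x⁻¹ * a = a * (x * e * x⁻¹)
      have h1 : x⁻¹ * a * x = a := by rw [mul_assoc, ← hfix a ha, inv_mul_cancel_left]
      calc x * e * x⁻¹ * a = x * (e * (x⁻¹ * a * x)) * x⁻¹ := by group
        _ = x * ((x⁻¹ * a * x) * e) * x⁻¹ := by rw [h1, ha.2 e he]
        _ = a * (x * e * x⁻¹) := by group
    · rintro ⟨ha, hac⟩
      have hb' : x⁻¹ * a * x ∈ A ⊓ Subgroup.centralizer (E : Set M) := by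
        refine ⟨(Subgroup.mem_normalizer_iff''.mp hx a).mp ha, fun e he => ?_⟩
        have h1 := hac (x * e * x⁻¹) ⟨e, he, rfl⟩
        calc e * (x⁻¹ * a * x) = x⁻¹ * (x * e * x⁻¹ * a) * x := by group
          _ = x⁻¹ * (a * (x * e * x⁻¹)) * x := by rw [h1]
          _ = x⁻¹ * a * x * e := by group
      have h2 := hfix _ hb'
      rw [← mul_assoc, ← mul_assoc, mul_inv_cancel, one_mul] at h2
      have h3 : a = x⁻¹ * a * x := mul_right_cancel h2
      rw [h3]
      exact hb'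
  refine ⟨hN, fun a ha => ⟨A.mul_mem ((Subgroup.mem_normalizer_iff.mp hx a).mp ha) (A.inv_mem ha), ?_⟩⟩
  obtain ⟨d, hd, v, hv, rfl⟩ := hb.split hcomm ha
  have e1 : x * (d * v) * x⁻¹ * (d * v)⁻¹ = x * v * x⁻¹ * v⁻¹ := by
    have h1 : x * (d * v) * x⁻¹ = d * (x * v * x⁻¹) := by
      rw [← mul_assoc x, hfix d hd]; group
    have h2 := hcomm d hd.1 _ (mul_mem ((Subgroup.mem_normalizer_iff.mp hx v).mp (hb.V_le hv).1)
      (inv_mem (hb.V_le hv).1))
    calc x * (d * v) * x⁻¹ * (d * v)⁻¹ = d * (x * v * x⁻¹ * v⁻¹) * d⁻¹ := by rw [h1]; group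
      _ = x * v * x⁻¹ * v⁻¹ := by rw [h2, mul_inv_cancel_right]
  rw [e1]
  exact E.mul_mem ((Subgroup.mem_normalizer_iff.mp hN v).mp (hb.V_le hv).2) (E.inv_mem (hb.V_le hv).2)

/-- An element of `A` is a product of an element of the layer lying in `A` and one centralising the components. -/
theorem Ctx.exists_adjust (hM : Ctx M) (hA : Closed T A) {a : M} (ha : a ∈ A) :
    ∃ u, u ∈ A ∧ u ∈ layer M ∧ ∀ E : Subgroup M, IsComponent E → a * u ∈ Subgroup.centralizer (E : Set M) := by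
  classical
  haveI := Fintype.ofFinite (Subgroup M)
  have hcomm : ∀ x ∈ A, ∀ y ∈ A, x * y = y * x := fun x hx y hy =>
    congrArg Subtype.val (hA.elem.1.is_comm.comm ⟨x, hx⟩ ⟨y, hy⟩)
  suffices h : ∀ s : Finset (Subgroup M), (∀ E ∈ s, IsComponent E) →
      ∃ u, u ∈ A ∧ u ∈ layer M ∧ ∀ E ∈ s, a * u ∈ Subgroup.centralizer (E : Set M) by
    obtain ⟨u, hu, hl, hc⟩ := h (Finset.univ.filter IsComponent) fun E hE => (Finset.mem_filter.mp hE).2
    exact ⟨u, hu, hl, fun E hE => hc E (Finset.mem_filter.mpr ⟨Finset.mem_univ _, hE⟩)⟩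
  intro s
  induction s using Finset.induction_on with
  | empty => exact fun _ => ⟨1, one_mem _, one_mem _, fun E hE => absurd hE (Finset.notMem_empty E)⟩
  | @insert E s hEs ih =>
    intro hs
    obtain ⟨u, hu, hl, hc⟩ := ih fun F hF => hs F (Finset.mem_insert_of_mem hF)
    have hE := hs E (Finset.mem_insert_self _ _)
    by_cases hcent : a * u ∈ Subgroup.centralizer (E : Set M)
    · exact ⟨u, hu, hl, fun F hF => (Finset.mem_insert.mp hF).elim (fun e => e ▸ hcent) (hc F)⟩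
    obtain ⟨V, k, hb⟩ := hM.exists_compBlock hA hE fun hle => hcent (hle (mul_mem ha hu))
    obtain ⟨d, hd, v, hv, he⟩ := hb.split hcomm (mul_mem ha hu)
    refine ⟨u * v⁻¹, mul_mem hu (inv_mem (hb.V_le hv).1), mul_mem hl (inv_mem (le_layer hE (hb.V_le hv).2)), ?_⟩
    intro F hF
    rcases Finset.mem_insert.mp hF with rfl | hFs
    · rw [← mul_assoc, ← he, mul_inv_cancel_right]
      exact hd.2
    · have hEF : ⁅E, F⁆ = ⊥ := (components_eq_or_commute hE (hs F hF)).resolve_left fun e => hEs (e ▸ hFs)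
      rw [← mul_assoc]
      refine mul_mem (hc F hFs) (inv_mem fun f hf => ?_)
      exact (comm_of_commutator_eq_bot hEF (hb.V_le hv).2 hf).symm

/-- The centraliser of the components inside `A` lies in `O₂`. -/
theorem Ctx.centralizer_layer_le (hM : Ctx M) (hA : Closed T A) {a : M} (ha : a ∈ A)
    (hc : ∀ E : Subgroup M, IsComponent E → a ∈ Subgroup.centralizer (E : Set M)) : a ∈ pCore 2 M := by
  haveI : Fact (Nat.Prime 2) := ⟨Nat.prime_two⟩
  set Q := pCore 2 M with hQ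
  haveI hQn : Q.Normal := Subgroup.sSup_normal _ (fun _ h => h.1)
  have hQT : Q ≤ (T : Subgroup M) := CfsgLib.AfterFT.CoreSep.pCore_two_le_sylow T
  have hRn : ∀ r ∈ A ⊓ Q, ∀ g : M, g * r * g⁻¹ ∈ A ⊓ Q := fun r hr g =>
    ⟨hA.closed.2 r hr.1 g (hQT (hQn.conj_mem r hr.2 g)), hQn.conj_mem r hr.2 g⟩
  set R := A ⊓ Q with hR
  haveI : R.Normal := ⟨hRn⟩
  -- the elements centralising the layer, `R` and `Q / R`
  let C1 := Subgroup.centralizer (layer M : Set M) ⊓ Subgroup.centralizer (R : Set M)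
  let K : Subgroup M := C1 ⊓
    (Subgroup.centralizer ((Q.map (QuotientGroup.mk' R) : Subgroup (M ⧸ R)) : Set (M ⧸ R))).comap (QuotientGroup.mk' R)
  haveI : (Subgroup.centralizer (layer M : Set M)).Normal := Subgroup.normal_centralizer
  haveI : (Subgroup.centralizer (R : Set M)).Normal := Subgroup.normal_centralizer
  haveI : (Q.map (QuotientGroup.mk' R)).Normal := hQn.map _ (QuotientGroup.mk'_surjective R)
  haveI : (Subgroup.centralizer ((Q.map (QuotientGroup.mk' R) : Subgroup (M ⧸ R)) : Set (M ⧸ R))).Normal :=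
    Subgroup.normal_centralizer
  haveI : K.Normal := inferInstance
  have haK : a ∈ K := by
    refine ⟨⟨?_, fun r hr => congrArg Subtype.val (hA.elem.1.is_comm.comm ⟨r, hr.1⟩ ⟨a, ha⟩)⟩, ?_⟩
    · have hle : layer M ≤ Subgroup.centralizer ({a} : Set M) := sSup_le fun E hE e he =>
        Subgroup.mem_centralizer_singleton_iff.mpr (hc E hE e he)
      exact fun y hy => Subgroup.mem_centralizer_singleton_iff.mp (hle hy)
    · rintro _ ⟨q, hq, rfl⟩
      rw [← map_mul, ← map_mul]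
      refine QuotientGroup.eq.mpr ?_
      have hTA : q⁻¹ * a * q ∈ A := by
        have h := hA.closed.2 a ha q⁻¹ (mul_mem (mul_mem (inv_mem (hQT hq)) (hA.le ha)) (inv_mem (inv_mem (hQT hq))))
        rwa [inv_inv] at h
      refine ⟨?_, ?_⟩
      · rw [_root_.mul_inv_rev]
        have := mul_mem (inv_mem ha) hTA
        have e : a⁻¹ * q⁻¹ * (a * q) = a⁻¹ * (q⁻¹ * a * q) := by group
        rwa [e]
      · rw [_root_.mul_inv_rev]
        have e : a⁻¹ * q⁻¹ * (a * q) = (a⁻¹ * q⁻¹ * (a⁻¹)⁻¹) * q := by group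
        rw [e]
        exact mul_mem (hQn.conj_mem _ (inv_mem hq) a⁻¹) hq
  have hK2 : IsPGroup 2 K := by
    intro x
    -- the square centralises `Q`
    have hsq : ((x : M) ^ 2) ∈ Subgroup.centralizer (Q : Set M) := by
      intro q hq
      have h1 := x.2.2 (QuotientGroup.mk' R q) ⟨q, hq, rfl⟩
      rw [← map_mul, ← map_mul] at h1
      have hr : (q * x)⁻¹ * ((x : M) * q) ∈ R := QuotientGroup.eq.mp h1
      set r := (q * x)⁻¹ * ((x : M) * q) with hrdef
      have e1 : (x : M) * q = q * x * r := by rw [hrdef, mul_inv_cancel_left]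
      have hxr : (x : M) * r = r * x := (x.2.1.2 r hr).symm
      have hr2 : r * r = 1 := by rw [← pow_two]; exact hA.elem.2 r hr.1
      symm
      calc (x : M) ^ 2 * q = (x : M) * ((x : M) * q) := by rw [pow_two, mul_assoc]
        _ = (x : M) * (q * x * r) := by rw [e1]
        _ = (x : M) * q * x * r := by group
        _ = q * x * r * x * r := by rw [e1]
        _ = q * x * (r * x * r) := by group
        _ = q * x * (x * (r * r)) := by rw [← hxr]; group
        _ = q * (x : M) ^ 2 := by rw [hr2, mul_one, pow_two, mul_assoc]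
    have hgf : generalizedFittingSubgroup M ≤ Subgroup.centralizer ({(x : M) ^ 2} : Set M) := by
      refine sup_le (fun e he => ?_) (fun q hq => ?_)
      · exact Subgroup.mem_centralizer_singleton_iff.mpr
          ((Commute.pow_right (show Commute e (x : M) from x.2.1.1 e he) 2).eq)
      · rw [fitting_eq_pCore Nat.prime_two hM.core] at hq
        exact Subgroup.mem_centralizer_singleton_iff.mpr (hsq q hq)
    have hmem : (x : M) ^ 2 ∈ Subgroup.centralizer (generalizedFittingSubgroup M : Set M) := fun y hy =>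
      Subgroup.mem_centralizer_singleton_iff.mp (hgf hy)
    haveI : (Subgroup.centralizer (generalizedFittingSubgroup M : Set M)).Normal := Subgroup.normal_centralizer
    have hZ : Subgroup.centralizer (generalizedFittingSubgroup M : Set M) ≤ fittingSubgroup M :=
      le_fittingSubgroup (nilpotent_of_comm fun a ha b hb => hb a (centralizer_generalizedFitting_le ha))
    have h2 := hZ hmem
    rw [fitting_eq_pCore Nat.prime_two hM.core] at h2
    obtain ⟨k, hk⟩ := isPGroup_pCore (G := M) 2 ⟨_, h2⟩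
    refine ⟨k + 1, Subtype.ext ?_⟩
    have h3 : ((x : M) ^ 2) ^ 2 ^ k = 1 := congrArg Subtype.val hk
    rw [SubmonoidClass.coe_pow, pow_succ', pow_mul, h3]
    rfl
  exact (le_sSup (show K ∈ {H : Subgroup M | H.Normal ∧ IsPGroup 2 H} from ⟨inferInstance, hK2⟩) : K ≤ pCore 2 M) haK

/-- `A` lies in the generalised Fitting subgroup. -/
theorem Ctx.closed_le_gfit (hM : Ctx M) (hA : Closed T A) : A ≤ generalizedFittingSubgroup M := by
  intro a ha
  obtain ⟨u, hu, hl, hc⟩ := hM.exists_adjust hA ha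
  have h1 := hM.centralizer_layer_le hA (mul_mem ha hu) hc
  have h2 : a * u ∈ generalizedFittingSubgroup M :=
    CfsgLib.AfterFT.CoreSep.pCore_two_le_gfit hM.core h1
  have h3 := mul_mem h2 (inv_mem (layer_le_generalized hl))
  rwa [mul_inv_cancel_right] at h3

/-- The whole group is the layer times the normaliser of `A`. -/
theorem Ctx.layer_sup_normalizer (hM : Ctx M) (hA : Closed T A) :
    layer M ⊔ Subgroup.normalizer (A : Set M) = ⊤ := by
  haveI : Fact (Nat.Prime 2) := ⟨Nat.prime_two⟩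
  set F := generalizedFittingSubgroup M with hF
  haveI hFn : F.Normal := inferInstance
  obtain ⟨P, hP⟩ := CfsgLib.CharPLocal.exists_sylow_subnormal T hFn.isSubnormal
  have hAF := hM.closed_le_gfit hA
  have hTA : (T : Subgroup M) ≤ Subgroup.normalizer (A : Set M) := fun s hs =>
    CfsgLib.Bender.TwoClosed.mem_normalizer_of_conj fun a ha =>
      hA.closed.2 a ha s (mul_mem (mul_mem hs (hA.le ha)) (inv_mem hs))
  have hN : Subgroup.normalizer (((P : Subgroup ↥F).map F.subtype : Subgroup M) : Set M) ≤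
      Subgroup.normalizer (A : Set M) := fun n hn => mem_normalizer_of_maps fun a ha => by
    have h1 : a ∈ (P : Subgroup ↥F).map F.subtype := by rw [hP]; exact ⟨hA.le ha, hAF ha⟩
    have h2 := (Subgroup.mem_normalizer_iff.mp hn a).mp h1
    rw [hP] at h2
    exact hA.closed.2 a ha n h2.1
  rw [eq_top_iff]
  refine (Sylow.normalizer_sup_eq_top P).ge.trans (sup_le (le_trans hN le_sup_right) (sup_le le_sup_left ?_))
  rw [fitting_eq_pCore Nat.prime_two hM.core]
  exact ((CfsgLib.AfterFT.CoreSep.pCore_two_le_sylow T).trans hTA).trans le_sup_right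

end CfsgLib.GoldSC
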