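import Cfsg.Agent.Lib.S3Simple.Basic
import Cfsg.Agent.Lib.S3Simple.Lift
import Cfsg.Agent.Lib.AfterFT.CoreSeparated
import Cfsg.Agent.Lib.S3Simple.Many.Balance
import Cfsg.Prelude.Def_TwoFusion

/-!
The shared hypotheses of Goldschmidt's theorem on strongly closed abelian 2-subgroups (S1169), and the facts on the
components that the case of a four-group uses.

Blueprint: `blueprint/Goldschmidt.md`.
-/

set_option autoImplicit false
set_option linter.unusedSectionVars false
set_option linter.style.haveILetI false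

namespace CfsgLib.GoldSC

open Cfsg Subgroup CfsgLib CfsgLib.Comp CfsgLib.AfterFT.CoreSep
open CfsgLib.S3Simple (Closed Irred)

universe u

local notation "PSL₂[" F "]" => Matrix.ProjectiveSpecialLinearGroup (Fin 2) F

/-- The statement proved by induction. -/
def Q (X : Type u) [Group X] [Finite X] : Prop :=
  IsSimpleGroup X → ∀ (S : Sylow 2 X) (A : Subgroup X), A ≠ ⊥ → IsMulCommutative A →
    IsStronglyClosed A (S : Subgroup X) →
      IsMulCommutative (S : Subgroup X) ∨ ∃ H : Subgroup X, IsStronglyEmbedded H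

/-- A minimal counterexample. -/
structure Hyp (G : Type u) [Group G] [Finite G] : Prop where
  simple : IsSimpleGroup G
  ih : ∀ (Y : Type u) [Group Y] [Finite Y], Nat.card Y < Nat.card G → Q Y
  nonabel : ∀ S : Sylow 2 G, ¬ IsMulCommutative (S : Subgroup G)
  noSE : ∀ H : Subgroup G, ¬ IsStronglyEmbedded H

/-- `L₂(q)`, `q ≡ 3, 5 mod 8`, `q ≥ 11`: the only listed components with cores in the involution centralisers. -/
def Big (K : Type u) [Group K] : Prop :=
  ∃ (F : Type) (_ : Field F) (_ : Fintype F),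
    (Fintype.card F % 8 = 3 ∨ Fintype.card F % 8 = 5) ∧ 11 ≤ Fintype.card F ∧ Nonempty (K ≃* PSL₂[F])

variable {G : Type u} [Group G] [Finite G]

/-- The image of `A` does not centralise `D`. -/
def Moved (A : Subgroup G) (x : G) (D : Subgroup (qq x)) : Prop :=
  ∃ a ∈ A, ∃ h : a ∈ cc x, ff x ⟨a, h⟩ ∉ centralizer (D : Set (qq x))

/-- The image of `A` in `C(x)/O`. -/
def imQ (A : Subgroup G) (x : G) : Subgroup (qq x) := (A.subgroupOf (cc x)).map (ff x)

theorem mem_imQ {A : Subgroup G} {x a : G} (ha : a ∈ A) (h : a ∈ cc x) : ff x ⟨a, h⟩ ∈ imQ A x :=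
  ⟨⟨a, h⟩, ha, rfl⟩

theorem centralizes_of_not_moved {A : Subgroup G} {x : G} {D : Subgroup (qq x)} (h : ¬ Moved A x D) :
    ∀ a ∈ A, ∀ hx : a ∈ cc x, ff x ⟨a, hx⟩ ∈ centralizer (D : Set (qq x)) := fun a ha hx => by
  by_contra hc
  exact h ⟨a, ha, hx, hc⟩

/-- The standing situation of the case `|A| = 4`, for an involution `x` centralising `A` and a component `D` at `x`
moved by `A`. -/
structure At (S : Sylow 2 G) (A : Subgroup G) (x : G) (D : Subgroup (qq x)) : Prop where
  closed : Closed S A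
  card : Nat.card A = 4
  ne : x ∉ A
  sq : x * x = 1
  le : A ≤ cc x
  comp : IsComponent D
  moved : Moved A x D

/-- What the generic part supplies to the case `|A| = 4`. -/
structure Facts (G : Type u) [Group G] [Finite G] : Prop where
  /-- no block on a four-group -/
  central : ∀ (S : Sylow 2 G) (A : Subgroup G), Closed S A → Nat.card A = 4 → ∀ a ∈ A, a ≠ 1 →
    ∀ D : Subgroup (qq a), IsComponent D → ¬ Moved A a D
  /-- `C(a) = O_a N(A)` -/
  cc_le : ∀ (S : Sylow 2 G) (A : Subgroup G), Closed S A → Nat.card A = 4 → ∀ a ∈ A, a ≠ 1 →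
    cc a ≤ centralizerPPrimeCore 2 a ⊔ (normalizer (A : Set G) ⊓ cc a)
  /-- the image of `A` lies in `D` -/
  inside : ∀ (S : Sylow 2 G) (A : Subgroup G) (x : G) (D : Subgroup (qq x)), At S A x D → imQ A x ≤ D
  /-- `D` is the only component moved by `A` -/
  unique : ∀ (S : Sylow 2 G) (A : Subgroup G) (x : G) (D D' : Subgroup (qq x)), At S A x D → At S A x D' → D = D'
  /-- an element of `D` normalises the image of `A` and fixes none of its non-identity elements -/
  turn : ∀ (S : Sylow 2 G) (A : Subgroup G) (x : G) (D : Subgroup (qq x)), At S A x D →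
    ∃ k ∈ D, k ∈ normalizer (imQ A x : Set (qq x)) ∧ ∀ v ∈ imQ A x, k * v = v * k → v = 1
  /-- an involution centralising a Sylow 2-subgroup of `D` acts on `D` as an element of the image of `A` -/
  inner : ∀ (S : Sylow 2 G) (A : Subgroup G) (x : G) (D : Subgroup (qq x)), At S A x D →
    ∀ (P : Sylow 2 ↥D) (t : qq x), t * t = 1 → t ∈ normalizer (D : Set (qq x)) →
      (∀ v ∈ imQ A x, t * v = v * t) → (∀ p : ↥D, p ∈ (P : Subgroup ↥D) → t * p = p * t) →
      ∃ v ∈ imQ A x, v * t ∈ centralizer (D : Set (qq x))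
  /-- a component with cores in the centralisers of the involutions of its automorphism group is `L₂(q)`, `q ≥ 11` -/
  coreless : ∀ (S : Sylow 2 G) (A : Subgroup G) (x : G) (D : Subgroup (qq x)), At S A x D → ¬ Big ↥D →
    ∀ c : qq x, c * c = 1 → c ∈ normalizer (D : Set (qq x)) → (∀ v ∈ imQ A x, c * v = v * c) →
      c ∉ centralizer (D : Set (qq x)) → coreC (zpowers c) ≤ centralizer (D : Set (qq x))
  /-- there a 2-element centralising the image of `A` acts on `D` as an element of it -/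
  big_inner : ∀ (S : Sylow 2 G) (A : Subgroup G) (x : G) (D : Subgroup (qq x)), At S A x D → Big ↥D →
    ∀ t : qq x, (∃ j : ℕ, t ^ 2 ^ j = 1) → (∀ v ∈ imQ A x, t * v = v * t) →
      ∃ v ∈ imQ A x, v * t ∈ centralizer (D : Set (qq x))

/-- A proper subgroup containing the centralisers of the elements of `A` gives a contradiction. -/
theorem Hyp.false_of_le (h : Hyp G) {S : Sylow 2 G} {A : Subgroup G} (hA : Closed S A) {M : Subgroup G}
    (hM : M ≠ ⊤) (hle : ∀ a ∈ A, a ≠ 1 → centralizer ({a} : Set G) ≤ M) : False := by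
  haveI := h.simple
  refine (CfsgLib.Bender.Q.strongly_closed_simple CfsgLib.Bender.Q.theoremQ S A hA.ne_bot hA.closed
    ?_).elim fun H hH => h.noSE H hH
  intro e
  refine hM (top_le_iff.mp (e ▸ iSup_le fun t => ?_))
  exact hle t t.2.1 fun e1 => by simpa [e1] using t.2.2

theorem Hyp.normalizer_ne_top (h : Hyp G) {W : Subgroup G} (h1 : W ≠ ⊥) (h2 : W ≠ ⊤) :
    normalizer (W : Set G) ≠ ⊤ := fun e => by
  haveI := h.simple
  exact (normalizer_eq_top_iff.mp e).eq_bot_or_eq_top.elim h1 h2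

theorem Hyp.eight_le (h : Hyp G) (S : Sylow 2 G) : 8 ≤ Nat.card (S : Subgroup G) := by
  haveI : Fact (Nat.Prime 2) := ⟨Nat.prime_two⟩
  obtain ⟨n, hn⟩ := IsPGroup.iff_card.mp S.2
  rw [hn]
  by_contra hlt
  have hn2 : n ≤ 2 := by
    by_contra h3
    exact hlt ((Nat.pow_le_pow_right (by norm_num) (by omega) : 2 ^ 3 ≤ 2 ^ n))
  refine h.nonabel S ?_
  interval_cases n
  · haveI : Subsingleton (S : Subgroup G) := (Nat.card_eq_one_iff_unique.mp hn).1
    exact ⟨⟨fun a b => Subsingleton.elim _ _⟩⟩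
  · haveI : IsCyclic (S : Subgroup G) := isCyclic_of_prime_card (p := 2) hn
    exact ⟨⟨fun a b => IsCyclic.commGroup.mul_comm a b⟩⟩
  · exact ⟨⟨(IsPGroup.commGroupOfCardEqPrimeSq (p := 2) hn).mul_comm⟩⟩

/-- Cores contained in a subgroup `W` of odd order, which is normalised by `N(A)`, are impossible. -/
theorem Facts.false_of_normalizer (F : Facts G) (h : Hyp G) {S : Sylow 2 G} {A : Subgroup G} (hA : Closed S A)
    (h4 : Nat.card A = 4) {M : Subgroup G} (hM : M ≠ ⊤) (hAM : A ≤ M)
    (hOM : ∀ a ∈ A, a ≠ 1 → centralizerPPrimeCore 2 a ≤ M) : False := by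
  haveI := h.simple
  set K : Subgroup G := A ⊔ ⨆ a : {a : G // a ∈ A ∧ a ≠ 1}, centralizerPPrimeCore 2 (a : G) with hK
  have hKM : K ≤ M := sup_le hAM (iSup_le fun a => hOM a a.2.1 a.2.2)
  have hK1 : K ≠ ⊥ := fun e => hA.ne_bot (le_bot_iff.mp (e ▸ le_sup_left))
  have hK2 : K ≠ ⊤ := fun e => hM (top_le_iff.mp (e ▸ hKM))
  refine h.false_of_le hA (h.normalizer_ne_top hK1 hK2) fun a ha ha1 =>
    ((F.cc_le S A hA h4 a ha ha1).trans (sup_le_sup_left inf_le_left _)).trans ?_
  have hO : centralizerPPrimeCore 2 a ≤ K :=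
    (le_iSup (fun a : {a : G // a ∈ A ∧ a ≠ 1} => centralizerPPrimeCore 2 (a : G)) ⟨a, ha, ha1⟩).trans le_sup_right
  refine sup_le (hO.trans le_normalizer) fun g hg => mem_normalizer_of_maps fun x hx => ?_
  have hle : K ≤ K.comap (MulAut.conj g).toMonoidHom := by
    refine sup_le (fun y hy => mem_sup_left ((mem_normalizer_iff.mp hg y).mp hy)) (iSup_le fun b y hy => ?_)
    refine mem_sup_right (le_iSup (fun a : {a : G // a ∈ A ∧ a ≠ 1} => centralizerPPrimeCore 2 (a : G))
      ⟨g * b * g⁻¹, (mem_normalizer_iff.mp hg _).mp b.2.1, fun e => b.2.2 (conj_eq_one_iff.mp e)⟩ ?_)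
    exact CfsgLib.SolvSF.conj_mem_centralizerPPrimeCore g b hy
  exact hle hx

end CfsgLib.GoldSC
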