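import Cfsg.Agent.Lib.GoldSC.Ctx
import Cfsg.Agent.Lib.Comp.CoreBalance
import Cfsg.Agent.Lib.AfterFT.CoreSeparated

/-!
The actions of the involutions centralising a strongly closed subgroup on a component that it moves.

Blueprint: `blueprint/Goldschmidt.md`, A1.
-/

set_option autoImplicit false
set_option linter.unusedSectionVars false
set_option linter.style.haveILetI false

namespace CfsgLib.GoldSC

open Cfsg Subgroup CfsgLib CfsgLib.Comp CfsgLib.AfterFT.CoreSep
open CfsgLib.S3Simple (Closed actQ actQ_apply centralizes_of_actQ component_isSimple component_not_comm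
  mem_normalizer_of_map_eq)

universe u

variable {M : Type u} [Group M] [Finite M] {T : Sylow 2 M} {A E F : Subgroup M}

/-- The centre of a component lies in `O₂`. -/
theorem Ctx.center_le_pCore (hM : Ctx M) (hE : IsComponent E) : (center ↥E).map E.subtype ≤ pCore 2 M := by
  haveI : Fact (Nat.Prime 2) := ⟨Nat.prime_two⟩
  haveI : Group.IsNilpotent ((center ↥E).map E.subtype : Subgroup M) := nilpotent_of_comm (by
    rintro _ ⟨a, ha, rfl⟩ _ ⟨b, -, rfl⟩
    exact congrArg Subtype.val ((mem_center_iff.mp ha b).symm))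
  have hsn : ((center ↥E).map E.subtype : Subgroup M).IsSubnormal :=
    (inferInstance : (center ↥E).Normal).isSubnormal.trans' hE.1
  have h := isSubnormal_nilpotent_le_fitting hsn inferInstance
  rwa [fitting_eq_pCore Nat.prime_two hM.core] at h

/-- An element of `A` acts on a component it moves as an element of `A` in the component. -/
theorem Ctx.exists_inner_part (hM : Ctx M) (hA : Closed T A) (hE : IsComponent E)
    (hne : ¬ A ≤ centralizer (E : Set M)) {a : M} (ha : a ∈ A) : ∃ v ∈ A ⊓ E, v * a ∈ centralizer (E : Set M) := by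
  obtain ⟨V, k, hb⟩ := hM.exists_compBlock hA hE hne
  obtain ⟨d, hd, v, hv, rfl⟩ := hb.split (fun x hx y hy => hA.comm hx hy) ha
  refine ⟨v, hb.V_le hv, ?_⟩
  rw [hA.comm hd.1 (hb.V_le hv).1, ← mul_assoc, hA.sq (hb.V_le hv).1, one_mul]
  exact hd.2

/-- Two components moved by `A` need `|A| ≥ 16`. -/
theorem Ctx.card_of_two (hM : Ctx M) (hA : Closed T A) (hE : IsComponent E) (hF : IsComponent F)
    (hneE : ¬ A ≤ centralizer (E : Set M)) (hneF : ¬ A ≤ centralizer (F : Set M)) (hEF : E ≠ F) :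
    16 ≤ Nat.card A := by
  obtain ⟨V, k, hb⟩ := hM.exists_compBlock hA hE hneE
  obtain ⟨W, l, hc⟩ := hM.exists_compBlock hA hF hneF
  have hWC : W ≤ A ⊓ centralizer (E : Set M) := fun w hw => ⟨(hc.V_le hw).1, fun e he =>
    comm_of_commutator_eq_bot ((components_eq_or_commute hE hF).resolve_left hEF) he (hc.V_le hw).2⟩
  have hd : W ⊓ V = ⊥ := le_bot_iff.mp fun x hx => hb.disjoint.le ⟨hWC hx.1, hx.2⟩
  have h16 : 4 * 4 ≤ Nat.card W * Nat.card V := Nat.mul_le_mul hc.four_le hb.four_le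
  rw [← Nat.card_prod] at h16
  refine le_trans h16 (Nat.card_le_card_of_injective
    (fun p : W × V => (⟨(p.1 : M) * p.2, A.mul_mem (hc.V_le p.1.2).1 (hb.V_le p.2.2).1⟩ : A)) fun p r hpr => ?_)
  have h' : (p.1 : M) * p.2 = r.1 * r.2 := congrArg Subtype.val hpr
  have hm : (r.1 : M)⁻¹ * p.1 ∈ W ⊓ V := by
    refine ⟨W.mul_mem (W.inv_mem r.1.2) p.1.2, ?_⟩
    rw [show (r.1 : M)⁻¹ * p.1 = r.2 * (p.2 : M)⁻¹ by
      rw [eq_mul_inv_iff_mul_eq, mul_assoc, h', inv_mul_cancel_left]]
    exact V.mul_mem r.2.2 (V.inv_mem p.2.2)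
  rw [hd, mem_bot] at hm
  have e1 : (r.1 : M) = p.1 := inv_mul_eq_one.mp hm
  rw [e1] at h'
  exact Prod.ext (Subtype.ext e1.symm) (Subtype.ext (mul_left_cancel h'))

/-- The elements of order two of the Sylow subgroup of the quotient come from `A` in the component. -/
theorem Ctx.exists_lift_sq (hM : Ctx M) (hA : Closed T A) (hE : IsComponent E)
    (hne : ¬ A ≤ centralizer (E : Set M)) {P : Sylow 2 ↥E}
    (hP : (P : Subgroup ↥E).map E.subtype = (T : Subgroup M) ⊓ E) {x : ↥E ⧸ center ↥E}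
    (hx : x ∈ (P : Subgroup ↥E).map (QuotientGroup.mk' (center ↥E))) (hx2 : x * x = 1) :
    ∃ e : ↥E, (e : M) ∈ A ∧ QuotientGroup.mk' (center ↥E) e = x := by
  haveI : Fact (Nat.Prime 2) := ⟨Nat.prime_two⟩
  haveI := component_isSimple hE
  rcases eq_or_ne x 1 with rfl | hx1
  · exact ⟨1, A.one_mem, map_one _⟩
  obtain ⟨k, -, htr⟩ := ((hM.comp_listed hA hE hne).loc (P.mapSurjective (QuotientGroup.mk'_surjective _))).trans
  obtain ⟨e₀, he₀, he₀c⟩ := hM.exists_inside hA hE hne
  have hcl := hM.image_closed hA hE hP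
  obtain ⟨i, hi⟩ := htr _ (hcl.1 ⟨e₀, he₀, rfl⟩)
    (by rw [← map_mul, show e₀ * e₀ = 1 from Subtype.ext (hA.sq he₀), map_one])
    (fun h => he₀c ((QuotientGroup.eq_one_iff _).mp h)) x hx hx2 hx1
  obtain ⟨e, he, hee⟩ := hcl.2 _ ⟨e₀, he₀, rfl⟩ (k ^ i) (by rw [hi]; exact hx)
  exact ⟨e, he, hee.trans hi⟩

/-- Elements acting alike on the simple quotient differ by an element centralising the component. -/
theorem mul_mem_centralizer_of_actQ (hE : IsComponent E) {c : M} (hc : c ∈ normalizer (E : Set M)) (e : ↥E)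
    (he : e * e = 1) (h : actQ E ⟨c, hc⟩ = MulAut.conj (QuotientGroup.mk' (center ↥E) e)) :
    (e : M) * c ∈ centralizer (E : Set M) := by
  refine centralizes_of_actQ hE (mul_mem (le_normalizer e.2) hc) ?_
  rw [show (⟨(e : M) * c, mul_mem (le_normalizer e.2) hc⟩ : normalizer (E : Set M)) =
    ⟨e, le_normalizer e.2⟩ * ⟨c, hc⟩ from rfl, map_mul, h]
  refine MulEquiv.ext fun r => ?_
  obtain ⟨d, rfl⟩ := QuotientGroup.mk'_surjective _ r
  rw [MulAut.mul_apply, MulAut.conj_apply, MulAut.one_apply, ← map_inv, ← map_mul, ← map_mul, actQ_apply]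
  refine congrArg _ (Subtype.ext ?_)
  show (e : M) * ((e : M) * d * (e : M)⁻¹) * (e : M)⁻¹ = d
  have hee : (e : M) * e = 1 := congrArg Subtype.val he
  rw [inv_eq_of_mul_eq_one_right hee, ← mul_assoc, ← mul_assoc, hee, one_mul, mul_assoc, hee, mul_one]

/-- Conversely. -/
theorem actQ_eq_conj_of_centralizes {c : M} (hc : c ∈ normalizer (E : Set M)) (e : ↥E) (he : e * e = 1)
    (h : (e : M) * c ∈ centralizer (E : Set M)) :
    actQ E ⟨c, hc⟩ = MulAut.conj (QuotientGroup.mk' (center ↥E) e) := by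
  refine MulEquiv.ext fun r => ?_
  obtain ⟨d, rfl⟩ := QuotientGroup.mk'_surjective _ r
  rw [actQ_apply, MulAut.conj_apply, ← map_inv, ← map_mul, ← map_mul]
  refine congrArg _ (Subtype.ext ?_)
  show c * d * c⁻¹ = (e : M) * d * (e : M)⁻¹
  have hee : (e : M)⁻¹ = e := inv_eq_of_mul_eq_one_right (congrArg Subtype.val he)
  have h1 : (d : M) * ((e : M) * c) = (e : M) * c * d := h d d.2
  calc c * d * c⁻¹ = (e : M)⁻¹ * ((e : M) * c * d) * c⁻¹ := by group
    _ = (e : M)⁻¹ * d * e := by rw [← h1]; group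
    _ = _ := by rw [hee]

/-- `O(C(c))` centralises the component when `c` acts on it as an element of `A` inside it. -/
theorem Ctx.core_centralizes (hM : Ctx M) (hA : Closed T A) (hE : IsComponent E)
    (hne : ¬ A ≤ centralizer (E : Set M)) (hb : ¬ Big (↥E ⧸ center ↥E)) {c : M} (hc2 : c * c = 1)
    (hcA : ∀ a ∈ A, c * a = a * c) {v : M} (hv : v ∈ A ⊓ E) (hvc : v * c ∈ centralizer (E : Set M))
    (hcE : c ∉ centralizer (E : Set M)) : coreC (zpowers c) ≤ centralizer (E : Set M) := by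
  classical
  haveI : Fact (Nat.Prime 2) := ⟨Nat.prime_two⟩
  haveI := component_isSimple hE
  set K := ↥E ⧸ center ↥E with hK
  set π := QuotientGroup.mk' (center ↥E) with hπ
  obtain ⟨P, hP⟩ := CfsgLib.CharPLocal.exists_sylow_subnormal T hE.1
  let TQ : Sylow 2 K := P.mapSurjective (QuotientGroup.mk'_surjective _)
  set ve : ↥E := ⟨v, hv.2⟩ with hve
  have hve2 : ve * ve = 1 := Subtype.ext (hA.sq hv.1)
  have hvT : π ve ∈ (TQ : Subgroup K) := (hM.image_closed hA hE hP).1 ⟨ve, hv.1, rfl⟩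
  have hinj := conj_injective (K := K) (component_not_comm hE)
  have hcN : c ∈ normalizer (E : Set M) := by
    have := mul_mem (inv_mem (le_normalizer hv.2 : v ∈ normalizer (E : Set M))) (centralizer_le_normalizer' _ hvc)
    rwa [inv_mul_cancel_left] at this
  have hact := actQ_eq_conj_of_centralizes hcN ve hve2 hvc
  have hve1 : π ve ≠ 1 := fun h1 => hcE (centralizes_of_actQ hE hcN (by rw [hact, h1, map_one]))
  -- the 2-group of `c` and the part of `A` in the centre
  set Z : Subgroup M := A ⊓ (center ↥E).map E.subtype with hZ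
  set R : Subgroup M := zpowers c ⊔ Z with hR
  have hcZ : zpowers c ≤ normalizer (Z : Set M) := zpowers_le.mpr (mem_normalizer_of_maps fun z hz => by
    rw [hcA z hz.1, mul_inv_cancel_right]; exact hz)
  have hRp : IsPGroup 2 R := (zpowers_two hc2).to_sup_of_normal_right' (hA.isPGroup.to_le inf_le_left) hcZ
  have hcR : c ∈ R := mem_sup_left (mem_zpowers c)
  have hWc : coreC (zpowers c) ≤ coreC R := by
    have hW : coreC (zpowers c) ≤ centralizer (R : Set M) := by
      rw [le_centralizer_iff]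
      refine sup_le (le_centralizer_iff.mp (coreC_centralizes _)) fun z hz => ?_
      exact fun w hw => (coreC_centralizes_pCore hM.core (zpowers_two hc2) hw z
        (hM.center_le_pCore hE hz.2)).symm
    have hn : centralizer (R : Set M) ≤ normalizer (coreC (zpowers c) : Set M) :=
      le_trans (centralizer_le (SetLike.coe_subset_coe.mpr (zpowers_le.mpr hcR)))
        (centralizer_le_normalizer_coreC _)
    haveI : ((coreC (zpowers c)).subgroupOf (centralizer (R : Set M))).Normal :=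
      (normal_subgroupOf_iff_le_normalizer hW).mpr hn
    have hco : Nat.Coprime (Nat.card ((coreC (zpowers c)).subgroupOf (centralizer (R : Set M)))) 2 := by
      rw [Nat.coprime_two_right, Nat.card_congr (subgroupOfEquivOfLe hW).toEquiv]
      exact odd_card_coreC _
    rw [← map_subgroupOf_eq_of_le hW]
    exact map_mono (CfsgLib.le_pPrimeCore hco)
  refine hWc.trans ?_
  have hN : coreC R ≤ normalizer (E : Set M) := coreC_normalizes hM.core hRp hE
  let ψ : ↥(coreC R) →* MulAut K := (actQ E).comp (inclusion hN)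
  have hodd : Odd (Nat.card ψ.range) := (odd_card_coreC R).of_dvd_nat (card_range_dvd ψ)
  have h0 : ψ.range = ⊥ := by
    refine ((hM.comp_listed hA hE hne).loc TQ).core hb (π ve) hvT (by rw [← map_mul, hve2, map_one]) hve1 _ hodd
      ?_ ?_
    · rintro _ ⟨w, rfl⟩
      refine hinj ?_
      have e : MulAut.conj (ψ w (π ve)) = ψ w * MulAut.conj (π ve) * (ψ w)⁻¹ := by
        ext r
        simp
      rw [e, ← hact]
      have hwc : Commute (inclusion hN w) (⟨c, hcN⟩ : normalizer (E : Set M)) :=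
        Subtype.ext (coreC_centralizes R w.2 c hcR).symm
      have := (hwc.map (actQ E)).eq
      show actQ E (inclusion hN w) * actQ E ⟨c, hcN⟩ * (actQ E (inclusion hN w))⁻¹ = _
      rw [this, mul_inv_cancel_right]
    · rintro q hq _ ⟨w, rfl⟩
      obtain ⟨e, rfl⟩ := QuotientGroup.mk'_surjective _ q
      -- the defect of `e` lies in `A` and in the centre
      set z : ↥E := (ve : ↥E)⁻¹ * (e * ve * e⁻¹) with hz
      have hzc : z ∈ center ↥E := (QuotientGroup.eq_one_iff z).mp (by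
        show π z = 1
        rw [hz, map_mul, map_mul, map_mul, map_inv, map_inv, hq, mul_inv_cancel_right, inv_mul_cancel])
      have hzT : (z : M) ∈ (T : Subgroup M) := hM.center_le_sylow T hE (mem_map_of_mem _ hzc)
      have hevA : (e : M) * v * (e : M)⁻¹ ∈ A := hA.closed.2 v hv.1 e (by
        have h1 : (e : M) * v * (e : M)⁻¹ = v * z :=
          show (e : M) * v * (e : M)⁻¹ = v * (v⁻¹ * ((e : M) * v * (e : M)⁻¹)) by group
        rw [h1]; exact mul_mem (hA.le hv.1) hzT)
      have hzZ : (z : M) ∈ Z := ⟨show v⁻¹ * ((e : M) * v * (e : M)⁻¹) ∈ A from mul_mem (inv_mem hv.1) hevA,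
        mem_map_of_mem _ hzc⟩
      have heZ : ∀ y ∈ Z, (e : M) * y * (e : M)⁻¹ = y := by
        rintro _ ⟨-, y, hy, rfl⟩
        have := congrArg Subtype.val (mem_center_iff.mp hy e)
        show (e : M) * (y : M) * (e : M)⁻¹ = y
        rw [show (e : M) * (y : M) = (y : M) * e from this, mul_inv_cancel_right]
      have hec : (e : M) * c * (e : M)⁻¹ ∈ R := by
        have hvv : v⁻¹ = v := inv_eq_of_mul_eq_one_right (hA.sq hv.1)
        have h1 : (e : M) * c * (e : M)⁻¹ = (e : M) * v * (e : M)⁻¹ * (v * c) := by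
          calc (e : M) * c * (e : M)⁻¹ = (e : M) * v⁻¹ * (v * c) * (e : M)⁻¹ := by group
            _ = (e : M) * v * ((v * c) * (e : M)⁻¹) := by rw [hvv]; group
            _ = (e : M) * v * ((e : M)⁻¹ * (v * c)) := by rw [hvc _ (inv_mem e.2)]
            _ = _ := by group
        have hzc' : (z : M) * (v * c) = v * c * z := hvc _ z.2
        have h2 : (e : M) * v * (e : M)⁻¹ = v * z :=
          show (e : M) * v * (e : M)⁻¹ = v * (v⁻¹ * ((e : M) * v * (e : M)⁻¹)) by group
        rw [h1, h2, mul_assoc, hzc', ← mul_assoc, ← mul_assoc, hA.sq hv.1, one_mul]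
        exact mul_mem hcR (mem_sup_right hzZ)
      have heR : (e : M) ∈ normalizer (R : Set M) := mem_normalizer_of_maps fun y hy => by
        have hle : R ≤ R.comap (MulAut.conj (e : M)).toMonoidHom := sup_le (zpowers_le.mpr hec) fun y hy => by
          show (e : M) * y * (e : M)⁻¹ ∈ R
          rw [heZ y hy]
          exact mem_sup_right hy
        exact hle hy
      have hn := (mem_normalizer_iff.mp (normalizer_le_normalizer_coreC R heR) w).mp w.2
      refine ⟨⟨(e : M) * w * (e : M)⁻¹, hn⟩, ?_⟩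
      have hπe : actQ E ⟨e, le_normalizer e.2⟩ = MulAut.conj (π e) := by
        refine MulEquiv.ext fun r => ?_
        obtain ⟨d, rfl⟩ := QuotientGroup.mk'_surjective _ r
        rw [actQ_apply, MulAut.conj_apply, ← map_inv, ← map_mul, ← map_mul]
        rfl
      show actQ E (inclusion hN ⟨(e : M) * w * (e : M)⁻¹, hn⟩) = _
      rw [show inclusion hN ⟨(e : M) * w * (e : M)⁻¹, hn⟩ =
        (⟨e, le_normalizer e.2⟩ : normalizer (E : Set M)) * inclusion hN w * ⟨e, le_normalizer e.2⟩⁻¹ from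
          Subtype.ext rfl, map_mul, map_mul, map_inv, hπe]
      rfl
  exact fun w hw => centralizes_of_actQ hE (hN hw) (mem_bot.mp (h0 ▸ ⟨⟨w, hw⟩, rfl⟩ : ψ ⟨w, hw⟩ ∈ (⊥ : Subgroup _)))

/-- `O(C(c))` centralises the component, for an involution `c` centralising `A`. -/
theorem Ctx.coreless (hM : Ctx M) (hA : Closed T A) (hE : IsComponent E) (hne : ¬ A ≤ centralizer (E : Set M))
    (hb : ¬ Big (↥E ⧸ center ↥E)) {c : M} (hc2 : c * c = 1) (hcN : c ∈ normalizer (E : Set M))
    (hcA : ∀ a ∈ A, c * a = a * c) (hcE : c ∉ centralizer (E : Set M)) :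
    coreC (zpowers c) ≤ centralizer (E : Set M) := by
  classical
  haveI : Fact (Nat.Prime 2) := ⟨Nat.prime_two⟩
  haveI := component_isSimple hE
  set K := ↥E ⧸ center ↥E with hK
  set π := QuotientGroup.mk' (center ↥E) with hπ
  obtain ⟨P, hP⟩ := CfsgLib.CharPLocal.exists_sylow_subnormal T hE.1
  let TQ : Sylow 2 K := P.mapSurjective (QuotientGroup.mk'_surjective _)
  set φ := actQ E ⟨c, hcN⟩ with hφ
  have hφ2 : φ * φ = 1 := by
    rw [hφ, ← map_mul, show (⟨c, hcN⟩ : normalizer (E : Set M)) * ⟨c, hcN⟩ = 1 from Subtype.ext hc2, map_one]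
  have hfix : ∀ x ∈ (TQ : Subgroup K), x * x = 1 → φ x = x := fun x hx hx2 => by
    obtain ⟨e, he, rfl⟩ := hM.exists_lift_sq hA hE hne hP hx hx2
    rw [hφ, actQ_apply]
    exact congrArg π (Subtype.ext (show c * (e : M) * c⁻¹ = e by rw [hcA _ he, mul_inv_cancel_right]))
  by_cases hin : ∃ q ∈ (TQ : Subgroup K), φ = MulAut.conj q
  · obtain ⟨q, hq, hφq⟩ := hin
    have hq2 : q * q = 1 := conj_injective (K := K) (component_not_comm hE) (by rw [map_mul, ← hφq, hφ2, map_one])
    obtain ⟨e, he, rfl⟩ := hM.exists_lift_sq hA hE hne hP hq hq2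
    exact hM.core_centralizes hA hE hne hb hc2 hcA (v := (e : M)) ⟨he, e.2⟩
      (mul_mem_centralizer_of_actQ hE hcN e (Subtype.ext (hA.sq he)) hφq) hcE
  push Not at hin
  have hcp := zpowers_two hc2
  have hN : coreC (zpowers c) ≤ normalizer (E : Set M) := coreC_normalizes hM.core hcp hE
  let ψ : ↥(coreC (zpowers c)) →* MulAut K := (actQ E).comp (inclusion hN)
  have hodd : Odd (Nat.card ψ.range) := (odd_card_coreC _).of_dvd_nat (card_range_dvd ψ)
  have h0 : ψ.range = ⊥ := by
    refine ((hM.comp_listed hA hE hne).loc TQ).outer hb φ hφ2 hfix hin _ hodd ?_ ?_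
    · rintro _ ⟨w, rfl⟩
      have hwc : Commute (⟨c, hcN⟩ : normalizer (E : Set M)) (inclusion hN w) :=
        Subtype.ext (coreC_centralizes _ w.2 c (mem_zpowers c))
      exact (hwc.map (actQ E)).eq
    · rintro q hq hq2 _ ⟨w, rfl⟩
      obtain ⟨e, he, rfl⟩ := hM.exists_lift_sq hA hE hne hP hq hq2
      have heC : (e : M) ∈ centralizer (zpowers c : Set M) := by
        rw [CfsgLib.CharPLocal.centralizer_zpowers, mem_centralizer_singleton_iff]
        exact (hcA _ he).symm
      have hn := (mem_normalizer_iff.mp (centralizer_le_normalizer_coreC _ heC) w).mp w.2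
      refine ⟨⟨(e : M) * w * (e : M)⁻¹, hn⟩, ?_⟩
      have hπe : actQ E ⟨e, le_normalizer e.2⟩ = MulAut.conj (π e) := by
        refine MulEquiv.ext fun r => ?_
        obtain ⟨d, rfl⟩ := QuotientGroup.mk'_surjective _ r
        rw [actQ_apply, MulAut.conj_apply, ← map_inv, ← map_mul, ← map_mul]
        rfl
      show actQ E (inclusion hN ⟨(e : M) * w * (e : M)⁻¹, hn⟩) = _
      rw [show inclusion hN ⟨(e : M) * w * (e : M)⁻¹, hn⟩ =
        (⟨e, le_normalizer e.2⟩ : normalizer (E : Set M)) * inclusion hN w * ⟨e, le_normalizer e.2⟩⁻¹ from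
          Subtype.ext rfl, map_mul, map_mul, map_inv, hπe]
      rfl
  exact fun w hw => centralizes_of_actQ hE (hN hw) (mem_bot.mp (h0 ▸ ⟨⟨w, hw⟩, rfl⟩ : ψ ⟨w, hw⟩ ∈ (⊥ : Subgroup _)))

/-- An involution centralising a Sylow subgroup of the component and `A` acts as an element of `A` inside it. -/
theorem Ctx.inner_of_sylow (hM : Ctx M) (hA : Closed T A) (hE : IsComponent E)
    (hne : ¬ A ≤ centralizer (E : Set M)) (R : Sylow 2 ↥E) {t : M} (ht2 : t * t = 1)
    (htN : t ∈ normalizer (E : Set M)) (htA : ∀ a ∈ A, t * a = a * t)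
    (htR : ∀ p : ↥E, p ∈ (R : Subgroup ↥E) → t * p = p * t) :
    ∃ v ∈ A ⊓ E, v * t ∈ centralizer (E : Set M) := by
  classical
  haveI : Fact (Nat.Prime 2) := ⟨Nat.prime_two⟩
  haveI := component_isSimple hE
  set K := ↥E ⧸ center ↥E with hK
  set π := QuotientGroup.mk' (center ↥E) with hπ
  have hl := hM.comp_listed hA hE hne
  set φ := actQ E ⟨t, htN⟩ with hφ
  have hφ2 : φ * φ = 1 := by
    rw [hφ, ← map_mul, show (⟨t, htN⟩ : normalizer (E : Set M)) * ⟨t, htN⟩ = 1 from Subtype.ext ht2, map_one]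
  let RQ : Sylow 2 K := R.mapSurjective (QuotientGroup.mk'_surjective _)
  have hfix : ∀ x ∈ (RQ : Subgroup K), φ x = x := by
    rintro _ ⟨p, hp, rfl⟩
    rw [hφ, actQ_apply]
    exact congrArg π (Subtype.ext (show t * (p : M) * t⁻¹ = p by rw [htR p hp, mul_inv_cancel_right]))
  obtain ⟨q, -, hφq⟩ := (hl.loc RQ).inner φ hφ2 (fun x hx _ => hfix x hx)
    fun x hx => by rw [hfix x hx, mul_inv_cancel]; exact ⟨one_mem _, mul_one 1⟩
  have hinj := conj_injective (K := K) (component_not_comm hE)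
  have hq2 : q * q = 1 := hinj (by rw [map_mul, ← hφq, hφ2, map_one])
  -- `q` lies with the elements of order two of `TQ` in one Sylow subgroup
  obtain ⟨P, hP⟩ := CfsgLib.CharPLocal.exists_sylow_subnormal T hE.1
  let TQ : Sylow 2 K := P.mapSurjective (QuotientGroup.mk'_surjective _)
  have hqV : ∀ x ∈ (TQ : Subgroup K), x * x = 1 → q * x = x * q := fun x hx hx2 => by
    obtain ⟨e, he, rfl⟩ := hM.exists_lift_sq hA hE hne hP hx hx2
    have h1 : φ (π e) = π e := by
      rw [hφ, actQ_apply]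
      exact congrArg π (Subtype.ext (show t * (e : M) * t⁻¹ = e by rw [htA _ he, mul_inv_cancel_right]))
    rwa [hφq, MulAut.conj_apply, mul_inv_eq_iff_eq_mul] at h1
  let V : Subgroup K :=
    { carrier := {x | x ∈ (TQ : Subgroup K) ∧ x * x = 1}
      one_mem' := ⟨one_mem _, mul_one 1⟩
      mul_mem' := fun {x y} hx hy => ⟨mul_mem hx.1 hy.1, by
        rw [mul_assoc, ← mul_assoc y x y, (hl.loc TQ).central y hy.1 hy.2 x hx.1, mul_assoc x y y, hy.2, mul_one, hx.2]⟩
      inv_mem' := fun {x} hx => ⟨inv_mem hx.1, by rw [← _root_.mul_inv_rev, hx.2, inv_one]⟩ }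
  have hV2 : IsPGroup 2 (zpowers q ⊔ V : Subgroup K) := by
    refine (zpowers_two hq2).to_sup_of_normal_right' (TQ.2.to_le fun x hx => hx.1)
      (zpowers_le.mpr (mem_normalizer_of_maps fun x hx => ?_))
    rw [hqV x hx.1 hx.2, mul_inv_cancel_right]
    exact hx
  obtain ⟨R', hR'⟩ := hV2.exists_le_sylow
  obtain ⟨g, hg⟩ := MulAction.exists_smul_eq K TQ R'
  let j : {x : K // x ∈ (TQ : Subgroup K) ∧ x * x = 1} → {x : K // x ∈ (R' : Subgroup K) ∧ x * x = 1} :=
    fun x => ⟨x.1, hR' (mem_sup_right x.2), x.2.2⟩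
  have hcard : Nat.card {x : K // x ∈ (R' : Subgroup K) ∧ x * x = 1} =
      Nat.card {x : K // x ∈ (TQ : Subgroup K) ∧ x * x = 1} := by
    refine (Nat.card_congr ((MulAut.conj g).toEquiv.subtypeEquiv fun x => ?_)).symm
    show _ ↔ MulAut.conj g x ∈ (R' : Subgroup K) ∧ MulAut.conj g x * MulAut.conj g x = 1
    rw [← map_mul, map_eq_one_iff _ (MulAut.conj g).injective, ← hg, Sylow.coe_subgroup_smul]
    exact and_congr_left fun _ => (smul_mem_pointwise_smul_iff (a := MulAut.conj g)).symm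
  have hbij : Function.Bijective j := by
    refine (Nat.bijective_iff_injective_and_card j).mpr ⟨fun x y h => Subtype.ext (congrArg Subtype.val h :), hcard.symm⟩
  obtain ⟨⟨x, hx, hx2⟩, hjx⟩ := hbij.2 ⟨q, hR' (mem_sup_left (mem_zpowers q)), hq2⟩
  have hxq : x = q := congrArg Subtype.val hjx
  obtain ⟨e, he, hee⟩ := hM.exists_lift_sq hA hE hne hP (hxq ▸ hx) hq2
  exact ⟨e, ⟨he, e.2⟩, mul_mem_centralizer_of_actQ hE htN e (Subtype.ext (hA.sq he)) (by rw [hee]; exact hφq)⟩

/-- In the big case a 2-element centralising `A` acts as an element of `A` inside the component. -/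
theorem Ctx.big_inner (hM : Ctx M) (hA : Closed T A) (hE : IsComponent E)
    (hne : ¬ A ≤ centralizer (E : Set M)) (hb : Big (↥E ⧸ center ↥E)) {t : M} {j : ℕ} (htj : t ^ 2 ^ j = 1)
    (htN : t ∈ normalizer (E : Set M)) (htA : ∀ a ∈ A, t * a = a * t) :
    ∃ v ∈ A ⊓ E, v * t ∈ centralizer (E : Set M) := by
  classical
  haveI : Fact (Nat.Prime 2) := ⟨Nat.prime_two⟩
  haveI := component_isSimple hE
  obtain ⟨P, hP⟩ := CfsgLib.CharPLocal.exists_sylow_subnormal T hE.1
  let TQ : Sylow 2 (↥E ⧸ center ↥E) := P.mapSurjective (QuotientGroup.mk'_surjective _)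
  have hg : WalterAb.Good TQ := by
    obtain ⟨F, i1, i2, hq, h11, e⟩ := hb
    exact WalterAb.Listed.good (Or.inl ⟨F, i1, i2, Or.inl ⟨hq, by omega⟩, e⟩) TQ
  set φ := actQ E ⟨t, htN⟩ with hφ
  obtain ⟨q, hq, hφq⟩ := hg.inner φ j (by
    rw [hφ, ← map_pow, show (⟨t, htN⟩ : normalizer (E : Set M)) ^ 2 ^ j = 1 from Subtype.ext htj, map_one])
    fun x hx => by
      obtain ⟨e, he, rfl⟩ := hM.exists_lift_sq hA hE hne hP hx (hg.selfCent.sq x hx)
      rw [hφ, actQ_apply]
      exact congrArg _ (Subtype.ext (show t * (e : M) * t⁻¹ = e by rw [htA _ he, mul_inv_cancel_right]))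
  obtain ⟨e, he, rfl⟩ := hM.exists_lift_sq hA hE hne hP hq (hg.selfCent.sq q hq)
  exact ⟨e, ⟨he, e.2⟩, mul_mem_centralizer_of_actQ hE htN e (Subtype.ext (hA.sq he)) hφq⟩

end CfsgLib.GoldSC
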