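import Cfsg.Agent.Lib.GoldSC.Blocks
import Cfsg.Agent.Lib.GoldSC.Inner
import Cfsg.Agent.Lib.Walter.Ab.Ctx

/-!
The facts on the components that the case of a four-group uses.

Blueprint: `blueprint/Goldschmidt.md`, A.
-/

set_option autoImplicit false
set_option linter.unusedSectionVars false
set_option linter.style.haveILetI false

namespace CfsgLib.GoldSC

open Cfsg Subgroup CfsgLib CfsgLib.Comp CfsgLib.AfterFT.CoreSep
open CfsgLib.S3Simple (Closed imA mem_imA component_isSimple component_not_comm)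

universe u

local notation "PSL₂[" F "]" => Matrix.ProjectiveSpecialLinearGroup (Fin 2) F

section General

variable {M : Type u} [Group M] [Finite M] {T : Sylow 2 M} {A E : Subgroup M}

/-- A component moved by `A` whose quotient has Sylow subgroups of exponent two has trivial centre. -/
theorem Ctx.center_eq_bot_of_sq (hM : Ctx M) (hA : Closed T A) (hE : IsComponent E)
    (hne : ¬ A ≤ centralizer (E : Set M))
    (hsq : ∀ R : Sylow 2 (↥E ⧸ center ↥E), ∀ x ∈ (R : Subgroup (↥E ⧸ center ↥E)), x * x = 1) :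
    center ↥E = ⊥ := by
  haveI : Fact (Nat.Prime 2) := ⟨Nat.prime_two⟩
  obtain ⟨P, hP⟩ := CfsgLib.CharPLocal.exists_sylow_subnormal T hE.1
  have hdec : ∀ x ∈ (P : Subgroup ↥E), ∃ e z : ↥E, (e : M) ∈ A ∧ z ∈ center ↥E ∧ x = e * z := by
    intro x hx
    obtain ⟨e, he, hee⟩ := hM.exists_lift_sq hA hE hne hP (mem_map_of_mem _ hx)
      (hsq (P.mapSurjective (QuotientGroup.mk'_surjective _)) _ (mem_map_of_mem _ hx))
    exact ⟨e, e⁻¹ * x, he, QuotientGroup.eq.mp hee, (mul_inv_cancel_left e x).symm⟩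
  have hcomm : IsMulCommutative (P : Subgroup ↥E) := ⟨⟨fun a b => by
    obtain ⟨e, z, he, hz, ha⟩ := hdec a a.2
    obtain ⟨f, w, hf, hw, hb⟩ := hdec b b.2
    refine Subtype.ext ?_
    show (a : ↥E) * b = b * a
    rw [ha, hb]
    have h1 : Commute e f := Subtype.ext (hA.comm he hf)
    have h2 : ∀ y, Commute z y := fun y => (mem_center_iff.mp hz y).symm
    have h3 : ∀ y, Commute w y := fun y => (mem_center_iff.mp hw y).symm
    exact ((h1.mul_right (h3 e).symm).mul_left ((h2 f).mul_right (h2 w)))⟩⟩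
  refine (eq_bot_iff_forall _).mpr fun z hz => ?_
  obtain ⟨y, hy, e⟩ : (z : M) ∈ (P : Subgroup ↥E).map E.subtype := by
    rw [hP]
    exact ⟨hM.center_le_sylow T hE (mem_map_of_mem E.subtype hz), z.2⟩
  refine WalterAb.central_sylow_trivial ?_ P hcomm hz ((E.subtype_injective e) ▸ hy)
  exact WalterAb.component_perfect hE

/-- `Big` for a component and for its simple quotient. -/
theorem Ctx.big_iff (hM : Ctx M) (hA : Closed T A) (hE : IsComponent E) (hne : ¬ A ≤ centralizer (E : Set M)) :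
    Big ↥E ↔ Big (↥E ⧸ center ↥E) := by
  haveI : Fact (Nat.Prime 2) := ⟨Nat.prime_two⟩
  constructor
  · intro hb
    obtain ⟨F, i1, i2, hq, h11, ⟨e⟩⟩ := id hb
    haveI := Matrix.ProjectiveSpecialLinearGroup.rank_two_simple (F := F) (by rw [Nat.card_eq_fintype_card]; omega)
    haveI : IsSimpleGroup ↥E := e.isSimpleGroup
    have hz : center ↥E = ⊥ := by
      refine (IsSimpleGroup.eq_bot_or_eq_top_of_normal _ inferInstance).resolve_right fun h => ?_
      refine isQuasisimple_not_isSolvable hE.2 (Group.isSolvable_of_comm fun a b => ?_)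
      exact (mem_center_iff.mp (h ▸ mem_top a) b).symm
    exact hb.congr ((QuotientGroup.quotientMulEquivOfEq hz).trans QuotientGroup.quotientBot).symm
  · intro hb
    haveI := component_isSimple hE
    have hz : center ↥E = ⊥ := by
      refine hM.center_eq_bot_of_sq hA hE hne fun R x hx => ?_
      obtain ⟨F, i1, i2, hq, h11, e⟩ := hb
      exact (WalterAb.Listed.good (Or.inl ⟨F, i1, i2, Or.inl ⟨hq, by omega⟩, e⟩) R).selfCent.sq x hx
    exact hb.congr ((QuotientGroup.quotientMulEquivOfEq hz).trans QuotientGroup.quotientBot)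

open Classical in
/-- A four-group moving a component lies in it, and some element of the component turns it. -/
theorem Ctx.four_inside (hM : Ctx M) (hA : Closed T A) (h4 : Nat.card A = 4) (hE : IsComponent E)
    (hne : ¬ A ≤ centralizer (E : Set M)) :
    A ≤ E ∧ (∀ v ∈ A, v ∈ centralizer (E : Set M) → v = 1) ∧
      ∃ k ∈ E, k ∈ normalizer (A : Set M) ∧ ∀ v ∈ A, k * v = v * k → v = 1 := by
  obtain ⟨V, k, hb⟩ := hM.exists_compBlock hA hE hne
  have hVA : V = A := eq_of_le_of_card_ge (fun v hv => (hb.V_le hv).1) (by rw [h4]; exact hb.four_le)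
  have hAE : A ≤ E := fun a ha => (hb.V_le (hVA.symm ▸ ha)).2
  refine ⟨hAE, fun v hv hc => mem_bot.mp (hb.disjoint.le ⟨⟨hv, hc⟩, hVA.symm ▸ hv⟩), k, hb.k_mem, hb.k_norm,
    fun v hv hkv => ?_⟩
  by_contra hv1
  obtain ⟨w, hw, hw1, hwv⟩ : ∃ w ∈ A, w ≠ 1 ∧ w ≠ v := by
    by_contra! hcon
    have : Nat.card A ≤ Nat.card Bool := by
      refine Nat.card_le_card_of_injective (fun z : A => decide ((z : M) = 1)) fun p r hpr => Subtype.ext ?_
      have h' := decide_eq_decide.mp hpr
      by_cases hp : (p : M) = 1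
      · rw [hp, h'.mp hp]
      · rw [hcon p p.2 hp, hcon r r.2 fun hr => hp (h'.mpr hr)]
    rw [h4, Nat.card_eq_fintype_card (α := Bool), Fintype.card_bool] at this
    omega
  obtain ⟨i, hi⟩ := hb.trans v (hVA.symm ▸ hv) hv1 w (hVA.symm ▸ hw) hw1
  rw [((show Commute k v from hkv).pow_left i).eq, mul_inv_cancel_right] at hi
  exact hwv hi.symm

end General

variable {G : Type u} [Group G] [Finite G] {S : Sylow 2 G} {A : Subgroup G}

theorem card_imQ (hA : Closed S A) {x : G} (hle : A ≤ cc x) : Nat.card (imQ A x) = Nat.card A := by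
  refine (Nat.card_eq_of_bijective (fun a : A => (⟨ff x ⟨a, hle a.2⟩, mem_imQ a.2 (hle a.2)⟩ : imQ A x))
    ⟨fun a b h => ?_, fun v => ?_⟩).symm
  · refine Subtype.ext (inv_mul_eq_one.mp (hA.ff_inj (mul_mem (inv_mem a.2) b.2)
      (hle (mul_mem (inv_mem a.2) b.2)) ?_))
    rw [show (⟨(a : G)⁻¹ * b, hle (mul_mem (inv_mem a.2) b.2)⟩ : ↥(cc x)) =
      (⟨(a : G), hle a.2⟩ : ↥(cc x))⁻¹ * ⟨(b : G), hle b.2⟩ from rfl, map_mul, map_inv,
      show ff x ⟨(a : G), hle a.2⟩ = ff x ⟨(b : G), hle b.2⟩ from congrArg Subtype.val h, inv_mul_cancel]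
  · obtain ⟨_, ⟨a, hax⟩, ha, rfl⟩ := v
    exact ⟨⟨a, ha⟩, rfl⟩

theorem not_le_of_moved {x : G} {D : Subgroup (qq x)} (hm : Moved A x D) :
    ¬ imQ A x ≤ centralizer (D : Set (qq x)) := fun hle => by
  obtain ⟨a, ha, h, hc⟩ := hm
  exact hc (hle (mem_imQ ha h))

/-- Two components at an element centralising a four-group `A`, both moved by it, are equal. -/
theorem Hyp.moved_unique (h : Hyp G) (hA : Closed S A) (h4 : Nat.card A = 4) {x : G} (hx : x ≠ 1) (hle : A ≤ cc x)
    {D D' : Subgroup (qq x)} (hD : IsComponent D) (hD' : IsComponent D') (hm : Moved A x D) (hm' : Moved A x D') :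
    D = D' := by
  obtain ⟨T, hT⟩ := imA_closed_at hA hle
  by_contra hne
  have h16 := (h.ctx hx).card_of_two hT hD hD' (not_le_of_moved hm) (not_le_of_moved hm') hne
  have := card_imQ hA hle
  rw [show imA A x = imQ A x from rfl, this, h4] at h16
  omega

theorem At.x_ne {x : G} {D : Subgroup (qq x)} (hAt : At S A x D) : x ≠ 1 := fun e => hAt.ne (by rw [e]; exact A.one_mem)

/-- The facts. -/
theorem facts (h : Hyp G) : Facts G where
  central S A hA h4 a ha ha1 D hD hm := by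
    obtain ⟨T, hT⟩ := hA.imA_closed ha
    have hc : ff a ⟨a, hA.mem_cc ha ha⟩ ∈ centralizer (D : Set (qq a)) :=
      ((CfsgLib.S3Simple.mem_blockD (hA.mem_cc ha ha)).mp (CfsgLib.S3Simple.self_mem_blockD ha D)).2
    refine ha1 (hA.ff_inj ha (hA.mem_cc ha ha) ?_)
    exact ((h.ctx ha1).four_inside hT ((card_imQ hA (hA.le_cc ha)).trans h4) hD (not_le_of_moved hm)).2.1 _
      (mem_imA ha _) hc
  cc_le S A hA h4 a ha ha1 := fun x hx => by
    have hcen : ∀ E : Subgroup (qq a), IsComponent E → imA A a ≤ centralizer (E : Set (qq a)) := by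
      intro E hE
      by_contra hne
      obtain ⟨T, hT⟩ := hA.imA_closed ha
      have hc : ff a ⟨a, hA.mem_cc ha ha⟩ ∈ centralizer (E : Set (qq a)) :=
        ((CfsgLib.S3Simple.mem_blockD (hA.mem_cc ha ha)).mp (CfsgLib.S3Simple.self_mem_blockD ha E)).2
      refine ha1 (hA.ff_inj ha (hA.mem_cc ha ha) ?_)
      exact ((h.ctx ha1).four_inside hT ((card_imQ hA (hA.le_cc ha)).trans h4) hE hne).2.1 _ (mem_imA ha _) hc
    obtain ⟨o, ho, n, hn, rfl⟩ := h.cc_le_of_central hA ha ha1 hcen hx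
    exact Subgroup.mul_mem_sup ho hn
  inside S A x D hAt := by
    obtain ⟨T, hT⟩ := imA_closed_at hAt.closed hAt.le
    exact ((h.ctx hAt.x_ne).four_inside hT
      ((card_imQ hAt.closed hAt.le).trans hAt.card) hAt.comp (not_le_of_moved hAt.moved)).1
  unique S A x D D' hAt hAt' :=
    h.moved_unique hAt.closed hAt.card (hAt.x_ne) hAt.le hAt.comp hAt'.comp hAt.moved hAt'.moved
  turn S A x D hAt := by
    obtain ⟨T, hT⟩ := imA_closed_at hAt.closed hAt.le
    exact ((h.ctx hAt.x_ne).four_inside hT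
      ((card_imQ hAt.closed hAt.le).trans hAt.card) hAt.comp (not_le_of_moved hAt.moved)).2.2
  inner S A x D hAt P t ht2 htN htA htP := by
    obtain ⟨T, hT⟩ := imA_closed_at hAt.closed hAt.le
    obtain ⟨v, hv, hvc⟩ := (h.ctx hAt.x_ne).inner_of_sylow hT hAt.comp
      (not_le_of_moved hAt.moved) P ht2 htN htA htP
    exact ⟨v, hv.1, hvc⟩
  coreless S A x D hAt hb c hc2 hcN hcA hcE := by
    obtain ⟨T, hT⟩ := imA_closed_at hAt.closed hAt.le
    have hM := h.ctx (x := x) hAt.x_ne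
    exact hM.coreless hT hAt.comp (not_le_of_moved hAt.moved)
      (fun h' => hb ((hM.big_iff hT hAt.comp (not_le_of_moved hAt.moved)).mpr h')) hc2 hcN hcA hcE
  big_inner S A x D hAt hb t := by
    rintro ⟨j, htj⟩ htA
    obtain ⟨T, hT⟩ := imA_closed_at hAt.closed hAt.le
    have hx : x ≠ 1 := hAt.x_ne
    have hM := h.ctx hx
    have hm := not_le_of_moved hAt.moved
    have htN : t ∈ normalizer (D : Set (qq x)) := by
      refine CfsgLib.S3Simple.mem_normalizer_of_map_eq ?_
      obtain ⟨a, ha, hac, hne⟩ := hAt.moved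
      refine (h.moved_unique hAt.closed hAt.card hx hAt.le hAt.comp
        (isComponent_map_equiv (MulAut.conj t) hAt.comp) hAt.moved ⟨a, ha, hac, fun hc => hne fun e he => ?_⟩).symm
      have h1 := hc (t * e * t⁻¹) ⟨e, he, rfl⟩
      have h2 : t * ff x ⟨a, hac⟩ = ff x ⟨a, hac⟩ * t := htA _ (mem_imQ ha hac)
      calc e * ff x ⟨a, hac⟩ = t⁻¹ * (t * e * t⁻¹ * (t * ff x ⟨a, hac⟩)) := by group
        _ = t⁻¹ * (t * e * t⁻¹ * ff x ⟨a, hac⟩ * t) := by rw [h2]; group
        _ = t⁻¹ * (ff x ⟨a, hac⟩ * (t * e * t⁻¹) * t) := by rw [h1]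
        _ = t⁻¹ * (ff x ⟨a, hac⟩ * t) * e := by group
        _ = t⁻¹ * (t * ff x ⟨a, hac⟩) * e := by rw [h2]
        _ = _ := by group
    obtain ⟨v, hv, hvc⟩ := hM.big_inner hT hAt.comp hm ((hM.big_iff hT hAt.comp hm).mp hb) htj htN htA
    exact ⟨v, hv.1, hvc⟩

end CfsgLib.GoldSC
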