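import Cfsg.Agent.Lib.GoldSC.W
import Cfsg.Agent.Lib.S3Simple.Many.KBlock

/-!
The perfect group over a minimal block when `W` is trivial.

Blueprint: `blueprint/Goldschmidt.md`, E (port of `Lib/Walter/Ab/KK`).
-/

set_option autoImplicit false
set_option linter.unusedSectionVars false
set_option linter.style.haveILetI false

namespace CfsgLib.GoldSC

open Cfsg Subgroup CfsgLib CfsgLib.Comp CfsgLib.AfterFT.CoreSep CfsgLib.Signalizer
open scoped commutatorElement
open CfsgLib.S3Simple (Closed Blocked IsBlock blockD mem_blockD blockD_le imA mem_imA oddSolv KK KK_le KK_perfect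
  KK_image exists_perfect_map perfect_le_of_sup)
open CfsgLib.S3Simple.Many (gen)

universe u

variable {G : Type u} [Group G] [Finite G] {S : Sylow 2 G} {A D D' : Subgroup G}

/-- The preimage of a subgroup of `C(d)` modulo core. -/
def preim (d : G) (E : Subgroup (qq d)) : Subgroup G := (E.comap (ff d)).map (cc d).subtype

theorem mem_preim {d x : G} (hx : x ∈ cc d) {E : Subgroup (qq d)} : x ∈ preim d E ↔ ff d ⟨x, hx⟩ ∈ E := by
  constructor
  · rintro ⟨y, hy, e⟩
    have : y = ⟨x, hx⟩ := Subtype.ext e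
    exact this ▸ hy
  · intro h
    exact ⟨⟨x, hx⟩, h, rfl⟩

theorem preim_le_cc (d : G) (E : Subgroup (qq d)) : preim d E ≤ cc d := map_subtype_le _

/-- The perfect group over a minimal block covers its component. -/
theorem Hyp.exists_cover_KK (h : Hyp G) (hA : Closed S A) (hD : MinBlk A D) {d : G} (hd : d ∈ D) (hd1 : d ≠ 1)
    {E : Subgroup (qq d)} (hE : IsComponent E) (hb : blockD A d E = D) :
    ∃ P ≤ KK A D, P ≤ cc d ∧ (P.subgroupOf (cc d)).map (ff d) = E := by
  subst hb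
  have hdA : d ∈ A := blockD_le d E hd
  obtain ⟨P, hP, hPD, hPd, hPE⟩ := exists_cover hA hdA hE (blockD_le d E)
    fun x hx hxc => ((mem_blockD hxc).mp hx).2
  refine ⟨P, le_sSup ⟨hPD, hP, fun d' hd' hd'1 E' hE' hb' => ?_⟩, hPd, hPE⟩
  obtain ⟨E'', hE'', hb'', himg⟩ := hD.lift h hA hdA hd1 hE rfl hd' hd'1
  rw [h.component_eq hA (blockD_le d E hd') hd'1 hE' hE'' (by rw [hb']; exact hD.1.1) (hb'.trans hb''.symm)]
  exact himg P hP hPD hPE.le

theorem Hyp.KK_ne_bot (h : Hyp G) (hA : Closed S A) (hD : MinBlk A D) : KK A D ≠ ⊥ := fun e => by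
  obtain ⟨d, hd, hd1⟩ := D.bot_or_exists_ne_one.resolve_left hD.1.ne_bot
  obtain ⟨E, hE, hb⟩ := hD.exists_at h hA hd hd1
  obtain ⟨P, hP, -, hPE⟩ := h.exists_cover_KK hA hD hd hd1 hE hb
  have hP1 : P = ⊥ := le_bot_iff.mp (e ▸ hP)
  refine component_not_le_of_isSolvable hE (N := (⊥ : Subgroup (qq d))) inferInstance (le_of_eq ?_)
  rw [← hPE, hP1, bot_subgroupOf, Subgroup.map_bot]

/-- Equivariance. -/
theorem Hyp.conj_mem_KK (h : Hyp G) (hA : Closed S A) (hD : MinBlk A D) {g : G}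
    (hg : g ∈ normalizer (A : Set G)) {x : G} (hx : x ∈ KK A D) :
    g * x * g⁻¹ ∈ KK A (D.map (MulAut.conj g).toMonoidHom) := by
  set D1 := D.map (MulAut.conj g).toMonoidHom with hD1
  have hmap : ∀ P, CfsgLib.S3Simple.Good A D P → CfsgLib.S3Simple.Good A D1 (P.map (MulAut.conj g).toMonoidHom) := by
    intro P hP
    refine ⟨?_, by rw [← map_commutator, hP.2.1], ?_⟩
    · rintro _ ⟨y, hy, rfl⟩ _ ⟨d, hd, rfl⟩
      show MulAut.conj g d * MulAut.conj g y = MulAut.conj g y * MulAut.conj g d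
      rw [← map_mul, ← map_mul, hP.1 hy d hd]
    · intro d' hd'
      obtain ⟨d, hd, hdd⟩ := hd'
      replace hdd : g * d * g⁻¹ = d' := hdd
      subst hdd
      intro hd1 E' hE' hb'
      have hd1' : d ≠ 1 := fun e => hd1 (by rw [e, mul_one, mul_inv_cancel])
      obtain ⟨E, hE, hb⟩ := hD.exists_at h hA hd hd1'
      obtain ⟨E1, hE1, hb1, himg⟩ := CfsgLib.S3Simple.conj_component hA hg (hD.1.le hd) hE
      have he : E' = E1 := h.component_eq hA ((mem_normalizer_iff.mp hg d).mp (hD.1.le hd)) hd1 hE' hE1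
        (by rw [hb']; exact (hD.1.conj hA hg).1) (hb'.trans (by rw [hb1, hb]))
      rw [he]
      rintro _ ⟨z, ⟨y, hy, hyz⟩, rfl⟩
      have hyc : y ∈ cc d := CfsgLib.S3Simple.centralizer_le_cc hd (hP.1 hy)
      have hmem : g * y * g⁻¹ ∈ cc (g * d * g⁻¹) := by
        have hz := z.2
        rw [← show (MulAut.conj g).toMonoidHom y = (z : G) from hyz] at hz
        exact hz
      have := himg y hyc (hP.2.2 d hd hd1' E hE hb ⟨_, hy, rfl⟩) hmem
      rwa [show (⟨g * y * g⁻¹, hmem⟩ : ↥(cc (g * d * g⁻¹))) = z from Subtype.ext hyz] at this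
  have hle : (KK A D).map (MulAut.conj g).toMonoidHom ≤ KK A D1 := by
    rw [map_le_iff_le_comap]
    refine sSup_le fun P hP => ?_
    rw [← map_le_iff_le_comap]
    exact le_sSup (hmap P hP)
  exact hle ⟨x, hx, rfl⟩

/-- Every component at an element of `A` is centralised by `d` or by `v`. -/
def Sep (A : Subgroup G) (d v : G) : Prop :=
  ∀ b ∈ A, b ≠ 1 → ∀ F : Subgroup (qq b), IsComponent F → blockD A b F ≠ A →
    d ∈ blockD A b F ∨ v ∈ blockD A b F

/-- An element of `A` over the component at `d`, outside its centraliser, with this property. -/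
def SepAt (A : Subgroup G) (d : G) (E : Subgroup (qq d)) : Prop :=
  ∃ v ∈ A, v ∉ blockD A d E ∧ (∀ hv : v ∈ cc d, ff d ⟨v, hv⟩ ∈ E) ∧ Sep A d v

/-- With `W` trivial, such an element centralises `O(C(d))`. -/
theorem Hyp.core_le_centralizer_sep (h : Hyp G) (hA : Closed S A) (h16 : 16 ≤ Nat.card A) (hW : gen 2 A = ⊥)
    {d : G} (hd : d ∈ A) {v : G} (hvA : v ∈ A) (hsep : Sep A d v) :
    centralizerPPrimeCore 2 d ≤ centralizer ({v} : Set G) := by
  haveI : Fact (Nat.Prime 2) := ⟨Nat.prime_two⟩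
  have hodd : ¬ 2 ∣ Nat.card (centralizerPPrimeCore 2 d) := fun h2 =>
    Nat.not_odd_iff_even.mpr (even_iff_two_dvd.mpr h2) (odd_card_core d)
  rw [gen_index hA.elem hodd (fun x hx => cc_le_normalizer_core d (hA.mem_cc hd hx))]
  refine iSup_le fun ⟨H, hH, hHi⟩ x hx => ?_
  obtain ⟨hxO, hxH⟩ : x ∈ centralizerPPrimeCore 2 d ∧ x ∈ centralizer (H : Set G) := hx
  rw [mem_centralizer_singleton_iff]
  refine Eq.symm ?_
  by_cases hdH : d ∈ H
  swap
  · exact CfsgLib.S3Simple.mem_centralizer_of_hyperplane hH hHi hd hdH hxH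
      (AfterFT.CoreSep.mem_cc.mp ((map_subtype_le _) hxO)).symm v hvA
  have hxK : x ∈ coreC H := CfsgLib.S3Simple.core_inf_centralizer_le hdH ⟨hxO, hxH⟩
  have hvH : v ∈ centralizer (H : Set G) := fun y hy => hA.comm (hH hy) hvA
  set c : G := ⁅x, v⁆ with hc
  have hvN := cc_le_normalizer_core d (hA.mem_cc hd hvA)
  have hcO : c ∈ centralizerPPrimeCore 2 d := by
    rw [hc, commutatorElement_def, show x * v * x⁻¹ * v⁻¹ = x * (v * x⁻¹ * v⁻¹) by group]
    exact mul_mem hxO ((mem_normalizer_iff.mp hvN _).mp (inv_mem hxO))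
  have hcC : c ∈ centralizer (H : Set G) := by
    rw [hc, commutatorElement_def]
    exact Subgroup.mul_mem _ (Subgroup.mul_mem _ (Subgroup.mul_mem _ hxH hvH) (inv_mem hxH)) (inv_mem hvH)
  have hcK : c ∈ coreC H := CfsgLib.S3Simple.core_inf_centralizer_le hdH ⟨hcO, hcC⟩
  suffices hcore : ∀ y ∈ H, y ≠ 1 → c ∈ centralizerPPrimeCore 2 y by
    obtain ⟨B, hB, hBk⟩ := KFunctor.exists_sub (k := 3) hA.elem hH (by
      have := h16.trans (CfsgLib.S3Simple.card_le_two_mul hH hHi)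
      norm_num
      omega)
    have h1 : c ∈ gen 2 A := le_iSup
      (fun D : {D : Subgroup G // D ≤ A ∧ Nat.card ↥D = 2 ^ (2 + 1)} => signalizerDelta 2 (D : Subgroup G))
      ⟨B, hB.trans hH, hBk⟩ (KFunctor.mem_delta.2 fun y hy hy1 => hcore y (hB hy) hy1)
    rw [hW, mem_bot] at h1
    exact (commutatorElement_eq_one_iff_mul_comm.mp h1).symm
  intro y hy hy1
  have hyA := hH hy
  have hHy : H ≤ cc y := fun z hz => hA.mem_cc hyA (hH hz)
  have hxy : x ∈ cc y := AfterFT.CoreSep.mem_cc.mpr (hxH y hy).symm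
  have hcy : c ∈ cc y := AfterFT.CoreSep.mem_cc.mpr (hcC y hy).symm
  set R : Subgroup (qq y) := (H.subgroupOf (cc y)).map (ff y) with hR
  have hRp : IsPGroup 2 R :=
    ((hA.isPGroup.to_le hH).of_equiv (subgroupOfEquivOfLe hHy).symm).map _
  have hO : pPrimeCore 2 (qq y) = ⊥ := pPrimeCore_quotient_eq_bot 2
  have hxR : ff y ⟨x, hxy⟩ ∈ coreC R := image_coreC hHy (hA.isPGroup.to_le hH) ⟨x, hxy⟩ hxK
  have hcR : ff y ⟨c, hcy⟩ ∈ coreC R := image_coreC hHy (hA.isPGroup.to_le hH) ⟨c, hcy⟩ hcK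
  refine mem_core_of_bar (w := ⟨c, hcy⟩) (eq_one_of_centralizes hO
    (odd_orderOf_map _ (by rw [Subgroup.orderOf_mk]; exact CfsgLib.S3Simple.odd_order_coreC hcK)) (fun F hF => ?_)
    (coreC_centralizes_pCore hO hRp hcR))
  by_cases hcen : R ≤ centralizer (F : Set (qq y))
  · exact CfsgLib.AfterFT.CoreSep.coreC_centralizes_component oddSolv hO hRp hF
      (le_centralizer_iff.mp hcen) hcR
  have hne : blockD A y F ≠ A := fun e0 => hcen fun z ⟨w, hw, hwz⟩ =>
    hwz ▸ ((mem_blockD w.2).mp (e0.symm ▸ hH hw)).2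
  rcases hsep y hyA hy1 F hF hne with hdF | hVF
  · exact CfsgLib.S3Simple.core_centralizes_component (hA.mem_cc hyA hd) (hA.sq hd) hcO hcy hF
      ((mem_blockD (hA.mem_cc hyA hd)).mp hdF).2
  · have hvy : v ∈ cc y := hA.mem_cc hyA hvA
    rw [show (⟨c, hcy⟩ : ↥(cc y)) = ⁅(⟨x, hxy⟩ : ↥(cc y)), (⟨v, hvy⟩ : ↥(cc y))⁆ from Subtype.ext rfl,
      map_commutatorElement]
    exact comm_mem_centralizer (coreC_normalizes hO hRp hF hxR) ((mem_blockD hvy).mp hVF).2

/-- With `W` trivial the perfect group over a minimal block is the largest perfect subgroup over the component, and it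
centralises `O(C(d))`. -/
theorem Hyp.KK_eq (h : Hyp G) (hA : Closed S A) (h16 : 16 ≤ Nat.card A) (hW : gen 2 A = ⊥) (hD : MinBlk A D)
    {d : G} (hd : d ∈ D) (hd1 : d ≠ 1) {E : Subgroup (qq d)} (hE : IsComponent E) (hb : blockD A d E = D)
    (hsep : SepAt A d E) :
    KK A D = pres (preim d E) ∧ KK A D ≤ centralizer (centralizerPPrimeCore 2 d : Set G) := by
  haveI : Fact (Nat.Prime 2) := ⟨Nat.prime_two⟩
  have hdA : d ∈ A := hD.1.le hd
  set O := centralizerPPrimeCore 2 d with hOdef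
  set U := pres (preim d E) with hU
  obtain ⟨v, hvA, hvD, hvE', hsv⟩ := hsep
  -- a perfect cover centralising `O`
  set R : Subgroup ↥(cc d) := (centralizer (O : Set G)).subgroupOf (cc d) ⊓ E.comap (ff d) with hR
  have hRE : R.map (ff d) = E := by
    set I := R.map (ff d) with hI
    have hle : I ≤ E := (map_mono inf_le_right).trans (map_comap_le _ _)
    haveI : (I.subgroupOf E).Normal := (normal_subgroupOf_iff hle).mpr (by
      intro i e hi he
      obtain ⟨x, hx, rfl⟩ := hi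
      obtain ⟨g, rfl⟩ := bar_surjective 2 e
      refine ⟨g * x * g⁻¹, ⟨?_, ?_⟩, by rw [map_mul, map_mul, map_inv]⟩
      · exact conj_mem_centralizer (cc_le_normalizer_core d g.2) hx.1
      · show ff d (g * x * g⁻¹) ∈ E
        rw [map_mul, map_mul, map_inv]
        exact mul_mem (mul_mem he hx.2) (inv_mem he))
    have hvc := hA.mem_cc hdA hvA
    have hvE := hvE' hvc
    have hmem : ff d ⟨v, hvc⟩ ∈ I :=
      ⟨⟨v, hvc⟩, ⟨fun z hz => mem_centralizer_singleton_iff.mp
        (h.core_le_centralizer_sep hA h16 hW hdA hvA hsv hz), hvE⟩, rfl⟩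
    have h1 : (⟨_, hvE⟩ : ↥E) ∈ I.subgroupOf E := hmem
    refine le_antisymm hle (subgroupOf_eq_top.mp
      ((quasisimple_normal_le_center_or_eq_top hE.2 (I.subgroupOf E)).resolve_left fun hbot => hvD ?_))
    exact (mem_blockD hvc).mpr ⟨hvA, fun e he => congrArg Subtype.val (mem_center_iff.mp (hbot h1) ⟨e, he⟩)⟩
  obtain ⟨Q, hQR, hQQ, hQm⟩ := exists_perfect_map (ff d) R (by rw [hRE]; exact isComponent_commutator_self hE)
  set Q' := Q.map (cc d).subtype with hQ'
  have hQO : Q' ≤ centralizer (O : Set G) := by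
    rintro _ ⟨x, hx, rfl⟩
    exact (hQR hx).1
  have hUQ : U ≤ Q' := by
    haveI : Group.IsSolvable O := oddSolv _ (odd_card_core d)
    refine perfect_le_of_sup (pres_perfect _) (fun u hu => ?_)
      ((le_centralizer_iff.mp hQO).trans (centralizer_le_normalizer' Q')) (N := O)
    obtain ⟨y, hy, rfl⟩ := pres_le (preim d E) hu
    obtain ⟨q, hq, hqe⟩ := hQm.symm.le (hRE.symm ▸ (hy : ff d y ∈ E))
    have hm : q⁻¹ * y ∈ pPrimeCore 2 ↥(cc d) := QuotientGroup.eq.mp hqe
    have := Subgroup.mul_mem_sup (show (q : G) ∈ Q' from mem_map_of_mem _ hq)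
      (show ((q⁻¹ * y : ↥(cc d)) : G) ∈ O from ⟨_, hm, rfl⟩)
    simpa using this
  have hUO : U ≤ centralizer (O : Set G) := hUQ.trans hQO
  have hUD : U ≤ centralizer (D : Set G) := by
    have hUU : ⁅U, U⁆ = U := pres_perfect _
    rw [← hUU]
    intro u hu
    intro y hy
    have hyA : y ∈ A := hD.1.le hy
    have h1 : ⁅⁅U, zpowers y⁆, U⁆ = ⊥ := by
      rw [commutator_eq_bot_iff_le_centralizer]
      refine le_trans ?_ (le_centralizer_iff.mp hUO)
      rw [commutator_le]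
      intro x hx t ht
      have htD : t ∈ D := zpowers_le.mpr hy ht
      have htA : t ∈ A := hD.1.le htD
      obtain ⟨x', hx', rfl⟩ := pres_le (preim d E) hx
      refine mem_core_of_bar (w := ⁅x', (⟨t, hA.mem_cc hdA htA⟩ : ↥(cc d))⁆) ?_
      rw [map_commutatorElement, commutatorElement_eq_one_iff_mul_comm]
      exact ((mem_blockD (hA.mem_cc hdA htA)).mp (hb.symm ▸ htD)).2 _ hx'
    have h4 := commutator_commutator_eq_bot_of_rotate (H₁ := U) (H₂ := U) (H₃ := zpowers y) h1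
      (by rwa [commutator_comm (zpowers y) U])
    exact (comm_of_commutator_eq_bot h4 hu (mem_zpowers y)).symm
  have hUK : U ≤ KK A D := by
    refine le_sSup ⟨hUD, pres_perfect _, fun d' hd' hd'1 E' hE' hb' => ?_⟩
    obtain ⟨E'', hE'', hb'', himg⟩ := hD.lift h hA hdA hd1 hE hb hd' hd'1
    rw [h.component_eq hA (hD.1.le hd') hd'1 hE' hE'' (by rw [hb']; exact hD.1.1) (hb'.trans hb''.symm)]
    refine himg U (pres_perfect _) hUD ?_
    rintro _ ⟨x, hx, rfl⟩
    exact (mem_preim x.2).mp (pres_le _ hx)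
  have he : KK A D = U := le_antisymm (le_pres (fun x hx =>
    (mem_preim (CfsgLib.S3Simple.centralizer_le_cc hd (KK_le hx))).mpr (KK_image hd hd1 hE hb hx _)) KK_perfect) hUK
  exact ⟨he, he ▸ hUO⟩

/-- With `W` trivial, what normalises the component in `C(d)` normalises the perfect group. -/
theorem Hyp.KK_norm (h : Hyp G) (hA : Closed S A) (h16 : 16 ≤ Nat.card A) (hW : gen 2 A = ⊥) (hD : MinBlk A D)
    {d : G} (hd : d ∈ D) (hd1 : d ≠ 1) {E : Subgroup (qq d)} (hE : IsComponent E) (hb : blockD A d E = D)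
    (hsep : SepAt A d E) {x : G} (hx : x ∈ cc d) (hxE : ff d ⟨x, hx⟩ ∈ normalizer (E : Set (qq d))) :
    x ∈ normalizer (KK A D : Set G) := by
  rw [(h.KK_eq hA h16 hW hD hd hd1 hE hb hsep).1]
  refine mem_normalizer_of_maps fun y hy => conj_mem_pres (fun z hz => ?_) hy
  have hzc := preim_le_cc d E hz
  refine (mem_preim (mul_mem (mul_mem hx hzc) (inv_mem hx))).mpr ?_
  rw [show (⟨x * z * x⁻¹, mul_mem (mul_mem hx hzc) (inv_mem hx)⟩ : ↥(cc d)) =
    (⟨x, hx⟩ : ↥(cc d)) * ⟨z, hzc⟩ * (⟨x, hx⟩ : ↥(cc d))⁻¹ from Subtype.ext rfl, map_mul, map_mul, map_inv]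
  exact (mem_normalizer_iff.mp hxE _).mp ((mem_preim hzc).mp hz)

/-- With `W` trivial the perfect groups over two minimal blocks that meet commute. -/
theorem Hyp.commute_KK (h : Hyp G) (hA : Closed S A) (h16 : 16 ≤ Nat.card A) (hW : gen 2 A = ⊥) (hD : MinBlk A D)
    (hD' : MinBlk A D') (hne : D ≠ D') {d : G} (hd : d ∈ D) (hd' : d ∈ D') (hd1 : d ≠ 1) {E E' : Subgroup (qq d)}
    (hE : IsComponent E) (hb : blockD A d E = D) (hsep : SepAt A d E) (hE' : IsComponent E')
    (hb' : blockD A d E' = D') (hsep' : SepAt A d E') : ⁅KK A D, KK A D'⁆ = ⊥ := by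
  have hEE : E ≠ E' := fun e => hne (by rw [← hb, ← hb', e])
  have hK := (h.KK_eq hA h16 hW hD hd hd1 hE hb hsep).2
  have hN : ⁅KK A D, KK A D'⁆ ≤ centralizerPPrimeCore 2 d := by
    rw [commutator_le]
    intro x hx y hy
    have hxd := CfsgLib.S3Simple.centralizer_le_cc hd (KK_le hx)
    have hyd := CfsgLib.S3Simple.centralizer_le_cc hd' (KK_le hy)
    refine mem_core_of_bar (w := ⁅(⟨x, hxd⟩ : ↥(cc d)), (⟨y, hyd⟩ : ↥(cc d))⁆) ?_
    rw [map_commutatorElement, commutatorElement_eq_one_iff_mul_comm]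
    exact comm_of_commutator_eq_bot ((components_eq_or_commute hE hE').resolve_left hEE)
      (KK_image hd hd1 hE hb hx hxd) (KK_image hd' hd1 hE' hb' hy hyd)
  have h1 : ⁅⁅KK A D, KK A D'⁆, KK A D⁆ = ⊥ := by
    rw [commutator_eq_bot_iff_le_centralizer]
    exact hN.trans (le_centralizer_iff.mp hK)
  have h4 := commutator_commutator_eq_bot_of_rotate (H₁ := KK A D) (H₂ := KK A D) (H₃ := KK A D')
    h1 (by rwa [commutator_comm (KK A D') (KK A D)])
  rwa [KK_perfect] at h4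

end CfsgLib.GoldSC
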