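import Cfsg.Agent.Lib.S3Simple.Linear

/-!
Two blocks of the same size meeting trivially when the stabiliser of the `D`-part preserves the `V`-part
(the argument of `Lib/S3Simple/Linear`, with this hypothesis in place of the absence of sections `S₃`).

Blueprint: `blueprint/Goldschmidt.md`, E.
-/

set_option autoImplicit false
set_option linter.unusedSectionVars false

namespace CfsgLib.GoldSC.Lin

open MulAction CfsgLib.S3Simple
open scoped Pointwise

universe u v

variable {G : Type v} [Group G] {A : Type u} [CommGroup A] [Finite A] [MulDistribMulAction G A]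
  {D V : Subgroup A} {κ : G} (H : LinearBlock G D V κ)
  (hirr : ∀ W : Subgroup A, (∀ g : G, g • W = W) → W = ⊥ ∨ W = ⊤)
include H hirr

/-- The orbital argument: `|D| = 2` and the relation on the members is a tournament. -/
theorem orbital_of_det (htwo : ∀ K : Subgroup G, K.index ≠ 2) (hdet : ∀ g : G, g • D = D → g • V = V) :
    Nat.card D = 2 ∧ (∀ g : G, g • D ≠ D → (g • D ≤ V ↔ ¬ g⁻¹ • D ≤ V)) ∧
      ∀ x : A, x ≠ 1 → ∃ g : G, x ∈ g • D := by
  classical
  obtain ⟨gc, hgcD, hgc⟩ := H.exists_inside hirr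
  obtain ⟨gg, hggD, hgg⟩ := H.exists_outside hirr htwo
  have hcov : ∀ x : A, x ≠ 1 → ∃ g : G, x ∈ g • D := by
    intro x hx1
    obtain ⟨b, hb, w, hw, rfl⟩ := H.decomp x
    rcases eq_or_ne w 1 with e | e
    · exact ⟨1, by rw [one_smul, e, mul_one]; exact hb⟩
    rcases eq_or_ne b 1 with e' | e'
    · obtain ⟨k, hk⟩ := H.cover_inside hgc hw e
      exact ⟨_, by rw [e', one_mul]; exact hk⟩
    · exact let ⟨_, hk⟩ := H.cover_graph hggD ((H.not_le_iff hggD).mp hgg) hb e' hw e; ⟨_, hk⟩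
  let p : orbit G D := ⟨D, mem_orbit_self D⟩
  let S : Set (orbit G D) := {E | E.1 ≠ D ∧ E.1 ≤ V}
  let T : Set (orbit G D) := {E | E.1 ≠ D ∧ ¬ E.1 ≤ V}
  have hpres : ∀ g : G, g • p = p → ∀ E : orbit G D, ((g • E).1 ≠ D ↔ E.1 ≠ D) ∧ ((g • E).1 ≤ V ↔ E.1 ≤ V) := by
    intro g hg E
    have hg' : g • D = D := congrArg Subtype.val hg
    refine ⟨not_congr ?_, ?_⟩
    · show g • E.1 = D ↔ E.1 = D
      exact ⟨fun h => MulAction.injective g (h.trans hg'.symm), fun h => by rw [h, hg']⟩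
    · show g • E.1 ≤ V ↔ E.1 ≤ V
      refine ⟨fun h => ?_, fun h => ?_⟩
      · rw [← hdet g hg'] at h
        exact Subgroup.pointwise_smul_le_pointwise_smul_iff.mp h
      · exact (Subgroup.pointwise_smul_le_pointwise_smul_iff.mpr h).trans (hdet g hg').le
  have hS : ∀ g : G, g • p = p → ∀ E ∈ S, g • E ∈ S := fun g hg E hE =>
    ⟨(hpres g hg E).1.mpr hE.1, (hpres g hg E).2.mpr hE.2⟩
  have hT : ∀ g : G, g • p = p → ∀ E ∈ T, g • E ∈ T := fun g hg E hE =>
    ⟨(hpres g hg E).1.mpr hE.1, fun h => hE.2 ((hpres g hg E).2.mp h)⟩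
  have hfixp : ∀ k : ℕ, κ ^ k • p = p := fun k => Subtype.ext (H.pow_fix k)
  have hStr : ∀ E ∈ S, ∀ F ∈ S, ∃ g : G, g • p = p ∧ g • E = F := by
    rintro ⟨_, g, rfl⟩ hE ⟨_, h, rfl⟩ hF
    obtain ⟨k, hk⟩ := H.inside_orbit hE.2 hF.2
    exact ⟨_, hfixp k, Subtype.ext hk⟩
  have hTtr : ∀ E ∈ T, ∀ F ∈ T, ∃ g : G, g • p = p ∧ g • E = F := by
    rintro ⟨_, g, rfl⟩ hE ⟨_, h, rfl⟩ hF
    obtain ⟨k, hk⟩ := H.graph_orbit hE.1 hE.2 hF.1 hF.2
    exact ⟨_, hfixp k, Subtype.ext hk⟩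
  have hpS : p ∉ S := fun h => h.1 rfl
  have hcov' : ∀ E : orbit G D, E ≠ p → E ∈ S ∨ E ∈ T := fun E hE =>
    (em (E.1 ≤ V)).imp (⟨fun e => hE (Subtype.ext e), ·⟩) (⟨fun e => hE (Subtype.ext e), ·⟩)
  have hd : Disjoint S T := Set.disjoint_left.mpr fun E h h' => h'.2 h.2
  -- the sizes
  have hcS : S.ncard * (Nat.card D - 1) = Nat.card V - 1 := by
    have hd1 : ∀ W : Subgroup A, Nat.card {x : A // x ∈ W ∧ x ≠ 1} = Nat.card W - 1 := fun W => by
      rw [show Nat.card {x : A // x ∈ W ∧ x ≠ 1} = ((W : Set A) \ {1}).ncard from Nat.card_coe_set_eq _,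
        Set.ncard_sdiff_singleton_of_mem (one_mem W), ← Nat.card_coe_set_eq]
      rfl
    haveI := Fintype.ofFinite S
    have hsig : Nat.card (Σ E : S, {x : A // x ∈ E.1.1 ∧ x ≠ 1}) = Nat.card {x : A // x ∈ V ∧ x ≠ 1} := by
      refine Nat.card_eq_of_bijective (fun q => ⟨q.2.1, q.1.2.2 q.2.2.1, q.2.2.2⟩) ⟨?_, ?_⟩
      · rintro ⟨⟨⟨_, g, rfl⟩, hE⟩, x, hx, hx1⟩ ⟨⟨⟨_, h, rfl⟩, hF⟩, y, hy, hy1⟩ hxy
        obtain rfl : x = y := congrArg Subtype.val hxy
        have e := H.member_eq hx hy hx1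
        exact Sigma.subtype_ext (Subtype.ext (Subtype.ext e)) rfl
      · rintro ⟨w, hw, hw1⟩
        obtain ⟨k, hk⟩ := H.cover_inside hgc hw hw1
        have hne : (κ ^ k * gc) • D ≠ D := fun e => hw1 (H.inf w (e ▸ hk) hw)
        exact ⟨⟨⟨⟨_, κ ^ k * gc, rfl⟩, hne, H.member_le hne hk hw hw1⟩, w, hk, hw1⟩, rfl⟩
    rw [Nat.card_sigma, Finset.sum_congr rfl (g := fun _ => Nat.card D - 1) fun E _ => ?_, Finset.sum_const,
      Finset.card_univ, ← Nat.card_eq_fintype_card, Nat.card_coe_set_eq, smul_eq_mul, hd1] at hsig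
    · exact hsig
    · obtain ⟨g, hg⟩ := E.1.2
      rw [hd1, ← hg, ← Nat.card_congr (Subgroup.equivSMul g D).toEquiv]
  have hcT : T.ncard = Nat.card V - 1 := by
    obtain ⟨b, hb, hb1⟩ := H.exists_ne_D
    have : Nat.card T = ((V : Set A) \ {1}).ncard := by
      rw [← Nat.card_coe_set_eq]
      have hex : ∀ E : T, ∃ w ∈ V, b * w ∈ E.1.1 := by
        rintro ⟨⟨_, g, rfl⟩, hgD, hg⟩
        exact H.graph ((H.not_le_iff hgD).mp hg) hb
      choose w hwV hwE using hex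
      have hw1 : ∀ E : T, w E ≠ 1 := fun E e => by
        obtain ⟨⟨_, g, rfl⟩, hgD, hg⟩ := E
        exact H.graph_ne hgD hb hb1 (hwE ⟨⟨_, g, rfl⟩, hgD, hg⟩) e
      refine Nat.card_eq_of_bijective (fun E => ⟨w E, hwV E, hw1 E⟩) ⟨?_, ?_⟩
      · intro E F he
        have he' : w E = w F := congrArg Subtype.val he
        obtain ⟨g, hg⟩ := E.1.2
        obtain ⟨h, hh⟩ := F.1.2
        refine Subtype.ext (Subtype.ext ?_)
        rw [← hg, ← hh]
        refine H.member_eq (x := b * w E) (by show _ ∈ g • D; simp only at hg; rw [hg]; exact hwE E)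
          (by show _ ∈ h • D; simp only at hh; rw [hh, he']; exact hwE F) fun e => hb1 ?_
        exact (H.unique hb (one_mem _) (hwV E) (one_mem _) (by rw [e, one_mul])).1
      · rintro ⟨u, hu, hu1⟩
        obtain ⟨k, hk⟩ := H.cover_graph hggD ((H.not_le_iff hggD).mp hgg) hb hb1 hu hu1
        have hne : (κ ^ k * gg) • D ≠ D := fun e => hu1 (H.inf u (by
          have h := D.mul_mem (D.inv_mem hb) (e ▸ hk)
          rwa [inv_mul_cancel_left] at h) hu)
        have hnle : ¬ (κ ^ k * gg) • D ≤ V := fun h => hb1 (H.inf b hb (by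
          simpa using V.mul_mem (h hk) (V.inv_mem hu)))
        refine ⟨⟨⟨_, κ ^ k * gg, rfl⟩, hne, hnle⟩, Subtype.ext ?_⟩
        by_contra hneq
        have := hwE ⟨⟨_, κ ^ k * gg, rfl⟩, hne, hnle⟩
        have h2 := ((κ ^ k * gg) • D).mul_mem (inv_mem this) hk
        rw [mul_inv_rev, mul_assoc, inv_mul_cancel_left] at h2
        exact hneq (inv_mul_eq_one.mp ((H.not_le_iff hne).mp hnle _ h2 (V.mul_mem (inv_mem (hwV _)) hu)))
    rw [← Nat.card_coe_set_eq, this, Set.ncard_sdiff_singleton_of_mem (one_mem V), ← Nat.card_coe_set_eq]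
    rfl
  have hqeven : Even (Nat.card V) := by
    obtain ⟨w, hw, hw1⟩ := H.exists_ne_V
    have : orderOf (⟨w, hw⟩ : V) = 2 :=
      orderOf_eq_prime (by rw [pow_two]; exact Subtype.ext (H.sq w)) fun e => hw1 (congrArg Subtype.val e)
    exact even_iff_two_dvd.mpr (this ▸ orderOf_dvd_natCard _)
  have hq : Odd (Nat.card V - 1) := Nat.Even.sub_odd (by have := H.four; omega) hqeven odd_one
  have hSodd : Odd S.ncard := (Nat.odd_mul.mp (hcS ▸ hq)).1
  have hodd : Odd (Nat.card (orbit G D)) := by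
    have : (Set.univ : Set (orbit G D)) = insert p (S ∪ T) := by
      ext E
      simp only [Set.mem_univ, Set.mem_insert_iff, Set.mem_union, true_iff]
      by_cases h : E = p
      · exact Or.inl h
      · exact Or.inr (hcov' E h)
    rw [← Set.ncard_univ, this, Set.ncard_insert_of_notMem
      (fun h => h.elim (fun h => h.1 rfl) fun h => h.1 rfl), Set.ncard_union_eq hd, hcT]
    exact (hSodd.add_odd hq).add_one
  have hne : S.Nonempty := ⟨⟨_, gc, rfl⟩, hgcD, hgc⟩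
  rcases paired_cases hS hT hStr hTtr hpS hne ⟨⟨_, gg, rfl⟩, hggD, hgg⟩ hcov' hd with hsym | ⟨hST, hanti, htot⟩
  · exact (handshake hS hodd hSodd hpS hsym).elim
  have hD2 : Nat.card D = 2 := by
    rw [hST, hcT] at hcS
    have h4 := H.four
    have := Nat.eq_of_mul_eq_mul_left (by omega) (hcS.trans (Nat.mul_one _).symm)
    omega
  refine ⟨hD2, fun g hg => ⟨fun h h' => ?_, fun h => by_contra fun h' => ?_⟩, hcov⟩
  · exact hanti g ⟨hg, h⟩ ⟨fun e => hg (by
      calc g • D = g • g⁻¹ • D := congrArg _ (e : g⁻¹ • D = D).symm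
        _ = D := smul_inv_smul _ _), h'⟩
  · exact h (htot g ⟨hg, h'⟩).2

set_option maxHeartbeats 600000 in
/-- The tournament on the members has eight points. -/
theorem eight_of_det (htwo : ∀ K : Subgroup G, K.index ≠ 2) (hdet : ∀ g : G, g • D = D → g • V = V) :
    Nat.card D = 2 ∧ Nat.card A = 8 := by
  classical
  obtain ⟨hD2, htour, hcov⟩ := orbital_of_det H hirr htwo hdet
  obtain ⟨a, haD, ha1, ha⟩ : ∃ a ∈ D, a ≠ 1 ∧ ∀ x ∈ D, x = 1 ∨ x = a := by
    obtain ⟨a, ha1, huniq⟩ := (Nat.card_eq_two_iff' (1 : D)).mp hD2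
    exact ⟨a, a.2, fun e => ha1 (Subtype.ext e), fun x hx =>
      (em ((⟨x, hx⟩ : D) = 1)).imp (congrArg Subtype.val) fun h => congrArg Subtype.val (huniq _ h)⟩
  have hmem : ∀ (g : G) (x : A), x ≠ 1 → (x ∈ g • D ↔ g • a = x) := by
    refine fun g x hx => ⟨fun h => ?_, fun h => h ▸ Subgroup.smul_mem_pointwise_smul _ _ _ haD⟩
    obtain ⟨d, hd, rfl⟩ := (Subgroup.mem_smul_pointwise_iff_exists _ _ _).mp h
    rcases ha d hd with rfl | rfl
    · exact absurd (smul_one g) hx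
    · rfl
  have htrans : ∀ x : A, x ≠ 1 → ∃ g : G, g • a = x := fun x hx =>
    (hcov x hx).imp fun g h => (hmem g x hx).mp h
  have hne : ∀ g : G, g • a ≠ 1 := fun g h => ha1 ((smulOne_iff g).mp h)
  have hfixD : ∀ g : G, g • D = D ↔ g • a = a := fun g => by
    refine ⟨fun h => (hmem g a ha1).mp (h.symm ▸ haD), fun h => H.member_eq (h := 1) (x := a)
      ((hmem g a ha1).mpr h) (by rw [one_smul]; exact haD) ha1 |>.trans (one_smul G D)⟩
  have hle : ∀ g : G, g • D ≤ V ↔ g • a ∈ V := fun g => by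
    refine ⟨fun h => h (Subgroup.smul_mem_pointwise_smul _ _ _ haD), fun h x hx => ?_⟩
    rcases eq_or_ne x 1 with rfl | e
    · exact one_mem _
    · exact (hmem g x e).mp hx ▸ h
  -- the tournament
  choose! c hc using htrans
  have htour' : ∀ x y : A, x ≠ 1 → y ≠ 1 → x ≠ y → ((c x)⁻¹ • y ∈ V ↔ ¬ (c y)⁻¹ • x ∈ V) := by
    intro x y hx hy hxy
    have h := htour ((c x)⁻¹ * c y) fun e => hxy (by
      have := (hfixD _).mp e
      rw [mul_smul, hc y hy, inv_smul_eq_iff, hc x hx] at this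
      exact this.symm)
    rwa [hle, hle, mul_inv_rev, inv_inv, mul_smul, mul_smul, hc y hy, hc x hx] at h
  have hidx : ∀ x y : A, x * y ∈ V ↔ (x ∈ V ↔ y ∈ V) := by
    intro x y
    by_cases hx : x ∈ V
    · simp [hx, V.mul_mem_cancel_left hx]
    by_cases hy : y ∈ V
    · simp [hx, hy, V.mul_mem_cancel_right hy]
    simp only [hx, hy, iff_self, iff_true]
    obtain ⟨b, hb, w, hw, rfl⟩ := H.decomp x
    obtain ⟨b', hb', w', hw', rfl⟩ := H.decomp y
    obtain rfl := (ha b hb).resolve_left fun e => hx (by rw [e, one_mul]; exact hw)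
    obtain rfl := (ha b' hb').resolve_left fun e => hy (by rw [e, one_mul]; exact hw')
    rw [mul_mul_mul_comm, H.sq, one_mul]
    exact V.mul_mem hw hw'
  have h16 : ¬ 16 ≤ Nat.card A := by
    intro h16
    haveI := Fintype.ofFinite A
    have pick : ∀ s : Finset A, s.card < 16 → ∃ x, x ∉ s := fun s hs => by
      by_contra hall
      push Not at hall
      rw [Nat.card_eq_fintype_card, ← Finset.card_univ, ← Finset.eq_univ_iff_forall.mpr hall] at h16
      omega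
    obtain ⟨z, hz⟩ := pick {1, a} (by have := Finset.card_le_two (a := (1 : A)) (b := a); omega)
    simp only [Finset.mem_insert, Finset.mem_singleton, not_or] at hz
    obtain ⟨b₁, hb₁⟩ := pick {1, a, z, a * z} ((Finset.card_le_four (a := (1 : A))).trans_lt (by norm_num))
    obtain ⟨b₂, hb₂⟩ := pick ({1, a, z, a * z} ∪ {b₁, b₁ * a, b₁ * z, b₁ * (a * z)})
      (((Finset.card_union_le _ _).trans (Nat.add_le_add Finset.card_le_four Finset.card_le_four)).trans_lt
        (by norm_num))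
    simp only [Finset.mem_union, Finset.mem_insert, Finset.mem_singleton, not_or] at hb₁ hb₂
    have haz : a * z ≠ 1 := fun e => hz.2 (by
      have := congrArg (a * ·) e
      simpa [← mul_assoc, H.sq] using this)
    have hrel : ∀ b : A, b ≠ 1 → b ≠ a → b ≠ z → b ≠ a * z →
        ((c (a * z))⁻¹ • b ∈ V ↔ ¬ ((c a)⁻¹ • b ∈ V ↔ (c z)⁻¹ • b ∈ V)) := fun b h1 h2 h3 h4 => by
      rw [htour' _ _ haz h1 (Ne.symm h4), smul_mul', hidx, htour' _ _ h1 ha1 h2, htour' _ _ h1 hz.1 h3]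
      tauto
    have h3 : ∀ w, w = 1 ∨ w = a ∨ w = z ∨ w = a * z → b₁ * b₂ ≠ w := fun w hw e => by
      have e' : b₂ = b₁ * w := by rw [← e, ← mul_assoc, H.sq, one_mul]
      rcases hw with rfl | rfl | rfl | rfl
      · exact hb₂.2.1 (e'.trans (mul_one _))
      · exact hb₂.2.2.1 e'
      · exact hb₂.2.2.2.1 e'
      · exact hb₂.2.2.2.2 e'
    have r1 := hrel b₁ hb₁.1 hb₁.2.1 hb₁.2.2.1 hb₁.2.2.2
    have r2 := hrel b₂ hb₂.1.1 hb₂.1.2.1 hb₂.1.2.2.1 hb₂.1.2.2.2
    have r3 := hrel (b₁ * b₂) (h3 _ (.inl rfl)) (h3 _ (.inr (.inl rfl))) (h3 _ (.inr (.inr (.inl rfl))))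
      (h3 _ (.inr (.inr (.inr rfl))))
    simp only [smul_mul', hidx] at r3
    tauto
  have hV4 : Nat.card V = 4 := by
    have hp : IsPGroup 2 V := fun x => ⟨1, by rw [pow_one, pow_two]; exact Subtype.ext (H.sq x)⟩
    haveI : Fact (Nat.Prime 2) := ⟨Nat.prime_two⟩
    obtain ⟨n, hn⟩ := IsPGroup.iff_card.mp hp
    have h8 : Nat.card V < 8 := by
      rw [H.card_eq, hD2] at h16
      omega
    have h4 := H.four
    rw [hn] at h4 h8 ⊢
    have hn2 : 2 ≤ n := (Nat.pow_le_pow_iff_right (le_refl 2)).mp (show 2 ^ 2 ≤ 2 ^ n by simpa using h4)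
    have hn3 : n < 3 := (Nat.pow_lt_pow_iff_right (le_refl 2)).mp (show 2 ^ n < 2 ^ 3 by simpa using h8)
    rw [show n = 2 by omega]
    norm_num
  have hA8 : Nat.card A = 8 := by rw [H.card_eq, hD2, hV4]
  exact ⟨hD2, hA8⟩

end CfsgLib.GoldSC.Lin
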