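import Cfsg.Agent.Lib.GoldSC.Defs
import Cfsg.Agent.Lib.S3Simple.Facts
import Cfsg.Agent.Lib.Walter.Ab.Facts
import Cfsg.Agent.S0252
import Cfsg.Agent.S0253

/-!
The local properties of a simple group on the list of the induction, at a Sylow 2-subgroup.

Blueprint: `blueprint/Goldschmidt.md`, A1.
-/

set_option autoImplicit false
set_option linter.unusedSectionVars false
set_option linter.style.haveILetI false

namespace CfsgLib.GoldSC

open Subgroup

universe u v

local notation "PSL₂[" F "]" => Matrix.ProjectiveSpecialLinearGroup (Fin 2) F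

variable {K : Type u} [Group K] [Finite K] {K' : Type v} [Group K'] [Finite K']

/-- The local properties: `V`, the elements of `T` squaring to one, is central in `T`; its non-identity elements are
permuted transitively by an element normalising `T`; the automorphisms of order two close to the identity are inner;
and the groups of odd order normalised by the centraliser of an involution are trivial, unless `K` is `Big`. -/
structure Local (T : Sylow 2 K) : Prop where
  central : ∀ x ∈ (T : Subgroup K), x * x = 1 → ∀ y ∈ (T : Subgroup K), x * y = y * x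
  four : 4 ≤ Nat.card {x : K // x ∈ (T : Subgroup K) ∧ x * x = 1}
  trans : ∃ k ∈ normalizer ((T : Subgroup K) : Set K), ∀ x ∈ (T : Subgroup K), x * x = 1 → x ≠ 1 →
    ∀ y ∈ (T : Subgroup K), y * y = 1 → y ≠ 1 → ∃ i : ℕ, k ^ i * x * (k ^ i)⁻¹ = y
  inner : ∀ φ : MulAut K, φ * φ = 1 → (∀ x ∈ (T : Subgroup K), x * x = 1 → φ x = x) →
    (∀ x ∈ (T : Subgroup K), φ x * x⁻¹ ∈ (T : Subgroup K) ∧ φ x * x⁻¹ * (φ x * x⁻¹) = 1) →
    ∃ q ∈ (T : Subgroup K), φ = MulAut.conj q
  core : ¬ Big K → ∀ u ∈ (T : Subgroup K), u * u = 1 → u ≠ 1 → ∀ Y : Subgroup (MulAut K),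
    Odd (Nat.card Y) → (∀ φ ∈ Y, φ u = u) →
    (∀ c, c * u = u * c → ∀ φ ∈ Y, MulAut.conj c * φ * (MulAut.conj c)⁻¹ ∈ Y) → Y = ⊥
  outer : ¬ Big K → ∀ φ : MulAut K, φ * φ = 1 → (∀ x ∈ (T : Subgroup K), x * x = 1 → φ x = x) →
    (∀ q ∈ (T : Subgroup K), φ ≠ MulAut.conj q) → ∀ Y : Subgroup (MulAut K), Odd (Nat.card Y) →
    (∀ ψ ∈ Y, φ * ψ = ψ * φ) →
    (∀ v ∈ (T : Subgroup K), v * v = 1 → ∀ ψ ∈ Y, MulAut.conj v * ψ * (MulAut.conj v)⁻¹ ∈ Y) → Y = ⊥

theorem Big.congr (h : Big K) (e : K ≃* K') : Big K' := by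
  obtain ⟨F, i1, i2, hc, h11, ⟨f⟩⟩ := h
  exact ⟨F, i1, i2, hc, h11, ⟨e.symm.trans f⟩⟩

/-- Transport along an isomorphism carrying one Sylow subgroup to the other. -/
theorem Local.map {T : Sylow 2 K} {T' : Sylow 2 K'} (h : Local T) (e : K ≃* K')
    (hT : (T : Subgroup K).map e.toMonoidHom = (T' : Subgroup K')) : Local T' := by
  have mem : ∀ x, e x ∈ (T' : Subgroup K') ↔ x ∈ (T : Subgroup K) := fun x => by
    rw [← hT, mem_map_equiv, MulEquiv.symm_apply_apply]
  have mem' : ∀ y, y ∈ (T' : Subgroup K') ↔ e.symm y ∈ (T : Subgroup K) := fun y => by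
    rw [← mem, MulEquiv.apply_symm_apply]
  have hs : ∀ {y : K'}, y * y = 1 → e.symm y * e.symm y = 1 := fun hy => by rw [← map_mul, hy, map_one]
  have hne : ∀ {y : K'}, y ≠ 1 → e.symm y ≠ 1 := fun hy e1 => hy (by simpa using congrArg e e1)
  have hbig : ¬ Big K' → ¬ Big K := fun hn hb => hn (hb.congr e)
  set C := MulAut.congr e with hC
  have happ : ∀ (φ : MulAut K') (x : K), C.symm φ x = e.symm (φ (e x)) := fun φ x => e.injective (by
    rw [← WalterAb.congr_apply_map, ← hC, MulEquiv.apply_symm_apply, MulEquiv.apply_symm_apply])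
  have hY : ∀ (Y : Subgroup (MulAut K')), Odd (Nat.card Y) → Odd (Nat.card (Y.map C.symm.toMonoidHom)) :=
    fun Y hY => by rwa [card_map_of_injective C.symm.injective]
  refine ⟨fun x hx h2 y hy => e.symm.injective ?_, ?_, ?_, ?_, ?_, ?_⟩
  · rw [map_mul, map_mul]
    exact h.central _ ((mem' x).mp hx) (hs h2) _ ((mem' y).mp hy)
  · refine h.four.trans (le_of_eq (Nat.card_congr (e.toEquiv.subtypeEquiv fun x => ?_)))
    show _ ↔ e x ∈ _ ∧ e x * e x = 1
    rw [mem, ← map_mul, map_eq_one_iff e e.injective]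
  · obtain ⟨k, hk, htr⟩ := h.trans
    refine ⟨e k, ?_, fun x hx hx2 hx1 y hy hy2 hy1 => ?_⟩
    · rw [mem_normalizer_iff]
      intro y
      rw [mem' y, mem' (e k * y * (e k)⁻¹), map_mul, map_mul, map_inv, MulEquiv.symm_apply_apply]
      exact mem_normalizer_iff.mp hk _
    · obtain ⟨i, hi⟩ := htr _ ((mem' x).mp hx) (hs hx2) (hne hx1) _ ((mem' y).mp hy) (hs hy2) (hne hy1)
      refine ⟨i, e.symm.injective ?_⟩
      rw [map_mul, map_mul, map_inv, map_pow, MulEquiv.symm_apply_apply, hi]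
  · intro φ h2 hfix hd
    obtain ⟨q, hq, hφ⟩ := h.inner (C.symm φ) (by rw [← map_mul, h2, map_one])
      (fun x hx hx2 => by rw [happ, hfix _ ((mem x).mpr hx) (by rw [← map_mul, hx2, map_one]),
        MulEquiv.symm_apply_apply])
      (fun x hx => by
        have hd' := hd (e x) ((mem x).mpr hx)
        have h1 : C.symm φ x * x⁻¹ = e.symm (φ (e x) * (e x)⁻¹) := by
          rw [map_mul, map_inv, MulEquiv.symm_apply_apply, happ]
        rw [h1, ← map_mul]
        exact ⟨(mem' _).mp hd'.1, by rw [hd'.2, map_one]⟩)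
    exact ⟨e q, (mem q).mpr hq, by rw [← WalterAb.congr_conj, ← hφ, ← hC, MulEquiv.apply_symm_apply]⟩
  · intro hb u hu hu2 hu1 Y ho hfix hnorm
    refine (map_eq_bot_iff_of_injective Y C.symm.injective).mp
      (h.core (hbig hb) _ ((mem' u).mp hu) (hs hu2) (hne hu1) _ (hY Y ho) ?_ ?_)
    · rintro _ ⟨φ, hφ, rfl⟩
      show C.symm φ (e.symm u) = _
      rw [happ, MulEquiv.apply_symm_apply, hfix φ hφ]
    · intro c hc φ hφ
      rw [mem_map_equiv, MulEquiv.symm_symm] at hφ ⊢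
      rw [map_mul, map_mul, map_inv, hC, WalterAb.congr_conj]
      refine hnorm _ (e.symm.injective ?_) _ hφ
      rw [map_mul, map_mul, MulEquiv.symm_apply_apply]
      exact hc
  · intro hb φ h2 hfix hne' Y ho hcomm hnorm
    refine (map_eq_bot_iff_of_injective Y C.symm.injective).mp
      (h.outer (hbig hb) (C.symm φ) (by rw [← map_mul, h2, map_one]) (fun x hx hx2 => ?_) (fun q hq hφ => ?_)
        _ (hY Y ho) ?_ ?_)
    · rw [happ, hfix _ ((mem x).mpr hx) (by rw [← map_mul, hx2, map_one]), MulEquiv.symm_apply_apply]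
    · exact hne' (e q) ((mem q).mpr hq) (by rw [← WalterAb.congr_conj, ← hφ, ← hC, MulEquiv.apply_symm_apply])
    · rintro _ ⟨ψ, hψ, rfl⟩
      show C.symm φ * C.symm ψ = C.symm ψ * C.symm φ
      rw [← map_mul, hcomm ψ hψ, map_mul]
    · intro v hv hv2 ψ hψ
      rw [mem_map_equiv, MulEquiv.symm_symm] at hψ ⊢
      rw [map_mul, map_mul, map_inv, hC, WalterAb.congr_conj]
      exact hnorm _ ((mem v).mpr hv) (by rw [← map_mul, hv2, map_one]) _ hψ

/-- One Sylow subgroup suffices. -/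
theorem Local.any {T : Sylow 2 K} (h : Local T) (T' : Sylow 2 K) : Local T' := by
  haveI : Fact (Nat.Prime 2) := ⟨Nat.prime_two⟩
  obtain ⟨g, hg⟩ := MulAction.exists_smul_eq K T T'
  exact h.map (MulAut.conj g) (by rw [← hg, Sylow.coe_subgroup_smul]; rfl)

/-- Transport, any Sylow subgroup. -/
theorem Local.of_equiv {T : Sylow 2 K'} (h : Local T) (e : K ≃* K') (T' : Sylow 2 K) : Local T' := by
  haveI : Fact (Nat.Prime 2) := ⟨Nat.prime_two⟩
  exact (h.map e.symm (T' := T.mapSurjective (f := e.symm.toMonoidHom) e.symm.surjective) rfl).any T'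

/-! ### Abelian Sylow subgroups -/

variable [IsSimpleGroup K]

theorem conj_injective (hK : ¬ IsMulCommutative K) : Function.Injective (MulAut.conj : K →* MulAut K) := by
  rw [← MonoidHom.ker_eq_bot_iff]
  refine ((inferInstance : (MulAut.conj (G := K)).ker.Normal).eq_bot_or_eq_top).resolve_right fun h => hK ⟨⟨fun a b => ?_⟩⟩
  have := DFunLike.congr_fun (MonoidHom.mem_ker.mp (h ▸ mem_top a)) b
  rwa [MulAut.conj_apply, MulAut.one_apply, mul_inv_eq_iff_eq_mul] at this

theorem nonabelian_of_good {T : Sylow 2 K} (hg : WalterAb.Good T) : ¬ IsMulCommutative K := fun hc => by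
  haveI := hc
  have hp := Group.is_simple_iff_prime_card.mp (inferInstance : IsSimpleGroup K)
  obtain ⟨n, hn⟩ := (IsPGroup.iff_card (p := 2)).mp T.2
  have h4 := hg.four
  have hd : 2 ^ n ∣ Nat.card K := hn ▸ card_subgroup_dvd_card _
  rcases (Nat.dvd_prime hp).mp hd with h | h
  · omega
  · rw [← h] at hp
    have := Nat.Prime.eq_one_of_pow hp
    subst this
    omega

/-- The core property from the shape of the centralisers and rigidity. -/
theorem core_of_abelian {T : Sylow 2 K} (hK : ¬ IsMulCommutative K) (hsc : WalterAb.SelfCent T)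
    (hcent : ∀ u ∈ (T : Subgroup K), u ≠ 1 → ∀ x, x * u = u * x → x ∈ (T : Subgroup K))
    (hrig : ∀ φ : MulAut K, Odd (orderOf φ) → (∀ x ∈ (T : Subgroup K), φ x = x) → φ = 1)
    {u : K} (hu : u ∈ (T : Subgroup K)) (hu1 : u ≠ 1) {Y : Subgroup (MulAut K)} (ho : Odd (Nat.card Y))
    (hfix : ∀ φ ∈ Y, φ u = u)
    (hnorm : ∀ c, c * u = u * c → ∀ φ ∈ Y, MulAut.conj c * φ * (MulAut.conj c)⁻¹ ∈ Y) : Y = ⊥ := by
  refine (eq_bot_iff_forall _).mpr fun φ hφ => ?_
  refine hrig φ (ho.of_dvd_nat (orderOf_dvd_natCard _ hφ)) fun t ht => ?_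
  have htu : t * u = u * t := hsc.comm ht hu
  set d : K := φ t * t⁻¹ with hd
  have h1 : MulAut.conj d ∈ Y := by
    have e : MulAut.conj d = φ * (MulAut.conj t * φ⁻¹ * (MulAut.conj t)⁻¹) := by
      refine MulEquiv.ext fun y => ?_
      simp [hd, mul_assoc]
    rw [e]
    exact mul_mem hφ (hnorm _ htu _ (inv_mem hφ))
  have hφt : φ t ∈ (T : Subgroup K) := hcent u hu hu1 _ (by
    calc φ t * u = φ (t * u) := by rw [map_mul, hfix φ hφ]
      _ = φ (u * t) := by rw [htu]
      _ = _ := by rw [map_mul, hfix φ hφ])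
  have hd2 : d * d = 1 := hsc.sq _ (mul_mem hφt (inv_mem ht))
  have h6 : MulAut.conj d = 1 := WalterAb.eq_one_of_odd_conj hd2 rfl (ho.of_dvd_nat (orderOf_dvd_natCard _ h1))
  exact mul_inv_eq_one.mp (conj_injective hK (h6.trans (map_one _).symm))

/-- A member with abelian Sylow 2-subgroups. -/
theorem local_of_good {T : Sylow 2 K} (hg : WalterAb.Good T)
    (hcore : ¬ Big K → ∀ u ∈ (T : Subgroup K), u ≠ 1 → ∀ Y : Subgroup (MulAut K),
      Odd (Nat.card Y) → (∀ φ ∈ Y, φ u = u) →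
      (∀ c, c * u = u * c → ∀ φ ∈ Y, MulAut.conj c * φ * (MulAut.conj c)⁻¹ ∈ Y) → Y = ⊥) : Local T where
  central x hx _ y hy := hg.selfCent.comm hx hy
  four := by
    refine hg.four.trans (le_of_eq ?_)
    exact Nat.card_congr (Equiv.subtypeEquivRight fun x => ⟨fun h => ⟨h, hg.selfCent.sq x h⟩, fun h => h.1⟩)
  trans := hg.trans.imp fun k hk => ⟨hk.1, fun x hx _ hx1 y hy _ hy1 => hk.2 x hx hx1 y hy hy1⟩
  inner φ h2 hfix _ := hg.inner φ 1 (by rw [pow_one, pow_two, h2]) fun x hx => hfix x hx (hg.selfCent.sq x hx)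
  core hb u hu _ hu1 := hcore hb u hu hu1
  outer _ φ h2 hfix hne := by
    obtain ⟨q, hq, hφ⟩ := hg.inner φ 1 (by rw [pow_one, pow_two, h2]) fun x hx => hfix x hx (hg.selfCent.sq x hx)
    exact absurd hφ (hne q hq)

/-- `L₂(2^n)`. -/
theorem local_even {F : Type} [Field F] [Fintype F] [CharP F 2] (h4 : 4 ≤ Fintype.card F) (T : Sylow 2 PSL₂[F]) :
    Local T := by
  haveI : Fact (Nat.Prime 2) := ⟨Nat.prime_two⟩
  have h3 : 3 < Nat.card F := by rw [Nat.card_eq_fintype_card]; omega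
  haveI := Matrix.ProjectiveSpecialLinearGroup.rank_two_simple h3
  have hg := WalterAb.good_even h4
  refine Local.any (T := PSL2.uSylow 2) (local_of_good hg fun _ u hu hu1 Y ho hfix hnorm => ?_) T
  refine core_of_abelian (nonabelian_of_good hg) hg.selfCent ?_ ?_ hu hu1 ho hfix hnorm
  · rintro v ⟨t, rfl⟩ hv x hx
    exact WalterAb.mem_uRange_of_comm (fun e => hv (by rw [show t = 1 from e, map_one])) hx
  · intro φ hφ hfx
    obtain ⟨s, hs⟩ := WalterAb.exists_conj_of_fix_uu φ fun t => hfx _ ⟨Multiplicative.ofAdd t, rfl⟩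
    exact WalterAb.eq_one_of_odd_conj (hg.selfCent.sq _ ⟨Multiplicative.ofAdd s, rfl⟩) hs hφ

/-- The members of Walter's list. -/
theorem local_listed (hl : WalterAb.Listed K) (T : Sylow 2 K) : Local T := by
  classical
  haveI : Fact (Nat.Prime 2) := ⟨Nat.prime_two⟩
  have even : ∀ (F : Type) [Field F] [Fintype F], ∀ n, 2 ≤ n → Fintype.card F = 2 ^ n → (K ≃* PSL₂[F]) → Local T := by
    intro F _ _ n hn hc e
    haveI : CharP F 2 := charP_of_card_eq_prime_pow (f := n) hc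
    obtain ⟨T'⟩ : Nonempty (Sylow 2 PSL₂[F]) := inferInstance
    exact (local_even (hc ▸ (Nat.pow_le_pow_right (by norm_num) hn : 2 ^ 2 ≤ 2 ^ n)) T').of_equiv e T
  rcases hl with ⟨F, i1, i2, hc, ⟨e⟩⟩ | h
  · rcases hc with ⟨hq, h5⟩ | ⟨n, hn, hc⟩
    · by_cases h11 : 11 ≤ Fintype.card F
      · refine local_of_good ((WalterAb.Listed.good (Or.inl ⟨F, i1, i2, Or.inl ⟨hq, h5⟩, ⟨e⟩⟩)) T) fun hb => ?_
        exact absurd ⟨F, i1, i2, hq, h11, ⟨e⟩⟩ hb
      · have h5' : Fintype.card F = 5 := by omega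
        obtain ⟨e5⟩ := Cfsg.Agent.S0253.result h5'
        haveI : Fact (Nat.Prime 2) := ⟨Nat.prime_two⟩
        letI : Fintype (GaloisField 2 2) := Fintype.ofFinite _
        obtain ⟨e4⟩ := Cfsg.Agent.S0252.result (F := GaloisField 2 2) (by
          rw [← Nat.card_eq_fintype_card, GaloisField.card 2 2 two_ne_zero]; norm_num)
        exact even (GaloisField 2 2) 2 le_rfl (by
          rw [← Nat.card_eq_fintype_card, GaloisField.card 2 2 two_ne_zero]) ((e.trans e5).trans e4.symm)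
    · exact even F n hn hc e
  · refine local_of_good (h.good T) fun _ u hu hu1 Y ho => (h.good T).core ?_ u hu hu1 Y ho
    exact ((h.1 T).1).ge

/-! ### Suzuki groups -/

/-- The Suzuki groups. -/
theorem local_suzuki (hs : Cfsg.Lie.IsoSuzuki K) (T : Sylow 2 K) : Local T := by
  have hl : Cfsg.IsSuzukiOrPSL2OddPowerThree K := Or.inl hs
  obtain ⟨k, hk⟩ := S3Simple.exists_twoLocal hl T
  have hK : ¬ IsMulCommutative K := fun hc => S3Simple.suzuki_sylow hs T ⟨⟨fun a b => Subtype.ext (hc.1.comm _ _)⟩⟩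
  have hinner : ∀ φ : MulAut K, φ * φ = 1 → (∀ x ∈ (T : Subgroup K), x * x = 1 → φ x = x) →
      ∃ q ∈ (T : Subgroup K), φ = MulAut.conj q := by
    intro φ h2 hfix
    obtain ⟨F, i1, i2, m, hm, hc, ⟨e0⟩⟩ := hs
    let e := e0.trans (Suzuki.lieEquiv hc hm).symm
    obtain ⟨j, -, hj⟩ := (Nat.dvd_prime_pow Nat.prime_two).mp (orderOf_dvd_of_pow_eq_one
      (show MulAut.congr e φ ^ 2 ^ 1 = 1 by rw [pow_one, pow_two, ← map_mul, h2, map_one]))
    obtain ⟨g, hg⟩ := S3Simple.SzModel.inner_of_two hc hm (MulAut.congr e φ) hj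
    have hφ : φ = MulAut.conj (e.symm g) := (MulAut.congr e).injective (by
      rw [WalterAb.congr_conj, MulEquiv.apply_symm_apply, hg])
    refine ⟨_, hk.cent _ fun y hy hy2 => ?_, hφ⟩
    have := hfix y hy hy2
    rwa [hφ, MulAut.conj_apply, mul_inv_eq_iff_eq_mul] at this
  refine ⟨hk.central, hk.four, ⟨k, mem_normalizer_iff.mpr fun x => (hk.norm x).symm, hk.trans⟩,
    fun φ h2 hfix _ => hinner φ h2 hfix, fun _ u _ hu2 hu1 Y ho hfix hn => S3Simple.suzuki_core hs hu1 hu2 Y ho hfix hn,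
    fun _ φ h2 hfix hne => ?_⟩
  obtain ⟨q, hq, hφ⟩ := hinner φ h2 hfix
  exact absurd hφ (hne q hq)

end CfsgLib.GoldSC
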