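import Cfsg.Agent.Lib.GoldSC.Facts
import Cfsg.Agent.Lib.Walter.Ab.Main
import Cfsg.Agent.Lib.GoldSC.Four.Main
import Cfsg.Agent.Lib.S3Simple.Setup

/-!
Irreducible closed subgroups of a minimal counterexample, and the reduction to the two configurations.

Blueprint: `blueprint/Goldschmidt.md`, A4.
-/

set_option autoImplicit false
set_option linter.unusedSectionVars false
set_option linter.style.haveILetI false

namespace CfsgLib.GoldSC

open Cfsg Subgroup CfsgLib CfsgLib.Comp CfsgLib.AfterFT.CoreSep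
open CfsgLib.S3Simple (Closed Irred)

universe u

variable {G : Type u} [Group G] [Finite G] {S : Sylow 2 G} {A : Subgroup G}

theorem Hyp.core_eq_bot (h : Hyp G) : pPrimeCore 2 G = ⊥ := by
  haveI := h.simple
  haveI : Fact (Nat.Prime 2) := ⟨Nat.prime_two⟩
  refine CfsgLib.CyclicInt.pPrimeCore_eq_bot fun hc => ?_
  obtain ⟨T⟩ : Nonempty (Sylow 2 G) := inferInstance
  exact h.nonabel T ⟨⟨fun a b => Subtype.ext (hc.1.comm _ _)⟩⟩

/-- `|A| ≠ 2`, by the Z*-theorem. -/
theorem Hyp.four_le_card (h : Hyp G) (hA : Closed S A) : 4 ≤ Nat.card A := by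
  haveI : Fact (Nat.Prime 2) := ⟨Nat.prime_two⟩
  obtain ⟨n, hn⟩ := IsPGroup.iff_card.mp hA.isPGroup
  rcases n with - | - | n
  · rw [pow_zero] at hn
    exact absurd (card_eq_one.mp hn) hA.ne_bot
  · exfalso
    rw [zero_add, pow_one] at hn
    obtain ⟨z, hz, hz1⟩ := A.bot_or_exists_ne_one.resolve_left hA.ne_bot
    have huniq : ∀ x ∈ A, x ≠ 1 → x = z := fun x hx hx1 => by
      obtain ⟨u, hu, hu'⟩ := Nat.card_eq_two_iff' (1 : A) |>.mp hn
      have e1 := hu' ⟨x, hx⟩ fun e => hx1 (congrArg Subtype.val e)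
      have e2 := hu' ⟨z, hz⟩ fun e => hz1 (congrArg Subtype.val e)
      exact congrArg Subtype.val (e1.trans e2.symm)
    have hz2 := hA.orderOf_eq_two hz hz1
    have hiso := CfsgLib.ZStar.isolated_of_sylow S hz2 (hA.le hz) fun g hg =>
      huniq _ (hA.closed.2 z hz g hg) fun e => hz1 (by simpa using e)
    refine h.cc_ne_top hz1 (eq_top_iff.mpr fun g _ => AfterFT.CoreSep.mem_cc.mpr ?_)
    have h1 := CfsgLib.ZStar.commutator_mem hz2 hiso g
    rw [h.core_eq_bot, mem_bot, mul_inv_eq_iff_eq_mul, one_mul, mul_inv_eq_iff_eq_mul] at h1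
    exact h1.symm
  · rw [hn]
    calc 4 = 2 ^ 2 := rfl
      _ ≤ _ := Nat.pow_le_pow_right (by norm_num) (by omega)

/-- The elements of order two of a strongly closed abelian subgroup form a closed subgroup. -/
theorem exists_closed (S : Sylow 2 G) {A : Subgroup G} (h1 : A ≠ ⊥) (hc : IsMulCommutative A)
    (hA : IsStronglyClosed A (S : Subgroup G)) : ∃ B : Subgroup G, Closed S B := by
  haveI : Fact (Nat.Prime 2) := ⟨Nat.prime_two⟩
  have hcomm : ∀ x ∈ A, ∀ y ∈ A, x * y = y * x := fun x hx y hy =>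
    congrArg Subtype.val (hc.1.comm ⟨x, hx⟩ ⟨y, hy⟩)
  let B : Subgroup G :=
    { carrier := {x | x ∈ A ∧ x * x = 1}
      one_mem' := ⟨A.one_mem, mul_one 1⟩
      mul_mem' := fun {x y} hx hy => ⟨A.mul_mem hx.1 hy.1, by
        calc x * y * (x * y) = x * (y * x) * y := by group
          _ = x * (x * y) * y := by rw [hcomm y hy.1 x hx.1]
          _ = x * x * (y * y) := by group
          _ = 1 := by rw [hx.2, hy.2, one_mul]⟩
      inv_mem' := fun {x} hx => ⟨A.inv_mem hx.1, by rw [← _root_.mul_inv_rev, hx.2, inv_one]⟩ }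
  refine ⟨B, fun x hx => hA.1 hx.1, ⟨⟨⟨fun x y => Subtype.ext (hcomm x x.2.1 y y.2.1)⟩⟩,
    fun x hx => by rw [pow_two]; exact hx.2⟩, ?_, fun x hx => hA.1 hx.1, fun x hx g hg => ⟨hA.2 x hx.1 g hg, ?_⟩⟩
  · intro e
    have hp : IsPGroup 2 A := S.2.to_le hA.1
    haveI : Nontrivial A := (nontrivial_iff_ne_bot A).mpr h1
    obtain ⟨n, hn, hcard⟩ := hp.nontrivial_iff_card.mp inferInstance
    obtain ⟨z, hz⟩ := exists_prime_orderOf_dvd_card' (G := A) 2 (hcard ▸ dvd_pow_self 2 (by omega))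
    have hmem : (z : G) ∈ B := ⟨z.2, congrArg Subtype.val (show z * z = 1 by rw [← pow_two, ← hz, pow_orderOf_eq_one])⟩
    rw [e, mem_bot] at hmem
    rw [show z = 1 from Subtype.ext hmem, orderOf_one] at hz
    norm_num at hz
  · rw [show g * x * g⁻¹ * (g * x * g⁻¹) = g * (x * x) * g⁻¹ by group, hx.2, mul_one, mul_inv_cancel]

/-- An irreducible closed subgroup, of order four or at least eight. -/
theorem Hyp.exists_irred (h : Hyp G) {B : Subgroup G} (hB : Closed S B) :
    ∃ A : Subgroup G, Closed S A ∧ Irred A ∧ (Nat.card A = 4 ∨ 8 ≤ Nat.card A) := by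
  haveI : Fact (Nat.Prime 2) := ⟨Nat.prime_two⟩
  obtain ⟨A, -, hA, hI, -⟩ := hB.exists_irred le_rfl hB.ne_bot le_rfl
  obtain ⟨n, hn⟩ := IsPGroup.iff_card.mp hA.isPGroup
  refine ⟨A, hA, hI, ?_⟩
  rw [hn]
  exact WalterAb.four_or_eight (hn ▸ h.four_le_card hA)

/-- The statement, once the configurations with `|A| ≥ 8` are killed. -/
theorem main_of_eight
    (h8 : ∀ (G : Type u) [Group G] [Finite G], Hyp G → ∀ (S : Sylow 2 G) (A : Subgroup G),
      Closed S A → Irred A → 8 ≤ Nat.card A → False) :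
    ∀ (G : Type u) [Group G] [Finite G], Q G := by
  intro G _ _
  induction hn : Nat.card G using Nat.strong_induction_on generalizing G with
  | _ n ih =>
    intro hs S A hA1 hAc hcl
    by_contra! hno
    haveI : Fact (Nat.Prime 2) := ⟨Nat.prime_two⟩
    have h : Hyp G := ⟨hs, fun Y _ _ hY => ih _ (hn ▸ hY) Y rfl, fun T hT => hno.1 ⟨⟨fun a b => ?_⟩⟩, hno.2⟩
    swap
    · haveI := hT
      exact (Sylow.equiv S T).injective (by rw [map_mul, map_mul]; exact hT.1.comm _ _)
    obtain ⟨B, hB⟩ := exists_closed S hA1 hAc hcl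
    obtain ⟨A', hA', hI, h4 | h8'⟩ := h.exists_irred hB
    · exact false_of_four h (facts h) hA' hI h4
    · exact h8 G h S A' hA' hI h8'

end CfsgLib.GoldSC
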