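import Cfsg.Agent.Lib.GoldSC.Blocks
import Cfsg.Agent.Lib.GoldSC.Inner
import Cfsg.Agent.Lib.Walter.Ab.Psl
import Cfsg.Agent.Lib.S3Simple.Many.Balance

/-!
Balance on the subgroups of order eight and the subgroup `W` of odd order.

Blueprint: `blueprint/Goldschmidt.md`, E (port of `Lib/Walter/Ab/W`).
-/

set_option autoImplicit false
set_option linter.unusedSectionVars false
set_option linter.style.haveILetI false

namespace CfsgLib.GoldSC

open Cfsg Subgroup CfsgLib CfsgLib.Comp CfsgLib.AfterFT.CoreSep CfsgLib.Signalizer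
open CfsgLib.S3Simple (Closed Blocked IsBlock blockD mem_blockD blockD_le imA mem_imA oddSolv)
open CfsgLib.S3Simple.Many (gen delta_odd normalizes_gen)

universe u

variable {G : Type u} [Group G] [Finite G] {S : Sylow 2 G} {A : Subgroup G}

/-- A component with a block of order at least eight is not `L₂(q)`, `q ≡ 3, 5 mod 8`. -/
theorem not_big_of_block (hA : Closed S A) {a : G} (ha : a ∈ A) {E : Subgroup (qq a)} {V : Subgroup G} {k : G}
    (hk : IsBlock A (blockD A a E) V k) (hVE : ∀ v ∈ V, ∀ hv : v ∈ cc a, ff a ⟨v, hv⟩ ∈ E)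
    (h8 : 8 ≤ Nat.card V) : ¬ Big (↥E ⧸ center ↥E) := by
  haveI : Fact (Nat.Prime 2) := ⟨Nat.prime_two⟩
  rintro ⟨F, i1, i2, hq, -, ⟨e⟩⟩
  have hcV : ∀ v : V, (v : G) ∈ cc a := fun v => hA.mem_cc ha (hk.V_le v.2)
  let f : V →* ↥E ⧸ center ↥E :=
    { toFun := fun v => QuotientGroup.mk' _ ⟨_, hVE v v.2 (hcV v)⟩
      map_one' := (congrArg (QuotientGroup.mk' _) (Subtype.ext (map_one (ff a)))).trans (map_one _)
      map_mul' := fun v w => by
        rw [← map_mul]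
        exact congrArg _ (Subtype.ext (map_mul (ff a) ⟨_, hcV v⟩ ⟨_, hcV w⟩)) }
  have hinj : Function.Injective f := (injective_iff_map_eq_one f).mpr fun v hv => by
    have h1 := (QuotientGroup.eq_one_iff _).mp hv
    have hD : (v : G) ∈ blockD A a E := (mem_blockD (hcV v)).mpr
      ⟨hk.V_le v.2, fun x hx => congrArg Subtype.val (mem_center_iff.mp h1 ⟨x, hx⟩)⟩
    exact Subtype.ext (mem_bot.mp (hk.disjoint.le ⟨hD, v.2⟩))
  obtain ⟨n, hn⟩ := IsPGroup.iff_card.mp (hA.isPGroup.to_le hk.V_le)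
  refine WalterAb.not_eight_dvd hq ?_
  rw [← Nat.card_congr e.toEquiv]
  refine (?_ : 8 ∣ Nat.card V).trans (card_dvd_of_injective f hinj)
  rw [hn] at h8 ⊢
  exact pow_dvd_pow 2 (show 3 ≤ n from (Nat.pow_le_pow_iff_right (le_refl 2)).mp h8)

/-- Balance on the subgroups of order eight. -/
theorem Hyp.balanced (h : Hyp G) (hA : Closed S A) : KFunctor.BalancedOn 2 3 A := by
  haveI : Fact (Nat.Prime 2) := ⟨Nat.prime_two⟩
  intro B hB hBk c hc hc1 w hw
  obtain ⟨b₀, hb₀, hb₀1⟩ := B.bot_or_exists_ne_one.resolve_left fun e0 => by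
    rw [e0, card_bot] at hBk
    norm_num at hBk
  refine mem_core_of_centralizes (hA.mem_cc hc (hB hb₀)) (hA.sq (hB hb₀)) (KFunctor.mem_delta.1 hw.1 b₀ hb₀ hb₀1)
    hw.2 fun E hE => ?_
  by_cases hmeet : ∃ b ∈ B, b ∈ blockD A c E ∧ b ≠ 1
  · obtain ⟨b, hb, hbD, hb1⟩ := hmeet
    exact CfsgLib.S3Simple.core_centralizes_component (hA.mem_cc hc (hB hb)) (hA.sq (hB hb))
      (KFunctor.mem_delta.1 hw.1 b hb hb1) hw.2 hE ((mem_blockD (hA.mem_cc hc (hB hb))).mp hbD).2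
  push Not at hmeet
  have hdis : B ⊓ blockD A c E = ⊥ := (eq_bot_iff_forall _).mpr fun x hx => hmeet x hx.1 hx.2
  have hne : blockD A c E ≠ A := fun e => hb₀1 (hmeet b₀ hb₀ (e.symm ▸ hB hb₀))
  obtain ⟨V, k, hk, -, hVE⟩ := h.exists_block' hA hc hc1 hE hne
  have hV8 : 8 ≤ Nat.card V := by
    have h1 := CfsgLib.S3Simple.card_mul_le_of_disjoint hB (blockD_le c E) hdis
    rw [hBk, hk.card_eq hA, mul_comm (2 ^ 3)] at h1
    exact Nat.le_of_mul_le_mul_left h1 Nat.card_pos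
  obtain ⟨T, hT⟩ := hA.imA_closed hc
  have hbc : b₀ ∈ cc c := hA.mem_cc hc (hB hb₀)
  have hbim := mem_imA (hB hb₀) hbc
  have hnc := CfsgLib.S3Simple.not_le_centralizer hA hc hne
  obtain ⟨v, hv, hvc⟩ := (h.ctx hc1).exists_inner_part hT hE hnc hbim
  exact (h.ctx hc1).core_centralizes hT hE hnc (not_big_of_block hA hc hk hVE hV8)
    (by rw [← map_mul, show (⟨b₀, hbc⟩ : ↥(cc c)) * ⟨b₀, hbc⟩ = 1 from Subtype.ext (hA.sq (hB hb₀)), map_one])
    (fun x hx => hT.comm hbim hx) hv hvc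
    (fun hb => hb₀1 (hmeet b₀ hb₀ ((mem_blockD hbc).mpr ⟨hB hb₀, hb⟩)))
    (image_core hbc (hA.sq (hB hb₀)) ⟨w, hw.2⟩ (KFunctor.mem_delta.1 hw.1 b₀ hb₀ hb₀1))

/-- `W` is already generated inside every subgroup of order at least sixteen. -/
theorem Hyp.gen_le (h : Hyp G) (hA : Closed S A) {H : Subgroup G} (hH : H ≤ A) (hHk : 16 ≤ Nat.card H) :
    gen 2 A ≤ gen 2 H := by
  haveI : Fact (Nat.Prime 2) := ⟨Nat.prime_two⟩
  refine iSup_le fun ⟨B, hB, hBk⟩ => ?_
  show signalizerDelta 2 B ≤ _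
  rw [gen_index (ea_le hA.elem hH) (delta_odd hBk) (hH.trans (KFunctor.delta_normalizes hA.elem hB))]
  refine iSup_le fun ⟨E, hE, hEi⟩ x hx => ?_
  have hEk : 2 ^ 3 ≤ Nat.card E := by
    have := hHk.trans (CfsgLib.S3Simple.card_le_two_mul hE hEi)
    norm_num
    omega
  obtain ⟨D, hDE, hDk⟩ := KFunctor.exists_sub (k := 3) hA.elem (hE.trans hH) hEk
  refine le_iSup (fun D : {D : Subgroup G // D ≤ H ∧ Nat.card ↥D = 2 ^ (2 + 1)} => signalizerDelta 2 (D : Subgroup G))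
    ⟨D, hDE.trans hE, hDk⟩ (KFunctor.promote (h.balanced hA) hB hBk (hDE.trans (hE.trans hH)) hx.1 ?_)
  exact centralizer_le hDE hx.2

theorem Hyp.odd_gen (h : Hyp G) (hA : Closed S A) (h32 : 32 ≤ Nat.card A) : Odd (Nat.card (gen 2 A)) := by
  haveI : Fact (Nat.Prime 2) := ⟨Nat.prime_two⟩
  set θ : G → Subgroup G := fun a => ⨆ D : {D : Subgroup G // D ≤ A ∧ Nat.card ↥D = 2 ^ (2 + 1)},
    signalizerDelta 2 (D : Subgroup G) ⊓ centralizer {a} with hθdef
  have hθ : IsSignalizerFunctor 2 A θ := KFunctor.isSignalizerFunctor_on (h.balanced hA) hA.elem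
    (by norm_num; omega) fun a _ _ => oddSolv _ (odd_card_core a)
  have hcore : ∀ a ∈ A, a ≠ 1 → θ a ≤ centralizerPPrimeCore 2 a := fun a ha ha1 =>
    iSup_le fun D => h.balanced hA D D.2.1 D.2.2 a ha ha1
  have key := (Cfsg.Agent.S0217.result (p := 2) A (fun a ha b hb => hA.comm ha hb)
    (fun a ha => hA.elem.2 a ha) (by norm_num; omega) θ hθ.1 hθ.2.1 hθ.2.2.1
    (fun a ha ha1 => oddSolv _ (odd_of_le (hcore a ha ha1) (odd_card_core a))) hθ.2.2.2).1
  refine odd_of_le (iSup_le fun ⟨B, hB, hBk⟩ => ?_) (Nat.odd_iff.mpr (Nat.two_dvd_ne_zero.mp key))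
  show signalizerDelta 2 B ≤ _
  rw [gen_index hA.elem (delta_odd hBk) (KFunctor.delta_normalizes hA.elem hB)]
  refine iSup_le fun ⟨E, hE, hEi⟩ x hx => ?_
  obtain ⟨a, ha, ha1⟩ := E.bot_or_exists_ne_one.resolve_left fun e0 => by
    have h2 := h32.trans (CfsgLib.S3Simple.card_le_two_mul hE hEi)
    rw [e0, card_bot] at h2
    omega
  exact le_iSup (fun a : {a : G // a ∈ A ∧ a ≠ 1} => θ a) ⟨a, hE ha, ha1⟩
    (le_iSup (fun D : {D : Subgroup G // D ≤ A ∧ Nat.card ↥D = 2 ^ (2 + 1)} =>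
      signalizerDelta 2 (D : Subgroup G) ⊓ centralizer {a}) ⟨B, hB, hBk⟩
      ⟨hx.1, mem_centralizer_singleton_iff.2 (hx.2 a ha).symm⟩)

/-- The centraliser of a subgroup of order at least sixteen normalises `W`. -/
theorem Hyp.centralizer_le_normalizer_gen (h : Hyp G) (hA : Closed S A) {H : Subgroup G} (hH : H ≤ A)
    (hHk : 16 ≤ Nat.card H) : centralizer (H : Set G) ≤ normalizer (gen 2 A : Set G) := by
  have he : gen 2 A = gen 2 H := le_antisymm (h.gen_le hA hH hHk) (iSup_le fun D => le_iSup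
    (fun D : {D : Subgroup G // D ≤ A ∧ Nat.card ↥D = 2 ^ (2 + 1)} => signalizerDelta 2 (D : Subgroup G))
    ⟨D, D.2.1.trans hH, D.2.2⟩)
  intro x hx
  rw [he]
  refine normalizes_gen ?_
  rintro _ ⟨y, hy, rfl⟩
  show x * y * x⁻¹ ∈ H
  rwa [← hx y hy, mul_inv_cancel_right]

/-- The cores at the elements of `A` normalise `W`. -/
theorem Hyp.core_le_normalizer_gen (h : Hyp G) (hA : Closed S A) (h32 : 32 ≤ Nat.card A) {a : G} (ha : a ∈ A) :
    centralizerPPrimeCore 2 a ≤ normalizer (gen 2 A : Set G) := by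
  haveI : Fact (Nat.Prime 2) := ⟨Nat.prime_two⟩
  have hodd : ¬ 2 ∣ Nat.card (centralizerPPrimeCore 2 a) := fun h2 =>
    Nat.not_odd_iff_even.mpr (even_iff_two_dvd.mpr h2) (odd_card_core a)
  rw [gen_index hA.elem hodd (fun x hx => cc_le_normalizer_core a (hA.mem_cc ha hx))]
  refine iSup_le fun ⟨H, hH, hHi⟩ x hx => h.centralizer_le_normalizer_gen hA hH ?_ hx.2
  have := h32.trans (CfsgLib.S3Simple.card_le_two_mul hH hHi)
  omega

/-- The normaliser of `A` normalises `W`. -/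
theorem Hyp.normalizer_le_normalizer_gen (hA : Closed S A) :
    normalizer (A : Set G) ≤ normalizer (gen 2 A : Set G) := fun g hg => normalizes_gen (by
  rintro _ ⟨y, hy, rfl⟩
  exact (mem_normalizer_iff.mp hg y).mp hy)

end CfsgLib.GoldSC
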